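import Cfsg.Agent.H930.UnitaryTwo

/-!
# Tensor decompositions of forms: pure tensors, and the case `2 ⊗ m` over the field with four elements
-/

set_option autoImplicit false
set_option linter.unusedSectionVars false

namespace Cfsg.Agent.H930

open Cfsg Cfsg.Geo
open scoped Matrix MatrixGroups Kronecker

variable {ι : Type} [Fintype ι] [DecidableEq ι] {F : Type*} [Field F]

/-- The pure tensor `x ⊗ y`. -/
def tv {n₁ n₂ : ℕ} (x : Fin n₁ → F) (y : Fin n₂ → F) : Fin n₁ × Fin n₂ → F := fun p => x p.1 * y p.2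

/-- The pure tensor as a linear map in the second argument. -/
def tvRight {n₁ : ℕ} (n₂ : ℕ) (x : Fin n₁ → F) : (Fin n₂ → F) →ₗ[F] (Fin n₁ × Fin n₂ → F) where
  toFun y := tv x y
  map_add' y z := by ext p; simp [tv, mul_add]
  map_smul' c y := by ext p; simp [tv, mul_left_comm]

theorem tv_add_left {n₁ n₂ : ℕ} (x x' : Fin n₁ → F) (y : Fin n₂ → F) : tv (x + x') y = tv x y + tv x' y := by
  ext p; simp [tv, add_mul]

theorem tv_smul_left {n₁ n₂ : ℕ} (c : F) (x : Fin n₁ → F) (y : Fin n₂ → F) : tv (c • x) y = c • tv x y := by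
  ext p; simp [tv, mul_assoc]

theorem tv_add_right {n₁ n₂ : ℕ} (x : Fin n₁ → F) (y y' : Fin n₂ → F) : tv x (y + y') = tv x y + tv x y' := by
  ext p; simp [tv, mul_add]

theorem tv_smul_right {n₁ n₂ : ℕ} (c : F) (x : Fin n₁ → F) (y : Fin n₂ → F) : tv x (c • y) = c • tv x y := by
  ext p; simp [tv, mul_left_comm]

/-- The Kronecker product acts on pure tensors factorwise. -/
theorem kronecker_mulVec_tv {n₁ n₂ : ℕ} (a : Matrix (Fin n₁) (Fin n₁) F) (b : Matrix (Fin n₂) (Fin n₂) F)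
    (x : Fin n₁ → F) (y : Fin n₂ → F) : (a ⊗ₖ b) *ᵥ tv x y = tv (a *ᵥ x) (b *ᵥ y) := by
  ext ⟨i, j⟩
  simp only [Matrix.mulVec, dotProduct, tv, Matrix.kroneckerMap_apply, Fintype.sum_prod_type, Finset.sum_mul_sum]
  refine Finset.sum_congr rfl fun k _ => Finset.sum_congr rfl fun l _ => ?_
  ring

/-- Elements of `tensorProductSubgroup` act on pure tensors factorwise. -/
theorem exists_of_mem_tensorProductSubgroup {n₁ n₂ : ℕ} {e : ι ≃ Fin n₁ × Fin n₂} {P g : GL ι F}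
    (hg : g ∈ tensorProductSubgroup n₁ n₂ e P) :
    ∃ (a : GL (Fin n₁) F) (b : GL (Fin n₂) F), ∀ (x : Fin n₁ → F) (y : Fin n₂ → F),
      (g : Matrix ι ι F) *ᵥ ((P : Matrix ι ι F) *ᵥ (tv x y ∘ e)) =
        (P : Matrix ι ι F) *ᵥ (tv ((a : Matrix (Fin n₁) (Fin n₁) F) *ᵥ x) ((b : Matrix (Fin n₂) (Fin n₂) F) *ᵥ y) ∘ e) := by
  obtain ⟨h, ⟨k, ⟨a, b, hab⟩, rfl⟩, rfl⟩ := hg
  refine ⟨a, b, fun x y => ?_⟩
  have h1 : ((MulAut.conj P).toMonoidHom ((glReindex e.symm).toMonoidHom k) : GL ι F) =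
      P * glReindex e.symm k * P⁻¹ := rfl
  rw [h1, Units.val_mul, Units.val_mul, Matrix.mulVec_mulVec, mul_assoc, ← Units.val_mul P⁻¹ P,
    inv_mul_cancel, Units.val_one, mul_one, ← Matrix.mulVec_mulVec]
  congr 1
  have h2 : ((glReindex e.symm k : GL ι F) : Matrix ι ι F) = (k : Matrix _ _ F).submatrix e e := rfl
  rw [h2, hab]
  have h3 : ((((a : Matrix (Fin n₁) (Fin n₁) F) ⊗ₖ (b : Matrix (Fin n₂) (Fin n₂) F)).submatrix e e) *ᵥ (tv x y ∘ e)) =
      (((a : Matrix (Fin n₁) (Fin n₁) F) ⊗ₖ (b : Matrix (Fin n₂) (Fin n₂) F)) *ᵥ tv x y) ∘ e := by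
    ext i
    simp only [Matrix.mulVec, dotProduct, Matrix.submatrix_apply, Function.comp]
    exact e.sum_comp (fun p => ((a : Matrix (Fin n₁) (Fin n₁) F) ⊗ₖ (b : Matrix (Fin n₂) (Fin n₂) F)) (e i) p * tv x y p)
  rw [h3, kronecker_mulVec_tv]

/-- The form with a Kronecker product as Gram matrix on pure tensors. -/
theorem formOfGram_tv {n₁ n₂ : ℕ} (σ : F → F) (hσ : ∀ a b, σ (a * b) = σ a * σ b)
    (G₁ : Matrix (Fin n₁) (Fin n₁) F) (G₂ : Matrix (Fin n₂) (Fin n₂) F) (x x' : Fin n₁ → F) (y y' : Fin n₂ → F) :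
    formOfGram σ (G₁ ⊗ₖ G₂) (tv x y) (tv x' y') = formOfGram σ G₁ x x' * formOfGram σ G₂ y y' := by
  simp only [formOfGram, Fintype.sum_prod_type, tv, Matrix.kroneckerMap_apply, hσ]
  rw [Finset.sum_mul_sum]
  refine Finset.sum_congr rfl fun i _ => ?_
  refine Finset.sum_congr rfl fun j _ => ?_
  rw [Finset.sum_mul_sum]
  refine Finset.sum_congr rfl fun k _ => ?_
  refine Finset.sum_congr rfl fun l _ => ?_
  ring

/-- A unitary form is given by its Gram matrix. -/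
theorem formOfGram_gramMatrix [Fintype F] {q : ℕ} (hF : Fintype.card F = q ^ 2) {κ : Type} [Fintype κ]
    [DecidableEq κ] {f : (κ → F) → (κ → F) → F} (hf : IsUnitaryFormPow q f) (x y : κ → F) :
    formOfGram (fun a : F => a ^ q) (gramMatrix f) x y = f x y := by
  classical
  have hx : ∀ (x v : κ → F) (s : Finset κ), f (∑ i ∈ s, x i • Pi.single i (1 : F)) v =
      ∑ i ∈ s, x i * f (Pi.single i 1) v := by
    intro x v s
    induction s using Finset.induction_on with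
    | empty => simp [UForm.zero_left hf]
    | insert a s ha ih => rw [Finset.sum_insert ha, Finset.sum_insert ha, hf.add_left, hf.smul_left, ih]
  have hy : ∀ (u y : κ → F) (s : Finset κ), f u (∑ i ∈ s, y i • Pi.single i (1 : F)) =
      ∑ i ∈ s, f u (Pi.single i 1) * (y i) ^ q := by
    intro u y s
    induction s using Finset.induction_on with
    | empty => simp [UForm.zero_right hf (q_ne_zero hF)]
    | insert a s ha ih =>
      rw [Finset.sum_insert ha, Finset.sum_insert ha, UForm.add_right hF hf, UForm.smul_right hf, ih, mul_comm]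
  have hsum : ∀ z : κ → F, ∑ i, z i • Pi.single i (1 : F) = z := by
    intro z
    ext j
    simp [Finset.sum_apply, Pi.single_apply]
  conv_rhs => rw [← hsum x, hx, ← hsum y]
  simp only [formOfGram, gramMatrix]
  refine Finset.sum_congr rfl fun i _ => ?_
  rw [hy, Finset.mul_sum]
  refine Finset.sum_congr rfl fun j _ => ?_
  ring

/-- The value of a unitary form with a tensor structure on (the images of) pure tensors. -/
theorem form_tv [Fintype F] {q : ℕ} (hF : Fintype.card F = q ^ 2) {f : (ι → F) → (ι → F) → F} {n₁ n₂ : ℕ}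
    {f₁ : (Fin n₁ → F) → (Fin n₁ → F) → F} {f₂ : (Fin n₂ → F) → (Fin n₂ → F) → F} {e : ι ≃ Fin n₁ × Fin n₂}
    {P : GL ι F} (h₁ : IsUnitaryFormPow q f₁) (h₂ : IsUnitaryFormPow q f₂)
    (hT : IsTensorFormStructure (fun x : F => x ^ q) f f₁ f₂ e P) :
    ∃ c : F, c ≠ 0 ∧ ∀ (x x' : Fin n₁ → F) (y y' : Fin n₂ → F),
      f ((P : Matrix ι ι F) *ᵥ (tv x y ∘ e)) ((P : Matrix ι ι F) *ᵥ (tv x' y' ∘ e)) = c * (f₁ x x' * f₂ y y') := by
  obtain ⟨c, hc, hcf⟩ := hT
  refine ⟨c, hc, fun x x' y y' => ?_⟩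
  rw [hcf, formOfGram_tv _ (fun a b => mul_pow a b q), formOfGram_gramMatrix hF h₁, formOfGram_gramMatrix hF h₂]

/-- **Tensor factors of isometries are similarities.** If an element of the tensor product subgroup preserves the
form then its two factors multiply the two forms by mutually inverse scalars. -/
theorem factors_similarity [Fintype F] {q : ℕ} (hF : Fintype.card F = q ^ 2) {f : (ι → F) → (ι → F) → F}
    {n₁ n₂ : ℕ} (hn₁ : 0 < n₁) (hn₂ : 0 < n₂)
    {f₁ : (Fin n₁ → F) → (Fin n₁ → F) → F} {f₂ : (Fin n₂ → F) → (Fin n₂ → F) → F} {e : ι ≃ Fin n₁ × Fin n₂}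
    {P : GL ι F} (h₁ : IsUnitaryFormPow q f₁) (h₂ : IsUnitaryFormPow q f₂)
    (hT : IsTensorFormStructure (fun x : F => x ^ q) f f₁ f₂ e P) {g : GL ι F}
    (hg : g ∈ tensorProductSubgroup n₁ n₂ e P)
    (hgf : ∀ u v, f ((g : Matrix ι ι F) *ᵥ u) ((g : Matrix ι ι F) *ᵥ v) = f u v) :
    ∃ (a : GL (Fin n₁) F) (b : GL (Fin n₂) F) (c : F), c ≠ 0 ∧
      (∀ (x : Fin n₁ → F) (y : Fin n₂ → F),
      (g : Matrix ι ι F) *ᵥ ((P : Matrix ι ι F) *ᵥ (tv x y ∘ e)) =
        (P : Matrix ι ι F) *ᵥ (tv ((a : Matrix (Fin n₁) (Fin n₁) F) *ᵥ x) ((b : Matrix (Fin n₂) (Fin n₂) F) *ᵥ y) ∘ e)) ∧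
      (∀ x x', f₁ ((a : Matrix (Fin n₁) (Fin n₁) F) *ᵥ x) ((a : Matrix (Fin n₁) (Fin n₁) F) *ᵥ x') = c * f₁ x x') ∧
      (∀ y y', f₂ ((b : Matrix (Fin n₂) (Fin n₂) F) *ᵥ y) ((b : Matrix (Fin n₂) (Fin n₂) F) *ᵥ y') = c⁻¹ * f₂ y y') := by
  obtain ⟨a, b, hab⟩ := exists_of_mem_tensorProductSubgroup hg
  obtain ⟨d, hd, hdf⟩ := form_tv hF h₁ h₂ hT
  have key : ∀ (x x' : Fin n₁ → F) (y y' : Fin n₂ → F),
      f₁ ((a : Matrix (Fin n₁) (Fin n₁) F) *ᵥ x) ((a : Matrix (Fin n₁) (Fin n₁) F) *ᵥ x') *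
        f₂ ((b : Matrix (Fin n₂) (Fin n₂) F) *ᵥ y) ((b : Matrix (Fin n₂) (Fin n₂) F) *ᵥ y') =
      f₁ x x' * f₂ y y' := by
    intro x x' y y'
    have h := hgf ((P : Matrix ι ι F) *ᵥ (tv x y ∘ e)) ((P : Matrix ι ι F) *ᵥ (tv x' y' ∘ e))
    rw [hab, hab, hdf, hdf] at h
    exact mul_left_cancel₀ hd h
  -- choose non-orthogonal pairs
  obtain ⟨x₀, x₁, hx⟩ : ∃ x₀ x₁, f₁ x₀ x₁ ≠ 0 := by
    obtain ⟨⟨x, hx⟩, -⟩ := h₁.nondegenerate (Pi.single ⟨0, hn₁⟩ 1) (by simp)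
    exact ⟨_, _, hx⟩
  obtain ⟨y₀, y₁, hy⟩ : ∃ y₀ y₁, f₂ y₀ y₁ ≠ 0 := by
    obtain ⟨⟨x, hx⟩, -⟩ := h₂.nondegenerate (Pi.single ⟨0, hn₂⟩ 1) (by simp)
    exact ⟨_, _, hx⟩
  have hxy := key x₀ x₁ y₀ y₁
  have hA : f₁ ((a : Matrix (Fin n₁) (Fin n₁) F) *ᵥ x₀) ((a : Matrix (Fin n₁) (Fin n₁) F) *ᵥ x₁) ≠ 0 := by
    intro h
    rw [h, zero_mul] at hxy
    exact (mul_ne_zero hx hy) hxy.symm
  have hB : f₂ ((b : Matrix (Fin n₂) (Fin n₂) F) *ᵥ y₀) ((b : Matrix (Fin n₂) (Fin n₂) F) *ᵥ y₁) ≠ 0 := by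
    intro h
    rw [h, mul_zero] at hxy
    exact (mul_ne_zero hx hy) hxy.symm
  set c : F := f₁ ((a : Matrix (Fin n₁) (Fin n₁) F) *ᵥ x₀) ((a : Matrix (Fin n₁) (Fin n₁) F) *ᵥ x₁) / f₁ x₀ x₁ with hc
  have hc0 : c ≠ 0 := div_ne_zero hA hx
  have hyc : ∀ y y', f₂ ((b : Matrix (Fin n₂) (Fin n₂) F) *ᵥ y) ((b : Matrix (Fin n₂) (Fin n₂) F) *ᵥ y') = c⁻¹ * f₂ y y' := by
    intro y y'
    have h := key x₀ x₁ y y'
    rw [hc, inv_div]
    field_simp
    linear_combination h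
  refine ⟨a, b, c, hc0, hab, ?_, hyc⟩
  intro x x'
  have h := key x x' y₀ y₁
  rw [hyc] at h
  field_simp at h
  linear_combination h

/-- Over the field with four elements the isometries in the stabiliser of a tensor decomposition `2 ⊗ m`
stabilise a decomposition into two mutually orthogonal non-degenerate `m`-spaces. -/
theorem exists_decomposition_of_tensor_two [Fintype F] {f : (ι → F) → (ι → F) → F} (hF : Fintype.card F = 2 ^ 2)
    {m : ℕ} (hm : 0 < m)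
    {f₁ : (Fin 2 → F) → (Fin 2 → F) → F} {f₂ : (Fin m → F) → (Fin m → F) → F} {e : ι ≃ Fin 2 × Fin m}
    {P : GL ι F} (h₁ : IsUnitaryFormPow 2 f₁) (h₂ : IsUnitaryFormPow 2 f₂)
    (hT : IsTensorFormStructure (fun x : F => x ^ 2) f f₁ f₂ e P) :
    ∃ E : Fin 2 → Submodule F (ι → F), IsNondegenerateMDecomposition f m E ∧
      ∀ g : GL ι F, (∀ u v, f ((g : Matrix ι ι F) *ᵥ u) ((g : Matrix ι ι F) *ᵥ v) = f u v) →
        g ∈ tensorProductSubgroup 2 m e P → g ∈ decompositionStabilizer E := by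
  have hnd : IsNondegenerateOn f₁ (⊤ : Submodule F (Fin 2 → F)) := by
    intro w _ hw
    obtain ⟨⟨x, hx⟩, ⟨y, hy⟩⟩ := h₁.nondegenerate w hw
    exact ⟨⟨x, trivial, hx⟩, ⟨y, trivial, hy⟩⟩
  obtain ⟨w, hw1, hw0, hwT⟩ := exists_orthonormal hF h₁ hnd (by simp)
  obtain ⟨c, hc, hcf⟩ := form_tv hF h₁ h₂ hT
  -- the linear maps y ↦ P (w k ⊗ y)
  set L : Fin 2 → (Fin m → F) →ₗ[F] (ι → F) := fun k =>
    (Matrix.toLin' (P : Matrix ι ι F)) ∘ₗ (LinearMap.funLeft F F e) ∘ₗ (tvRight m (w k)) with hL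
  have hLa : ∀ k y, L k y = (P : Matrix ι ι F) *ᵥ (tv (w k) y ∘ e) := fun k y => rfl
  have hLf : ∀ k l y y', f (L k y) (L l y') = c * (f₁ (w k) (w l) * f₂ y y') := fun k l y y' => by
    rw [hLa, hLa, hcf]
  have hLinj : ∀ k, Function.Injective (L k) := by
    intro k
    rw [injective_iff_map_eq_zero]
    intro y hy
    by_contra hy0
    obtain ⟨⟨x, hx⟩, -⟩ := h₂.nondegenerate y hy0
    have h1 := hLf k k x y
    rw [hy, hw1, one_mul] at h1
    have h2 : f (L k x) 0 = 0 := by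
      have h3 := hLf k k x 0
      rw [map_zero, UForm.zero_right h₂ two_ne_zero, mul_zero, mul_zero] at h3
      exact h3
    rw [h2] at h1
    exact (mul_ne_zero hc hx) h1.symm
  have hfr : ∀ k, Module.finrank F (LinearMap.range (L k)) = m := by
    intro k
    rw [LinearMap.finrank_range_of_inj (hLinj k), Module.finrank_fin_fun]
  -- the ranges span
  have hsum : ∀ z : Fin 2 × Fin m → F, ∃ y : Fin 2 → (Fin m → F), z = ∑ k, tv (w k) (y k) := by
    intro z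
    have hspan : ∀ x : Fin 2 → F, ∃ a : Fin 2 → F, x = ∑ k, a k • w k := by
      intro x
      have hx : x ∈ Submodule.span F (Set.range w) := by rw [← hwT]; trivial
      rw [Submodule.mem_span_range_iff_exists_fun] at hx
      obtain ⟨a, ha⟩ := hx
      exact ⟨a, ha.symm⟩
    choose a ha using hspan
    refine ⟨fun k j => a (fun i => z (i, j)) k, ?_⟩
    ext ⟨i, j⟩
    have h1 := congrFun (ha (fun i => z (i, j))) i
    simp only [Finset.sum_apply, Pi.smul_apply, smul_eq_mul] at h1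
    simp only [Finset.sum_apply, tv]
    rw [h1]
    refine Finset.sum_congr rfl fun k _ => ?_
    ring
  have htop : (⨆ k, LinearMap.range (L k)) = ⊤ := by
    rw [eq_top_iff]
    intro v _
    obtain ⟨y, hy⟩ := hsum ((((P⁻¹ : GL ι F) : Matrix ι ι F) *ᵥ v) ∘ e.symm)
    have hv : v = ∑ k, L k (y k) := by
      have h1 : ((P⁻¹ : GL ι F) : Matrix ι ι F) *ᵥ v = ∑ k, (tv (w k) (y k)) ∘ e := by
        have h2 := congrArg (fun z => z ∘ e) hy
        simp only [Function.comp_assoc, Equiv.symm_comp_self, Function.comp_id] at h2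
        rw [h2]
        ext i
        simp [Finset.sum_apply]
      have h3 := congrArg (fun z => (P : Matrix ι ι F) *ᵥ z) h1
      simp only [Matrix.mulVec_mulVec, ← Units.val_mul, mul_inv_cancel, Units.val_one, Matrix.one_mulVec,
        Matrix.mulVec_sum] at h3
      rw [h3]
      rfl
    rw [hv]
    exact Submodule.sum_mem _ fun k _ => (le_iSup (fun k => LinearMap.range (L k)) k) ⟨y k, rfl⟩
  have hdisj : Disjoint (LinearMap.range (L 0)) (LinearMap.range (L 1)) := by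
    rw [Submodule.disjoint_def]
    rintro x ⟨y, rfl⟩ ⟨y', hy'⟩
    by_contra h0
    have hy : y ≠ 0 := by
      rintro rfl
      exact h0 (map_zero _)
    obtain ⟨-, ⟨z, hz⟩⟩ := h₂.nondegenerate y hy
    have h1 := hLf 0 0 y z
    rw [← hy', hLf, hw0 1 0 (by decide), hw1, one_mul, zero_mul, mul_zero] at h1
    exact (mul_ne_zero hc hz) h1.symm
  have hind : iSupIndep (fun k => LinearMap.range (L k)) := by
    intro k
    have h1 : (⨆ j, ⨆ (_ : j ≠ k), LinearMap.range (L j)) = LinearMap.range (L (if k = 0 then 1 else 0)) := by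
      fin_cases k
      · apply le_antisymm
        · refine iSup_le fun j => iSup_le fun hj => ?_
          fin_cases j
          · exact absurd rfl hj
          · exact le_rfl
        · exact le_iSup_of_le 1 (le_iSup_of_le (by decide) le_rfl)
      · apply le_antisymm
        · refine iSup_le fun j => iSup_le fun hj => ?_
          fin_cases j
          · exact le_rfl
          · exact absurd rfl hj
        · exact le_iSup_of_le 0 (le_iSup_of_le (by decide) le_rfl)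
    rw [h1]
    fin_cases k
    · exact hdisj
    · exact hdisj.symm
  refine ⟨fun k => LinearMap.range (L k), ⟨⟨le_rfl, hm, hfr, hind, htop⟩, ?_, ?_⟩, ?_⟩
  · rintro k x ⟨y, rfl⟩ hx0
    have hy : y ≠ 0 := by
      rintro rfl
      exact hx0 (map_zero _)
    obtain ⟨⟨z, hz⟩, ⟨z', hz'⟩⟩ := h₂.nondegenerate y hy
    refine ⟨⟨L k z, ⟨z, rfl⟩, ?_⟩, ⟨L k z', ⟨z', rfl⟩, ?_⟩⟩
    · rw [hLf, hw1, one_mul]
      exact mul_ne_zero hc hz
    · rw [hLf, hw1, one_mul]
      exact mul_ne_zero hc hz'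
  · rintro k l hkl u ⟨y, rfl⟩ v ⟨y', rfl⟩
    rw [hLf, hw0 k l hkl, zero_mul, mul_zero]
  · intro g hg hgT
    obtain ⟨a, b, d, hd, hab, hda, -⟩ := factors_similarity hF two_pos hm h₁ h₂ hT hgT hg
    have hex : ∀ k, ∃ l, (LinearMap.range (L k)).map (Matrix.toLin' (g : Matrix ι ι F)) = LinearMap.range (L l) := by
      intro k
      have h1 : f₁ ((a : Matrix (Fin 2) (Fin 2) F) *ᵥ w k) ((a : Matrix (Fin 2) (Fin 2) F) *ᵥ w k) ≠ 0 := by
        rw [hda, hw1, mul_one]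
        exact hd
      have h2 : (a : Matrix (Fin 2) (Fin 2) F) *ᵥ w k ∈ Submodule.span F (Set.range w) := by
        rw [← hwT]; trivial
      obtain ⟨l, hl⟩ := nonisotropic_mem hF h₁ hw1 hw0 h2 h1
      obtain ⟨s, hs⟩ := Submodule.mem_span_singleton.1 hl
      refine ⟨l, ?_⟩
      apply Submodule.eq_of_le_of_finrank_eq
      · rintro x ⟨z, ⟨y, rfl⟩, rfl⟩
        refine ⟨s • ((b : Matrix (Fin m) (Fin m) F) *ᵥ y), ?_⟩
        rw [Matrix.toLin'_apply, hLa, hLa, hab, ← hs, tv_smul_left, tv_smul_right]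
      · rw [← (Submodule.equivMapOfInjective _ (toLin'_injective g) (LinearMap.range (L k))).finrank_eq, hfr, hfr]
    choose τ hτ using hex
    refine mem_decompositionStabilizer_of_fun hind (fun k h => ?_) g τ hτ
    have := hfr k
    rw [h] at this
    simp at this
    omega

end Cfsg.Agent.H930
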