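import Cfsg.Prelude.Def_GeometricClasses

/-!
# Refinements of unitary decompositions over the field with four elements

For `q = 2` (the field has four elements) a non-degenerate two-dimensional unitary space has exactly two
non-isotropic points and they are orthogonal. Hence the stabiliser of a decomposition into `t` mutually
orthogonal non-degenerate 2-spaces stabilises a decomposition into `2 t` mutually orthogonal non-degenerate
1-spaces, and the stabiliser of a tensor decomposition `2 ⊗ m` stabilises a decomposition into two mutually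
orthogonal non-degenerate `m`-spaces.
-/

set_option autoImplicit false
set_option linter.unusedSectionVars false

namespace Cfsg.Agent.H930

open Cfsg Cfsg.Geo
open scoped Matrix MatrixGroups Kronecker

variable {ι : Type} [Fintype ι] [DecidableEq ι] {F : Type*} [Field F]

/-! ### General facts on unitary forms given as functions -/

namespace UForm

variable {q : ℕ} {f : (ι → F) → (ι → F) → F}

theorem zero_left (hf : IsUnitaryFormPow q f) (v : ι → F) : f 0 v = 0 := by
  have := hf.smul_left 0 0 v
  simpa using this

theorem neg_left (hf : IsUnitaryFormPow q f) (u v : ι → F) : f (-u) v = - f u v := by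
  have := hf.smul_left (-1) u v
  simpa using this

theorem sub_left (hf : IsUnitaryFormPow q f) (u w v : ι → F) : f (u - w) v = f u v - f w v := by
  rw [sub_eq_add_neg, hf.add_left, neg_left hf, sub_eq_add_neg]

theorem smul_right (hf : IsUnitaryFormPow q f) (c : F) (u v : ι → F) : f u (c • v) = c ^ q * f u v := by
  rw [hf.herm, hf.smul_left, mul_pow, ← hf.herm]

theorem zero_right (hf : IsUnitaryFormPow q f) (hq : q ≠ 0) (v : ι → F) : f v 0 = 0 := by
  rw [hf.herm, zero_left hf, zero_pow hq]

theorem eq_zero_symm (hf : IsUnitaryFormPow q f) (hq : q ≠ 0) {u v : ι → F} (h : f u v = 0) : f v u = 0 := by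
  rw [hf.herm, h, zero_pow hq]

end UForm

/-- The `q`-th power map is additive as soon as `q` is a power of the characteristic; we only need: if the field
has `q ^ 2` elements then `(x + y) ^ q = x ^ q + y ^ q`. -/
theorem add_pow_q [Fintype F] {q : ℕ} (hF : Fintype.card F = q ^ 2) (x y : F) :
    (x + y) ^ q = x ^ q + y ^ q := by
  obtain ⟨p, hpF⟩ := CharP.exists F
  have := hpF
  obtain ⟨n, hp, hn⟩ := FiniteField.card F p
  have := Fact.mk hp
  have h1 : q ∣ p ^ (n : ℕ) := by rw [← hn, hF]; exact dvd_pow_self q two_ne_zero
  obtain ⟨k, -, hk⟩ := (Nat.dvd_prime_pow hp).1 h1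
  rw [hk]
  exact add_pow_char_pow x y p k

theorem pow_qq [Fintype F] {q : ℕ} (hF : Fintype.card F = q ^ 2) (x : F) : (x ^ q) ^ q = x := by
  rw [← pow_mul, ← sq, ← hF, FiniteField.pow_card]

theorem q_ne_zero [Fintype F] {q : ℕ} (hF : Fintype.card F = q ^ 2) : q ≠ 0 := by
  rintro rfl
  have := Fintype.card_pos (α := F)
  simp [hF] at this

namespace UForm

variable {q : ℕ} {f : (ι → F) → (ι → F) → F}

theorem add_right [Fintype F] (hF : Fintype.card F = q ^ 2) (hf : IsUnitaryFormPow q f) (u v w : ι → F) :
    f u (v + w) = f u v + f u w := by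
  rw [hf.herm, hf.add_left, add_pow_q hF, ← hf.herm, ← hf.herm]

end UForm

/-- The standard Hermitian form is a unitary form in the sense of `IsUnitaryFormPow`. -/
theorem hermForm_isUnitaryFormPow [Fintype F] {q : ℕ} (hF : Fintype.card F = q ^ 2) (n : ℕ) :
    IsUnitaryFormPow q (hermForm n F q) where
  add_left x y v := by
    simp [hermForm, add_mul, Finset.sum_add_distrib]
  smul_left c x v := by
    simp [hermForm, Finset.mul_sum, mul_assoc]
  herm v w := by
    have h : ∀ (s : Finset (Fin n)) (g : Fin n → F), (∑ i ∈ s, g i) ^ q = ∑ i ∈ s, g i ^ q := by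
      classical
      intro s g
      induction s using Finset.induction_on with
      | empty => simp [q_ne_zero hF]
      | insert a s ha ih => rw [Finset.sum_insert ha, Finset.sum_insert ha, add_pow_q hF, ih]
    simp only [hermForm]
    rw [h]
    refine Finset.sum_congr rfl fun i _ => ?_
    rw [mul_pow, pow_qq hF, mul_comm]
  nondegenerate v hv := by
    obtain ⟨i, hi⟩ := Function.ne_iff.1 hv
    refine ⟨⟨Pi.single i 1, ?_⟩, ⟨Pi.single i 1, ?_⟩⟩
    · simp only [hermForm]
      rw [Finset.sum_eq_single i]
      · simpa using pow_ne_zero q hi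
      · intro j _ hj
        simp [hj]
      · simp
    · simp only [hermForm]
      rw [Finset.sum_eq_single i]
      · simpa using hi
      · intro j _ hj
        simp [hj, q_ne_zero hF]
      · simp

/-! ### Orthonormal pairs over the field with four elements -/

section Four

variable [Fintype F] {f : (ι → F) → (ι → F) → F}

/-- Over the field with four elements a non-zero element has cube one. -/
theorem cube_eq_one (hF : Fintype.card F = 2 ^ 2) {a : F} (ha : a ≠ 0) : a ^ 3 = 1 := by
  have := FiniteField.pow_card_sub_one_eq_one a ha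
  rw [hF] at this
  simpa using this

theorem two_eq_zero (hF : Fintype.card F = 2 ^ 2) : (2 : F) = 0 := by
  have h := add_pow_q hF (1 : F) 1
  have h2 : ((1 : F) + 1) ^ 2 = 4 := by norm_num
  rw [h2] at h
  have : (2 : F) = 0 := by linear_combination h
  exact this

/-- A self-value of a unitary form over the field with four elements is `0` or `1`. -/
theorem self_eq_one (hf : IsUnitaryFormPow 2 f) {v : ι → F} (hv : f v v ≠ 0) : f v v = 1 := by
  have h := hf.herm v v
  have h1 : f v v * (f v v - 1) = 0 := by linear_combination -h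
  rcases mul_eq_zero.1 h1 with h2 | h2
  · exact absurd h2 hv
  · linear_combination h2

/-- In a non-zero subspace on which the form is non-degenerate there is a non-isotropic vector. -/
theorem exists_nonisotropic (hF : Fintype.card F = 2 ^ 2) (hf : IsUnitaryFormPow 2 f)
    {W : Submodule F (ι → F)} (hW : IsNondegenerateOn f W) (h0 : W ≠ ⊥) : ∃ w ∈ W, f w w ≠ 0 := by
  by_contra hcon
  push Not at hcon
  obtain ⟨w, hw, hw0⟩ := W.ne_bot_iff.1 h0
  obtain ⟨⟨x, hx, hxw⟩, -⟩ := hW w hw hw0
  -- f(x,w) + f(w,x) = 0 for all multiples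
  have key : ∀ c : F, c * f x w + c ^ 2 * f w x = 0 := by
    intro c
    have h1 := hcon (c • x + w) (W.add_mem (W.smul_mem c hx) hw)
    rw [hf.add_left, UForm.add_right hF hf, UForm.add_right hF hf, hf.smul_left, hf.smul_left,
      UForm.smul_right hf, UForm.smul_right hf, hcon x hx, hcon w hw] at h1
    linear_combination h1
  have hwx : f w x = f x w ^ 2 := hf.herm w x
  -- choose c with c * f x w not equal to 0 and 1
  have hcard : 2 < Fintype.card F := by rw [hF]; norm_num
  obtain ⟨b, hb0, hb1⟩ : ∃ b : F, b ≠ 0 ∧ b ≠ 1 := by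
    by_contra hb
    push Not at hb
    classical
    have : (Finset.univ : Finset F) ⊆ {0, 1} := by
      intro b _
      by_cases h : b = 0
      · simp [h]
      · simp [hb b h]
    have h2 := Finset.card_le_card this
    have h3 : ({0, 1} : Finset F).card ≤ 2 := Finset.card_le_two
    rw [Finset.card_univ] at h2
    omega
  have h1 := key (b * (f x w)⁻¹)
  rw [hwx] at h1
  have h2 : b + b ^ 2 = 0 := by
    have : b * (f x w)⁻¹ * f x w + (b * (f x w)⁻¹) ^ 2 * f x w ^ 2 = b + b ^ 2 := by
      field_simp
    rw [← this]; exact h1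
  have h3 : b * (b - 1) = 0 := by
    have h2' := two_eq_zero hF
    linear_combination h2 - b * h2'
  rcases mul_eq_zero.1 h3 with h4 | h4
  · exact hb0 h4
  · exact hb1 (by linear_combination h4)

/-- A two-dimensional non-degenerate subspace over the field with four elements has an orthonormal basis. -/
theorem exists_orthonormal (hF : Fintype.card F = 2 ^ 2) (hf : IsUnitaryFormPow 2 f)
    {W : Submodule F (ι → F)} (hW : IsNondegenerateOn f W) (h2 : Module.finrank F W = 2) :
    ∃ w : Fin 2 → (ι → F), (∀ k, f (w k) (w k) = 1) ∧ (∀ k l, k ≠ l → f (w k) (w l) = 0) ∧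
      W = Submodule.span F (Set.range w) := by
  have h0 : W ≠ ⊥ := by
    rintro rfl
    simp at h2
  obtain ⟨w₁, hw₁, hn₁⟩ := exists_nonisotropic hF hf hW h0
  have h11 := self_eq_one hf hn₁
  -- a vector outside the span
  have hlt : Submodule.span F {w₁} < W := by
    refine lt_of_le_of_ne ?_ ?_
    · rw [Submodule.span_singleton_le_iff_mem]; exact hw₁
    · intro h
      have := finrank_span_le_card (R := F) ({w₁} : Set (ι → F))
      rw [h, h2] at this
      simp at this
  obtain ⟨v, hv, hvn⟩ := SetLike.exists_of_lt hlt
  set w₂ : ι → F := v - f v w₁ • w₁ with hw₂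
  have hw₂W : w₂ ∈ W := W.sub_mem hv (W.smul_mem _ hw₁)
  have h21 : f w₂ w₁ = 0 := by
    rw [hw₂, UForm.sub_left hf, hf.smul_left, h11]
    ring
  have h12 : f w₁ w₂ = 0 := UForm.eq_zero_symm hf two_ne_zero h21
  have hw₂0 : w₂ ≠ 0 := by
    intro h
    apply hvn
    rw [hw₂, sub_eq_zero] at h
    rw [h]
    exact Submodule.smul_mem _ _ (Submodule.mem_span_singleton_self _)
  -- w₁, w₂ are independent
  have hind : LinearIndependent F ![w₁, w₂] := by
    rw [LinearIndependent.pair_iff]
    intro s t hst
    have e1 : f (s • w₁ + t • w₂) w₁ = s := by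
      rw [hf.add_left, hf.smul_left, hf.smul_left, h11, h21]
      ring
    rw [hst, UForm.zero_left hf] at e1
    subst e1
    simp only [zero_smul, zero_add, smul_eq_zero] at hst
    exact ⟨rfl, hst.resolve_right hw₂0⟩
  have hspan : Submodule.span F (Set.range ![w₁, w₂]) = W := by
    apply Submodule.eq_of_le_of_finrank_le
    · rw [Submodule.span_le]
      rintro x ⟨i, rfl⟩
      fin_cases i
      · exact hw₁
      · exact hw₂W
    · rw [h2, finrank_span_eq_card hind]
      simp
  have h22' : f w₂ w₂ ≠ 0 := by
    intro h22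
    obtain ⟨⟨x, hx, hxw⟩, -⟩ := hW w₂ hw₂W hw₂0
    rw [← hspan] at hx
    rw [Matrix.range_cons, Matrix.range_cons, Matrix.range_empty, Set.union_empty] at hx
    obtain ⟨a, b, rfl⟩ := Submodule.mem_span_pair.1 hx
    apply hxw
    rw [hf.add_left, hf.smul_left, hf.smul_left, h12, h22]
    ring
  have h22 := self_eq_one hf h22'
  refine ⟨![w₁, w₂], ?_, ?_, hspan.symm⟩
  · intro k
    fin_cases k
    · exact h11
    · exact h22
  · intro k l hkl
    fin_cases k <;> fin_cases l
    · exact absurd rfl hkl
    · exact h12
    · exact h21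
    · exact absurd rfl hkl

/-- In the span of an orthonormal pair over the field with four elements every non-isotropic vector is a multiple
of one of the two. -/
theorem nonisotropic_mem (hF : Fintype.card F = 2 ^ 2) (hf : IsUnitaryFormPow 2 f)
    {w : Fin 2 → (ι → F)} (h1 : ∀ k, f (w k) (w k) = 1) (h0 : ∀ k l, k ≠ l → f (w k) (w l) = 0)
    {x : ι → F} (hx : x ∈ Submodule.span F (Set.range w)) (hxx : f x x ≠ 0) :
    ∃ k, x ∈ Submodule.span F {w k} := by
  have hr : Set.range w = {w 0, w 1} := by
    ext y
    simp only [Set.mem_range, Set.mem_insert_iff, Set.mem_singleton_iff]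
    constructor
    · rintro ⟨i, rfl⟩
      fin_cases i
      · exact Or.inl rfl
      · exact Or.inr rfl
    · rintro (rfl | rfl)
      · exact ⟨0, rfl⟩
      · exact ⟨1, rfl⟩
  rw [hr] at hx
  obtain ⟨a, b, rfl⟩ := Submodule.mem_span_pair.1 hx
  by_cases ha : a = 0
  · refine ⟨1, ?_⟩
    rw [ha, zero_smul, zero_add]
    exact Submodule.smul_mem _ _ (Submodule.mem_span_singleton_self _)
  by_cases hb : b = 0
  · refine ⟨0, ?_⟩
    rw [hb, zero_smul, add_zero]
    exact Submodule.smul_mem _ _ (Submodule.mem_span_singleton_self _)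
  exfalso
  apply hxx
  rw [hf.add_left, UForm.add_right hF hf, UForm.add_right hF hf, hf.smul_left, hf.smul_left,
    UForm.smul_right hf, UForm.smul_right hf, UForm.smul_right hf, hf.smul_left, hf.smul_left,
    UForm.smul_right hf, h1, h1, h0 0 1 (by decide), h0 1 0 (by decide)]
  have e1 := cube_eq_one hF ha
  have e2 := cube_eq_one hF hb
  have e3 := two_eq_zero hF
  linear_combination e1 + e2 + e3

end Four

/-! ### Stabilisers of decompositions -/

/-- A function on the index set realising the action of `g` on an independent family of non-zero subspaces is a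
permutation. -/
theorem mem_decompositionStabilizer_of_fun {t : ℕ} {D : Fin t → Submodule F (ι → F)} (hi : iSupIndep D)
    (h0 : ∀ i, D i ≠ ⊥) (g : GL ι F) (τ : Fin t → Fin t)
    (hτ : ∀ i, (D i).map (Matrix.toLin' (g : Matrix ι ι F)) = D (τ i)) : g ∈ decompositionStabilizer D := by
  have hinj : Function.Injective τ := by
    intro i j hij
    have hD : D i = D j := by
      have h1 := (hτ i).trans ((congrArg D hij).trans (hτ j).symm)
      have h2 : Function.Injective (Matrix.toLin' (g : Matrix ι ι F)) := by
        intro x y hxy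
        simp only [Matrix.toLin'_apply] at hxy
        have := congrArg (fun z => ((g⁻¹ : GL ι F) : Matrix ι ι F) *ᵥ z) hxy
        simpa [Matrix.mulVec_mulVec, ← Units.val_mul] using this
      exact Submodule.map_injective_of_injective h2 h1
    by_contra hne
    have h3 := hi.pairwiseDisjoint hne
    rw [Function.onFun, hD, disjoint_self] at h3
    exact h0 j h3
  exact ⟨Equiv.ofBijective τ (Finite.injective_iff_bijective.1 hinj), fun i => hτ i⟩

theorem toLin'_injective (g : GL ι F) : Function.Injective (Matrix.toLin' (g : Matrix ι ι F)) := by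
  intro x y hxy
  simp only [Matrix.toLin'_apply] at hxy
  have := congrArg (fun z => ((g⁻¹ : GL ι F) : Matrix ι ι F) *ᵥ z) hxy
  simpa [Matrix.mulVec_mulVec, ← Units.val_mul] using this

/-- Over the field with four elements the stabiliser of a decomposition into mutually orthogonal non-degenerate
2-spaces stabilises a decomposition into mutually orthogonal non-degenerate 1-spaces. -/
theorem exists_refinement [Fintype F] {f : (ι → F) → (ι → F) → F} (hF : Fintype.card F = 2 ^ 2)
    (hf : IsUnitaryFormPow 2 f) {t : ℕ} {D : Fin t → Submodule F (ι → F)}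
    (hD : IsNondegenerateMDecomposition f 2 D) :
    ∃ E : Fin (t * 2) → Submodule F (ι → F), IsNondegenerateMDecomposition f 1 E ∧
      ∀ g : GL ι F, (∀ u v, f ((g : Matrix ι ι F) *ᵥ u) ((g : Matrix ι ι F) *ᵥ v) = f u v) →
        g ∈ decompositionStabilizer D → g ∈ decompositionStabilizer E := by
  choose w hw1 hw0 hwD using fun i =>
    exists_orthonormal hF hf (hD.nondegenerate i) (hD.decomp.finrank_eq i)
  have hwm : ∀ i k, w i k ∈ D i := fun i k => by
    rw [hwD i]; exact Submodule.subset_span ⟨k, rfl⟩
  set W : Fin (t * 2) → (ι → F) := fun j => w (finProdFinEquiv.symm j).1 (finProdFinEquiv.symm j).2 with hW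
  have hW1 : ∀ j, f (W j) (W j) = 1 := fun j => hw1 _ _
  have hW0 : ∀ j l, j ≠ l → f (W j) (W l) = 0 := by
    intro j l hjl
    by_cases h : (finProdFinEquiv.symm j).1 = (finProdFinEquiv.symm l).1
    · have h2 : (finProdFinEquiv.symm j).2 ≠ (finProdFinEquiv.symm l).2 := by
        intro h2
        exact hjl (finProdFinEquiv.symm.injective (Prod.ext h h2))
      have h3 := hw0 (finProdFinEquiv.symm l).1 _ _ h2
      rw [← h3, hW]
      simp only [h]
    · exact hD.orthogonal _ _ h _ (hwm _ _) _ (hwm _ _)
  have hne : ∀ j, W j ≠ 0 := by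
    intro j h
    have := hW1 j
    rw [h, UForm.zero_left hf] at this
    exact zero_ne_one this
  have hind : LinearIndependent F W := by
    rw [linearIndependent_iff']
    intro s c hc j hj
    have h1 : f (∑ l ∈ s, c l • W l) (W j) = c j := by
      have h2 : ∀ (s : Finset (Fin (t * 2))), f (∑ l ∈ s, c l • W l) (W j) = ∑ l ∈ s, c l * f (W l) (W j) := by
        classical
        intro s
        induction s using Finset.induction_on with
        | empty => simp [UForm.zero_left hf]
        | insert a s ha ih => rw [Finset.sum_insert ha, Finset.sum_insert ha, hf.add_left, hf.smul_left, ih]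
      rw [h2, Finset.sum_eq_single j]
      · rw [hW1, mul_one]
      · intro l _ hl
        rw [hW0 l j hl, mul_zero]
      · intro h
        exact absurd hj h
    rw [hc, UForm.zero_left hf] at h1
    exact h1.symm
  have hispan : iSupIndep (fun j => Submodule.span F {W j}) := hind.iSupIndep_span_singleton
  refine ⟨fun j => Submodule.span F {W j}, ⟨⟨?_, one_pos, ?_, hispan, ?_⟩, ?_, ?_⟩, ?_⟩
  · have := hD.decomp.two_le
    omega
  · intro j
    exact finrank_span_singleton (hne j)
  · rw [eq_top_iff, ← hD.decomp.iSup_eq_top]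
    refine iSup_le fun i => ?_
    rw [hwD i, Submodule.span_le]
    rintro x ⟨k, rfl⟩
    have h1 : w i k = W (finProdFinEquiv (i, k)) := by
      simp only [hW, Equiv.symm_apply_apply]
    rw [h1]
    exact (le_iSup (fun j => Submodule.span F {W j}) (finProdFinEquiv (i, k)))
      (Submodule.mem_span_singleton_self _)
  · intro j x hx hx0
    obtain ⟨a, rfl⟩ := Submodule.mem_span_singleton.1 hx
    have ha : a ≠ 0 := by
      rintro rfl
      exact hx0 (zero_smul _ _)
    refine ⟨⟨W j, Submodule.mem_span_singleton_self _, ?_⟩, ⟨W j, Submodule.mem_span_singleton_self _, ?_⟩⟩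
    · rw [UForm.smul_right hf, hW1, mul_one]
      exact pow_ne_zero 2 ha
    · rw [hf.smul_left, hW1, mul_one]
      exact ha
  · intro j l hjl u hu v hv
    obtain ⟨a, rfl⟩ := Submodule.mem_span_singleton.1 hu
    obtain ⟨b, rfl⟩ := Submodule.mem_span_singleton.1 hv
    rw [hf.smul_left, UForm.smul_right hf, hW0 j l hjl, mul_zero, mul_zero]
  · intro g hg hgD
    obtain ⟨σ, hσ⟩ := hgD
    have hex : ∀ j, ∃ l, (Submodule.span F {W j}).map (Matrix.toLin' (g : Matrix ι ι F)) =
        Submodule.span F {W l} := by
      intro j
      set i := (finProdFinEquiv.symm j).1 with hi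
      have h1 : (g : Matrix ι ι F) *ᵥ W j ∈ D (σ i) := by
        rw [← hσ i]
        exact ⟨W j, hwm _ _, rfl⟩
      rw [hwD (σ i)] at h1
      have h2 : f ((g : Matrix ι ι F) *ᵥ W j) ((g : Matrix ι ι F) *ᵥ W j) ≠ 0 := by
        rw [hg, hW1]; exact one_ne_zero
      obtain ⟨k, hk⟩ := nonisotropic_mem hF hf (hw1 (σ i)) (hw0 (σ i)) h1 h2
      refine ⟨finProdFinEquiv (σ i, k), ?_⟩
      have h3 : W (finProdFinEquiv (σ i, k)) = w (σ i) k := by
        simp only [hW, Equiv.symm_apply_apply]
      rw [h3, Submodule.map_span, Set.image_singleton, Matrix.toLin'_apply]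
      apply Submodule.eq_of_le_of_finrank_eq
      · rw [Submodule.span_singleton_le_iff_mem]
        exact hk
      · rw [finrank_span_singleton, finrank_span_singleton]
        · have := hne (finProdFinEquiv (σ i, k))
          rwa [h3] at this
        · intro h0
          apply h2
          rw [h0, UForm.zero_left hf]
    choose τ hτ using hex
    exact mem_decompositionStabilizer_of_fun hispan
      (fun j => by rw [Ne, Submodule.span_singleton_eq_bot]; exact hne j) g τ hτ

end Cfsg.Agent.H930
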