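import Cfsg.Agent.H930.ExtUE
import Cfsg.Agent.ClassicalGeometry.UnitGenTwo

/-!
# Overgroups of `SU_m(K)` in the unitary group of the trace form: from one transvection to all
-/

set_option autoImplicit false
set_option linter.unusedSectionVars false

namespace Cfsg.Agent.H930.ExtU

open Module Cfsg Cfsg.Agent.LieClassical.HermBasic Cfsg.Agent.LieClassical.HermSiegel Cfsg.Agent.H879
open Cfsg.Agent.LieClassical.HermGen

variable {F K : Type*} [Field F] [Fintype F] [Field K] [Fintype K] [Algebra F K] {q Q m : ℕ} {ℓ : K →ₗ[F] F}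
variable {M : Subgroup ((Fin m → K) ≃ₗ[F] (Fin m → K))}

/-- `SU_m(K)` is transitive on vectors of given nonzero norm. -/
theorem exists_SU_norm (hK : Fintype.card K = Q ^ 2) (hm : 2 ≤ m) (h32 : ¬ (m = 3 ∧ Q = 2)) {z z' : Fin m → K}
    (h : hermForm m K Q z z = hermForm m K Q z' z') (h0 : hermForm m K Q z z ≠ 0) : ∃ g : SU m K Q, act g z = z' := by
  obtain ⟨c, hc0, hc⟩ := exists_norm_eq_ne hK (herm_self_pow hK z) h0
  have hcQ : c ^ Q ≠ 0 := pow_ne_zero _ hc0
  have key : ∀ y : Fin m → K, hermForm m K Q y y = hermForm m K Q z z →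
      ∃ g : SU m K Q, act g y = c • Pi.single ⟨m - 1, by omega⟩ 1 := by
    intro y hy
    obtain ⟨g, -, -, hg⟩ := ClassicalGeometry.UnitGenTwo.conn_single hK h32 (j := ⟨m - 1, by omega⟩)
      (by change 1 ≤ m - 1; omega) (u := c⁻¹ • y)
      (by intro i hi; exact absurd i.isLt (by change m - 1 + 1 ≤ i.val at hi; omega))
      (by
        rw [herm_smul_left, herm_smul_right, hy, ← hc, inv_pow]
        field_simp)
    refine ⟨g, ?_⟩
    have hg' : act g (c⁻¹ • y) = Pi.single ⟨m - 1, by omega⟩ 1 := hg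
    rw [← hg', ← act_smul, smul_smul, mul_inv_cancel₀ hc0, one_smul]
  obtain ⟨g, hg⟩ := key z rfl
  obtain ⟨g', hg'⟩ := key z' h.symm
  refine ⟨g'⁻¹ * g, ?_⟩
  rw [act_mul, hg, ← hg', act_inv_act]

variable (D : Data q Q ℓ) (h : Hyp Q ℓ M)

theorem FT_conj (h : Hyp Q ℓ M) {t : (Fin m → K) ≃ₗ[F] (Fin m → K)} (ht : t ∈ M) {u : Fin m → K} {e : F}
    (hu : Has M (FT Q ℓ u e)) : Has M (FT Q ℓ (t u) e) := by
  refine (hu.conj ht).congr fun x => ?_
  rw [FT_apply, FT_apply, map_add, apply_inv_apply, map_smul, h.pres_inv ht]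

include D h in
theorem Hyp.FT_iso {e : F} (he0 : e ≠ 0) (he : e + e ^ q = 0)
    (hall : ∀ u, hermForm m K Q u u = 0 → Has M (FT Q ℓ u e)) {u : Fin m → K} (hu : hermForm m K Q u u = 0)
    {e' : F} (he' : e' + e' ^ q = 0) : Has M (FT Q ℓ u e') := by
  by_cases he'0 : e' = 0
  · refine (has_id).congr fun x => ?_
    rw [FT_apply, he'0, zero_mul, zero_smul, add_zero]
  have h1 : (e' / e) ^ q = e' / e := by
    have h2 : e' ^ q = -e' := by linear_combination he'
    have h3 : e ^ q = -e := by linear_combination he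
    rw [div_pow, h2, h3, neg_div_neg_eq]
  obtain ⟨c, hc0, hc⟩ := exists_norm_eq_ne D.hF h1 (div_ne_zero he'0 he0)
  have hcu : hermForm m K Q (c • u) (c • u) = 0 := by
    rw [← algebraMap_smul K c, herm_smul_left, herm_smul_right, hu, mul_zero, mul_zero]
  refine (hall (c • u) hcu).congr fun x => ?_
  rw [FT_apply, FT_apply, ← algebraMap_smul K c u, herm_smul_right, D.alg, ell_alg', algebraMap_smul, smul_smul]
  congr 2
  have : e * (c * c ^ q) = e' := by rw [hc]; field_simp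
  linear_combination (ℓ (hermForm m K Q x u)) * this

include D h in
/-- All transvections over `F`. -/
theorem Hyp.FT_all (hr : 2 ≤ finrank F K) (hm : 2 ≤ m) {e : F} (he0 : e ≠ 0) (he : e + e ^ q = 0)
    (hall : ∀ u, hermForm m K Q u u = 0 → Has M (FT Q ℓ u e)) {z : Fin m → K} (hz : ℓ (hermForm m K Q z z) = 0)
    {e' : F} (he' : e' + e' ^ q = 0) : Has M (FT Q ℓ z e') := by
  by_cases hz0 : hermForm m K Q z z = 0
  · exact h.FT_iso D he0 he hall hz0 he'
  have heq : e ^ q = -e := by linear_combination he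
  have hQ : Q ≠ 2 := by
    rintro rfl
    have := D.finDim
    have h1 := Module.card_eq_pow_finrank (K := F) (V := K)
    rw [D.hK, D.hF] at h1
    have h2 := two_le D.hF
    have h3 : (q ^ 2) ^ 2 ≤ (q ^ 2) ^ finrank F K := Nat.pow_le_pow_right (by positivity) hr
    have h4 : 2 ^ 2 ≤ q ^ 2 := Nat.pow_le_pow_left h2 2
    nlinarith
  -- a symmetric element with value one
  obtain ⟨y₀, hy₀, hy₀1⟩ : ∃ y₀ : K, y₀ ^ Q = y₀ ∧ ℓ y₀ = 1 := by
    obtain ⟨κ, hκ, hκ0⟩ := D.exists_skew_ne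
    have hκQ : κ ^ Q = -κ := by linear_combination hκ
    have hl : ℓ κ ^ q = -ℓ κ := by rw [← D.lpow, hκQ, map_neg]
    refine ⟨(ℓ κ)⁻¹ • κ, ?_, by rw [map_smul, smul_eq_mul, inv_mul_cancel₀ hκ0]⟩
    rw [D.smul_pow, inv_pow, hl, hκQ, inv_neg, neg_smul, smul_neg, neg_neg]
  obtain ⟨t, ht⟩ := exists_trace_eq D.hF (c := 1) (one_pow _)
  obtain ⟨γ, hγ⟩ : ∃ γ, γ = hermForm m K Q z z := ⟨_, rfl⟩
  have hγQ : γ ^ Q = γ := by rw [hγ]; exact herm_self_pow D.hK z
  rw [← hγ] at hz hz0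
  obtain ⟨δ, hδ⟩ : ∃ δ, δ = e⁻¹ • γ := ⟨_, rfl⟩
  have hδQ : δ ^ Q = -δ := by
    rw [hδ, D.smul_pow, inv_pow, heq, hγQ, inv_neg, neg_smul]
  have hδl : ℓ δ = 0 := by rw [hδ, map_smul, hz, smul_zero]
  have hyl : ℓ (y₀ - t • δ) = 1 := by rw [map_sub, map_smul, hδl, smul_zero, sub_zero, hy₀1]
  have hyQ : e • ((y₀ - t • δ) ^ Q - (y₀ - t • δ)) = γ := by
    rw [sub_pow_q D.hK, D.smul_pow, hy₀, hδQ]
    have h1 : y₀ - t ^ q • -δ - (y₀ - t • δ) = (t + t ^ q) • δ := by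
      rw [smul_neg, add_smul]
      abel
    rw [h1, ht, one_smul, hδ, smul_smul, mul_inv_cancel₀ he0, one_smul]
  obtain ⟨y, hy⟩ : ∃ y, y = y₀ - t • δ := ⟨_, rfl⟩
  rw [← hy] at hyl hyQ
  -- the vectors
  have h01 : (⟨0, by omega⟩ : Fin m) ≠ ⟨1, by omega⟩ := by simp
  obtain ⟨p, p', a, b, ha, -, -, hpp, hpp', hppp⟩ := exists_hyp_pair (q := Q) (n := m) D.hK h01
  have hp'p : hermForm m K Q p' p = 1 := by rw [herm_swap D.hK p p', hppp, one_pow]
  have hyp : hermForm m K Q (y • p) (y • p) = 0 := by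
    rw [herm_smul_left, herm_smul_right, hpp, mul_zero, mul_zero]
  obtain ⟨τ, hτ, hτe⟩ := hall p' hpp'
  have h1 : τ (y • p) = y • p + algebraMap F K e • p' := by
    rw [hτe, FT_apply, herm_smul_left, hppp, mul_one, hyl, mul_one, algebraMap_smul]
  have h2 : hermForm m K Q (τ (y • p)) (τ (y • p)) = γ := by
    rw [h1]
    simp only [herm_add_left, herm_add_right D.hK, herm_smul_left, herm_smul_right, hpp, hpp', hppp, hp'p, D.alg, heq,
      map_neg]
    rw [← hyQ, Algebra.smul_def]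
    ring
  have h3 := FT_conj h hτ (h.FT_iso D he0 he hall hyp he')
  obtain ⟨g, hg⟩ := exists_SU_norm D.hK hm (by omega) (z := τ (y • p)) (z' := z) (by rw [h2, hγ]) (by rw [h2]; exact hz0)
  obtain ⟨s, hs, hse⟩ := h.su g
  have h4 := FT_conj h hs h3
  rwa [hse, hg] at h4

end Cfsg.Agent.H930.ExtU
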