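import Cfsg.Agent.H930.GUSubF
import Cfsg.Agent.ClassicalGeometry.HermOrtho
import Cfsg.Agent.ClassicalGeometry.HermOrthonormal

/-!
# The unitary subfield subgroups of `SU_n(q)` are maximal
-/

set_option autoImplicit false
set_option linter.unusedSectionVars false
set_option linter.unusedSimpArgs false

namespace Cfsg.Agent.H930.GUSub

open Cfsg Cfsg.Geo Cfsg.Agent.H918 Cfsg.Agent.LieClassical.HermBasic Cfsg.Agent.LieClassical.HermSiegel
open Cfsg.Agent.LieClassical.HermGen Cfsg.Agent.H930 Cfsg.Agent.H873.Sub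
open scoped Matrix MatrixGroups

variable {F : Type*} [Field F] [Fintype F] {n q : ℕ} {F₀ : Subfield F} [Fintype F₀] {q₀ : ℕ}

/-- The arithmetic. -/
theorem exists_setup (hF : Fintype.card F = q ^ 2) {r : ℕ} (hro : Odd r)
    (hcard : Fintype.card F = Nat.card F₀ ^ r) : ∃ q₀, Setup F₀ q q₀ := by
  obtain ⟨k, hk⟩ := hro
  have hN : 1 < Nat.card F₀ := Finite.one_lt_card
  have h1 : q ^ 2 = (Nat.card F₀ ^ k) ^ 2 * Nat.card F₀ := by
    rw [← hF, hcard, hk]
    ring
  have h2 : Nat.card F₀ ^ k ∣ q := by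
    rw [← Nat.pow_dvd_pow_iff two_ne_zero, h1]
    exact Dvd.intro _ rfl
  obtain ⟨q₀, hq₀⟩ := h2
  have hpos : 0 < (Nat.card F₀ ^ k) ^ 2 := by positivity
  have h3 : q₀ ^ 2 = Nat.card F₀ := by
    apply Nat.eq_of_mul_eq_mul_left hpos
    rw [← h1, hq₀]
    ring
  refine ⟨q₀, hF, ?_, fun x => ?_⟩
  · rw [← Nat.card_eq_fintype_card, ← h3]
  · have h4 : ∀ j : ℕ, ∀ y : F₀, y ^ (Nat.card F₀ ^ j) = y := by
      intro j y
      rw [Nat.card_eq_fintype_card]
      exact FiniteField.pow_card_pow j y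
    have h5 : x ^ q = x ^ q₀ := by
      rw [hq₀, mul_comm, pow_mul, h4]
    rw [← h5]
    push_cast
    rfl

/-- A rational structure has an orthonormal basis. -/
theorem exists_frame (S : Setup F₀ q q₀) {P : GL (Fin n) F} (hP : IsFormRationalStructure (hermForm n F q) F₀ 1 P) :
    ∃ P' ∈ GU n F q, (∀ i j, ((P⁻¹ * P' : GL (Fin n) F) : Matrix (Fin n) (Fin n) F) i j ∈ F₀) ∧
      ∀ i j, ((P'⁻¹ * P : GL (Fin n) F) : Matrix (Fin n) (Fin n) F) i j ∈ F₀ := by
  have hF := S.hF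
  have hF₀ := S.hF₀
  have hform : ∀ u v : Fin n → F₀, hermForm n F q (rv F₀ P v) (rv F₀ P u) ∈ F₀ := by
    intro u v
    have := hP (cv F₀ v) (cv F₀ u) (fun i => (v i).2) (fun i => (u i).2)
    rwa [one_mul] at this
  let B : (Fin n → F₀) →ₛₗ[((conj hF₀ : F₀ ≃+* F₀) : F₀ →+* F₀)] (Fin n → F₀) →ₗ[F₀] F₀ :=
    LinearMap.mk₂'ₛₗ _ _ (fun u v => (⟨hermForm n F q (rv F₀ P v) (rv F₀ P u), hform u v⟩ : F₀))
      (by
        intro u u' v
        apply Subtype.ext
        show hermForm n F q (rv F₀ P v) (rv F₀ P (u + u')) =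
          hermForm n F q (rv F₀ P v) (rv F₀ P u) + hermForm n F q (rv F₀ P v) (rv F₀ P u')
        rw [rv_add, herm_add_right hF])
      (by
        intro a u v
        apply Subtype.ext
        show hermForm n F q (rv F₀ P v) (rv F₀ P (a • u)) = ((a ^ q₀ : F₀) : F) * hermForm n F q (rv F₀ P v) (rv F₀ P u)
        rw [rv_smul, herm_smul_right, S.pow_eq])
      (by
        intro u v v'
        apply Subtype.ext
        show hermForm n F q (rv F₀ P (v + v')) (rv F₀ P u) =
          hermForm n F q (rv F₀ P v) (rv F₀ P u) + hermForm n F q (rv F₀ P v') (rv F₀ P u)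
        rw [rv_add, herm_add_left])
      (by
        intro a u v
        apply Subtype.ext
        show hermForm n F q (rv F₀ P (a • v)) (rv F₀ P u) = (a : F) * hermForm n F q (rv F₀ P v) (rv F₀ P u)
        rw [rv_smul, herm_smul_left])
  have hB : ∀ u v, ((B u v : F₀) : F) = hermForm n F q (rv F₀ P v) (rv F₀ P u) := fun u v => rfl
  have hsymm : B.IsSymm := by
    constructor
    intro u v
    apply Subtype.ext
    show (((⟨hermForm n F q (rv F₀ P v) (rv F₀ P u), hform u v⟩ : F₀) ^ q₀ : F₀) : F) = hermForm n F q (rv F₀ P u) (rv F₀ P v)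
    rw [← S.pow_eq]
    exact (herm_swap hF _ _).symm
  have hsep : B.SeparatingLeft := by
    intro u hu
    have h5 : rv F₀ P u = 0 := by
      apply herm_nondeg hF
      intro x
      apply herm_eq_zero_swap hF
      have hx : x = ∑ i, (((P⁻¹ : GL (Fin n) F) : Matrix (Fin n) (Fin n) F) *ᵥ x) i • rv F₀ P (Pi.single i 1) := by
        have h1 : (P : Matrix (Fin n) (Fin n) F) *ᵥ (((P⁻¹ : GL (Fin n) F) : Matrix (Fin n) (Fin n) F) *ᵥ x) = x :=
          mulVec_inv P x
        conv_lhs => rw [← h1, pi_eq_sum_univ' (((P⁻¹ : GL (Fin n) F) : Matrix (Fin n) (Fin n) F) *ᵥ x)]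
        rw [Matrix.mulVec_sum]
        refine Finset.sum_congr rfl fun i _ => ?_
        rw [Matrix.mulVec_smul, rv, cv_single]
      rw [hx, herm_sum_left]
      refine Finset.sum_eq_zero fun i _ => ?_
      have h6 := congrArg (fun z : F₀ => (z : F)) (hu (Pi.single i 1))
      simp only [hB] at h6
      rw [herm_smul_left, h6, ZeroMemClass.coe_zero, mul_zero]
    apply rv_injective P
    rw [h5, rv_zero]
  have hne : ((conj hF₀ : F₀ ≃+* F₀) : F₀ →+* F₀) ≠ RingHom.id F₀ := by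
    intro h
    obtain ⟨x, hx⟩ := exists_not_fixed hF₀
    exact hx (congrArg (fun g : F₀ →+* F₀ => g x) h)
  obtain ⟨e, he⟩ := Cfsg.Agent.ClassicalGeometry.HermOrthonormal.exists_orthonormal_basis hne
    (fun a => pow_q_pow_q hF₀ a) B hsymm hsep
  have hfr : Module.finrank F₀ (Fin n → F₀) = n := Module.finrank_fin_fun F₀
  let c : Fin n → (Fin n → F₀) := fun i => e (Fin.cast hfr.symm i)
  let w : Fin n → (Fin n → F) := fun i => rv F₀ P (c i)
  have hw : ∀ i j, hermForm n F q (w i) (w j) = if i = j then 1 else 0 := by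
    intro i j
    show hermForm n F q (rv F₀ P _) (rv F₀ P _) = _
    rw [← hB, he]
    by_cases hij : i = j
    · subst hij
      rw [if_pos rfl, if_pos rfl]
      rfl
    · rw [if_neg hij, if_neg]
      · rfl
      · intro h
        apply hij
        exact (Fin.cast_injective _ h).symm
  obtain ⟨P', hP', hPx⟩ := Cfsg.Agent.ClassicalGeometry.HermOrtho.exists_GU_of_orthonormal hF hw
  have hcol : ∀ j, (P' : Matrix (Fin n) (Fin n) F) *ᵥ Pi.single j 1 = rv F₀ P (c j) := by
    intro j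
    rw [hPx, Finset.sum_eq_single j]
    · rw [Pi.single_eq_same, one_smul]
    · intro i _ hij
      rw [Pi.single_eq_of_ne hij, zero_smul]
    · intro h
      exact absurd (Finset.mem_univ j) h
  have hiso : ∀ x y, hermForm n F q ((P' : Matrix (Fin n) (Fin n) F) *ᵥ x) ((P' : Matrix (Fin n) (Fin n) F) *ᵥ y) =
      hermForm n F q x y := hP'
  refine ⟨P', hP', fun i j => ?_, fun i j => ?_⟩
  · have h1 : ((P⁻¹ * P' : GL (Fin n) F) : Matrix (Fin n) (Fin n) F) *ᵥ Pi.single j 1 = cv F₀ (c j) := by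
      rw [Units.val_mul, ← Matrix.mulVec_mulVec, hcol, rv, inv_mulVec]
    have h2 := congrFun h1 i
    rw [Matrix.mulVec_single_one] at h2
    change ((P⁻¹ * P' : GL (Fin n) F) : Matrix (Fin n) (Fin n) F) i j = _ at h2
    rw [h2]
    exact (c j i).2
  · have h1 : ((P'⁻¹ * P : GL (Fin n) F) : Matrix (Fin n) (Fin n) F) i j =
        hermForm n F q (((P'⁻¹ * P : GL (Fin n) F) : Matrix (Fin n) (Fin n) F) *ᵥ Pi.single j 1) (Pi.single i 1) := by
      rw [herm_single_right hF, Matrix.mulVec_single_one, one_pow, mul_one]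
      rfl
    rw [h1, Units.val_mul, ← Matrix.mulVec_mulVec, ← hiso, mulVec_inv, hcol, ← cv_single (F₀ := F₀)]
    exact hform _ _

theorem subfieldSubgroup_le {P P' : GL (Fin n) F}
    (h1 : ∀ i j, ((P⁻¹ * P' : GL (Fin n) F) : Matrix (Fin n) (Fin n) F) i j ∈ F₀)
    (h2 : ∀ i j, ((P'⁻¹ * P : GL (Fin n) F) : Matrix (Fin n) (Fin n) F) i j ∈ F₀) :
    subfieldSubgroup F₀ P ≤ subfieldSubgroup F₀ P' := by
  intro g hg
  rw [mem_subfieldSubgroup_iff] at hg ⊢
  obtain ⟨d, hd, h⟩ := hg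
  refine ⟨d, hd, fun i j => ?_⟩
  have e : P'⁻¹ * g * P' = (P'⁻¹ * P) * (P⁻¹ * g * P) * (P⁻¹ * P') := by group
  rw [e, Units.val_mul, Units.val_mul, Matrix.mul_apply, Finset.mul_sum]
  refine F₀.sum_mem fun k _ => ?_
  rw [Matrix.mul_apply, Finset.sum_mul, Finset.mul_sum]
  refine F₀.sum_mem fun l _ => ?_
  have : d * (((P'⁻¹ * P : GL (Fin n) F) : Matrix (Fin n) (Fin n) F) i l *
      ((P⁻¹ * g * P : GL (Fin n) F) : Matrix (Fin n) (Fin n) F) l k *
      ((P⁻¹ * P' : GL (Fin n) F) : Matrix (Fin n) (Fin n) F) k j) =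
      ((P'⁻¹ * P : GL (Fin n) F) : Matrix (Fin n) (Fin n) F) i l *
      (d * ((P⁻¹ * g * P : GL (Fin n) F) : Matrix (Fin n) (Fin n) F) l k) *
      ((P⁻¹ * P' : GL (Fin n) F) : Matrix (Fin n) (Fin n) F) k j := by ring
  rw [this]
  exact F₀.mul_mem (F₀.mul_mem (h2 i l) (h l k)) (h1 k j)

/-- Standard position. -/
theorem maximal_one (S : Setup F₀ q q₀) (hn : 4 ≤ n) {r : ℕ} (hr : r.Prime) (hcard : Fintype.card F = Nat.card F₀ ^ r) :
    IsMaximalIn (SUg n F q) (subfieldSubgroup F₀ (1 : GL (Fin n) F) ⊓ SUg n F q) := by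
  have h32 : ¬ (n = 3 ∧ q = 2) := by omega
  have hF₀t : F₀ ≠ ⊤ := by
    intro h
    have h1 : Nat.card F₀ = Nat.card F := by
      rw [h]
      exact Nat.card_congr Subfield.topEquiv.toEquiv
    rw [Nat.card_eq_fintype_card (α := F), hcard] at h1
    have h2 : 1 < Nat.card F₀ := Finite.one_lt_card
    have h3 : Nat.card F₀ ^ 1 < Nat.card F₀ ^ r := Nat.pow_lt_pow_right h2 hr.one_lt
    rw [pow_one] at h3
    omega
  refine ⟨lt_of_le_of_ne inf_le_right fun h => ?_, fun M hHM hMS => ?_⟩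
  · exact SUg_not_le_subfieldSubgroup S.hF (by omega) h32 hF₀t 1 (h.ge.trans inf_le_left)
  · rcases dichotomy S hHM (fun g hg => (hMS hg).1) hn hr hcard with h | h
    · right
      exact le_antisymm hMS h
    · left
      exact le_antisymm (le_inf h hMS) hHM

theorem SUg_map {P : GL (Fin n) F} (hP : P ∈ GU n F q) :
    (SUg n F q).map (MulAut.conj P).toMonoidHom = SUg n F q := by
  have hsl := map_conj_specialLinear (F := F) P
  have key : ∀ Q ∈ GU n F q, ∀ g ∈ SUg n F q, Q * g * Q⁻¹ ∈ SUg n F q := by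
    intro Q hQ g hg
    refine ⟨(GU n F q).mul_mem ((GU n F q).mul_mem hQ hg.1) ((GU n F q).inv_mem hQ), ?_⟩
    have := map_conj_specialLinear (F := F) Q
    rw [← this]
    exact ⟨g, hg.2, rfl⟩
  ext g
  constructor
  · rintro ⟨x, hx, rfl⟩
    exact key P hP x hx
  · intro hg
    refine ⟨P⁻¹ * g * P, ?_, ?_⟩
    · have := key P⁻¹ ((GU n F q).inv_mem hP) g hg
      rwa [inv_inv] at this
    · simp [MulAut.conj_apply, mul_assoc]

/-- **The unitary subfield subgroups of `SU_n(q)` of odd prime degree are maximal**, `n ≥ 4`. -/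
theorem maximal (hF : Fintype.card F = q ^ 2) (hn : 4 ≤ n) {r : ℕ} (hr : r.Prime) (hro : Odd r)
    (hcard : Fintype.card F = Nat.card F₀ ^ r) {P : GL (Fin n) F}
    (hP : IsFormRationalStructure (hermForm n F q) F₀ 1 P) :
    IsMaximalIn (SUg n F q) (subfieldSubgroup F₀ P ⊓ SUg n F q) := by
  obtain ⟨q₀, S⟩ := exists_setup (F₀ := F₀) hF hro hcard
  obtain ⟨P', hP', h1, h2⟩ := exists_frame S hP
  have e1 : subfieldSubgroup F₀ P = subfieldSubgroup F₀ P' :=
    le_antisymm (subfieldSubgroup_le h1 h2) (subfieldSubgroup_le h2 h1)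
  rw [e1]
  have h3 := isMaximalIn_map (MulAut.conj P') (SUg_map hP') (maximal_one S hn hr hcard)
  have e2 : (subfieldSubgroup F₀ (1 : GL (Fin n) F) ⊓ SUg n F q).map (MulAut.conj P').toMonoidHom =
      subfieldSubgroup F₀ P' ⊓ SUg n F q := by
    rw [Subgroup.map_inf _ _ _ (MulAut.conj P').injective, SUg_map hP']
    congr 1
    rw [subfieldSubgroup, subfieldSubgroup, Subgroup.map_map]
    congr 1
    ext x
    simp [MulAut.conj_apply]
  rwa [e2] at h3

end Cfsg.Agent.H930.GUSub
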