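import Cfsg.Agent.H930.TTrans

/-!
# The symplectic subgroups of `SU_n(q)` are maximal

Elementary proof, any `n ≥ 3` (then `n ≥ 4` is even), any `q`: an overgroup contains all transvections with rational
centre and one with an irrational centre `a + η b`, `κ(a, b) = 0`; moving by rational transvections gives all.
-/

set_option autoImplicit false
set_option linter.unusedSectionVars false

namespace Cfsg.Agent.H930.SpInSU

open Cfsg Cfsg.Geo Cfsg.Agent.H918 Cfsg.Agent.LieClassical.HermBasic Cfsg.Agent.H930 Cfsg.Agent.H873.Sub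
open scoped Matrix MatrixGroups

variable {F : Type*} [Field F] [Fintype F] {n q : ℕ} (hF : Fintype.card F = q ^ 2)
  {F₀ : Subfield F} (hF₀ : Fintype.card F = Nat.card F₀ ^ 2)

include hF hF₀ in
theorem card_F₀ : Nat.card F₀ = q := by
  rw [hF] at hF₀
  exact (Nat.pow_left_injective two_ne_zero hF₀).symm

include hF hF₀ in
/-- The subfield `F₀` is the fixed field of `x ↦ x ^ q`. -/
theorem mem_F₀_iff (x : F) : x ∈ F₀ ↔ x ^ q = x := by
  classical
  have hq := card_F₀ hF hF₀
  have h1 : ∀ x : F, x ∈ F₀ → x ^ q = x := by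
    intro x hx
    have : Fintype F₀ := Fintype.ofFinite F₀
    have h2 : (⟨x, hx⟩ : F₀) ^ Fintype.card F₀ = ⟨x, hx⟩ := FiniteField.pow_card _
    rw [← Nat.card_eq_fintype_card, hq] at h2
    exact congrArg Subtype.val h2
  refine ⟨h1 x, fun hx => ?_⟩
  -- count
  have hcard := card_fixed hF
  let f : F₀ → {x : F // x ^ q = x} := fun y => ⟨y, h1 y y.2⟩
  have hf : Function.Injective f := by
    intro a b h
    exact Subtype.ext (congrArg (fun z : {x : F // x ^ q = x} => (z : F)) h)
  have hs : Function.Surjective f := by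
    have : Function.Bijective f := (Nat.bijective_iff_injective_and_card f).2 ⟨hf, by rw [hcard, hq]⟩
    exact this.2
  obtain ⟨y, hy⟩ := hs ⟨x, hx⟩
  have : (y : F) = x := congrArg (fun z : {x : F // x ^ q = x} => (z : F)) hy
  rw [← this]
  exact y.2

include hF hF₀ in
/-- Decomposition with respect to an irrational element. -/
theorem exists_decomp {η : F} (hη : η ^ q ≠ η) (x : F) : ∃ a b : F₀, x = a + η * b := by
  set b : F := (x ^ q - x) / (η ^ q - η) with hb
  have hd : η ^ q - η ≠ 0 := sub_ne_zero.2 hη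
  have hbq : b ^ q = b := by
    rw [hb, div_pow, sub_pow_q hF, sub_pow_q hF, pow_q_pow_q hF, pow_q_pow_q hF]
    rw [← neg_sub (x ^ q), ← neg_sub (η ^ q), neg_div_neg_eq]
  have haq : (x - η * b) ^ q = x - η * b := by
    rw [sub_pow_q hF, mul_pow, hbq]
    have : (η ^ q - η) * b = x ^ q - x := by
      rw [hb]; field_simp
    linear_combination -this
  refine ⟨⟨x - η * b, (mem_F₀_iff hF hF₀ _).2 haq⟩, ⟨b, (mem_F₀_iff hF hF₀ _).2 hbq⟩, ?_⟩
  simp

variable {ζ : F} (hζ0 : ζ ≠ 0) (hζ : ζ + ζ ^ q = 0) {P : GL (Fin n) F}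
  (hP : IsFormRationalStructure (hermForm n F q) F₀ ζ P)
  (halt : ∀ u : Fin n → F, (∀ i, u i ∈ F₀) → hermForm n F q (Matrix.mulVec (P : Matrix (Fin n) (Fin n) F) u) (Matrix.mulVec (P : Matrix (Fin n) (Fin n) F) u) = 0)

/-- The `F₀`-valued form. -/
noncomputable def kap (hP : IsFormRationalStructure (hermForm n F q) F₀ ζ P) (u v : Fin n → F₀) : F₀ :=
  ⟨ζ * hermForm n F q (rv F₀ P u) (rv F₀ P v), hP _ _ (fun i => (u i).2) (fun i => (v i).2)⟩

theorem coe_kap (u v : Fin n → F₀) : (kap hP u v : F) = ζ * hermForm n F q (rv F₀ P u) (rv F₀ P v) := rfl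

theorem kap_add_left (u u' v : Fin n → F₀) : kap hP (u + u') v = kap hP u v + kap hP u' v := by
  apply Subtype.ext
  rw [coe_kap, rv_add, herm_add_left, mul_add]
  rfl

theorem kap_smul_left (c : F₀) (u v : Fin n → F₀) : kap hP (c • u) v = c * kap hP u v := by
  apply Subtype.ext
  rw [coe_kap, rv_smul, herm_smul_left]
  push_cast
  rw [coe_kap]
  ring

include hF in
theorem kap_add_right (u v v' : Fin n → F₀) : kap hP u (v + v') = kap hP u v + kap hP u v' := by
  apply Subtype.ext
  rw [coe_kap, rv_add, herm_add_right hF, mul_add]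
  rfl

include hF hF₀ in
theorem kap_smul_right (c : F₀) (u v : Fin n → F₀) : kap hP u (c • v) = c * kap hP u v := by
  apply Subtype.ext
  rw [coe_kap, rv_smul, herm_smul_right, (mem_F₀_iff hF hF₀ _).1 c.2]
  push_cast
  rw [coe_kap]
  ring

include halt in
theorem kap_self (u : Fin n → F₀) : kap hP u u = 0 := by
  apply Subtype.ext
  rw [coe_kap]
  have := halt (cv F₀ u) (fun i => (u i).2)
  change hermForm n F q (rv F₀ P u) (rv F₀ P u) = 0 at this
  rw [this, mul_zero]
  rfl

include hF halt in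
theorem kap_swap (u v : Fin n → F₀) : kap hP v u = - kap hP u v := by
  have h := kap_self hP halt (u + v)
  rw [kap_add_left, kap_add_right hF, kap_add_right hF, kap_self hP halt, kap_self hP halt] at h
  linear_combination h

include hF hζ0 in
/-- Non-degeneracy of the form. -/
theorem kap_nondeg {u : Fin n → F₀} (hu : u ≠ 0) : ∃ v, kap hP u v ≠ 0 := by
  by_contra hcon
  push Not at hcon
  apply hu
  have h0 : rv F₀ P u = 0 := by
    apply herm_nondeg hF
    intro x
    -- x is a combination of rational vectors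
    have hx : x = ∑ j, (((P⁻¹ : GL (Fin n) F) : Matrix (Fin n) (Fin n) F) *ᵥ x) j • rv F₀ P (Pi.single j 1) := by
      have h1 : (((P⁻¹ : GL (Fin n) F) : Matrix (Fin n) (Fin n) F) *ᵥ x) =
          ∑ j, (((P⁻¹ : GL (Fin n) F) : Matrix (Fin n) (Fin n) F) *ᵥ x) j • (Pi.single j 1 : Fin n → F) := by
        ext i
        simp [Finset.sum_apply, Pi.single_apply]
      have h2 := congrArg (fun z => (P : Matrix (Fin n) (Fin n) F) *ᵥ z) h1
      simp only [mulVec_inv, Matrix.mulVec_sum, Matrix.mulVec_smul] at h2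
      refine h2.trans (Finset.sum_congr rfl fun j _ => ?_)
      rw [rv, cv_single]
    rw [hx, herm_sum_right hF]
    refine Finset.sum_eq_zero fun j _ => ?_
    rw [herm_smul_right]
    have h3 := congrArg Subtype.val (hcon (Pi.single j 1))
    rw [coe_kap] at h3
    have h4 : hermForm n F q (rv F₀ P u) (rv F₀ P (Pi.single j 1)) = 0 := by
      rcases mul_eq_zero.1 h3 with h | h
      · exact absurd h hζ0
      · exact h
    rw [h4, mul_zero]
  have := rv_injective P (h0.trans (rv_zero P).symm)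
  exact this

include hF hF₀ hζ0 halt in
/-- A vector outside the line of `b` is not orthogonal to `b^⊥`. -/
theorem exists_perp {a b : Fin n → F₀} (hab : ∀ c : F₀, a ≠ c • b) : ∃ x, kap hP b x = 0 ∧ kap hP a x ≠ 0 := by
  by_contra hcon
  push Not at hcon
  by_cases hb : b = 0
  · subst hb
    have ha : a ≠ 0 := by
      intro h
      exact hab 0 (by rw [h, smul_zero])
    obtain ⟨x, hx⟩ := kap_nondeg hF hζ0 hP ha
    apply hx
    apply hcon
    have := kap_smul_left hP 0 (0 : Fin n → F₀) x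
    simpa using this
  · obtain ⟨w, hw⟩ := kap_nondeg hF hζ0 hP hb
    set c : F₀ := kap hP a w / kap hP b w with hc
    apply hab c
    by_contra hne
    have hne' : a - c • b ≠ 0 := sub_ne_zero.2 hne
    obtain ⟨x, hx⟩ := kap_nondeg hF hζ0 hP hne'
    have h1 := hcon (x - (kap hP b x / kap hP b w) • w) (by
      rw [sub_eq_add_neg, ← neg_smul, kap_add_right hF, kap_smul_right hF hF₀]
      field_simp
      ring)
    apply hx
    rw [sub_eq_add_neg, ← neg_smul, kap_add_right hF, kap_smul_right hF hF₀] at h1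
    rw [sub_eq_add_neg, ← neg_smul, kap_add_left, kap_smul_left, hc]
    field_simp at h1 ⊢
    linear_combination h1

/-! ### Transvections with rational centre are in the subfield group -/

include hF hF₀ hζ0 hζ halt hP in
theorem tt_rat (u : Fin n → F₀) : TT q (subfieldSubgroup F₀ P ⊓ SUg n F q) (rv F₀ P u) := by
  have hu : hermForm n F q (rv F₀ P u) (rv F₀ P u) = 0 := halt (cv F₀ u) (fun i => (u i).2)
  refine tt_of_tv hF hu fun c hc => ⟨?_, tv_mem hF hu hc⟩
  apply mem_subfieldSubgroup_of_rat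
  intro w
  rw [tv_mulVec]
  -- c * h(w,u) is rational
  have h1 : (c / ζ) ^ q = c / ζ := by
    have e1 : c ^ q = - c := by linear_combination hc
    have e2 : ζ ^ q = - ζ := by linear_combination hζ
    rw [div_pow, e1, e2, neg_div_neg_eq]
  have h2 : c * hermForm n F q (rv F₀ P w) (rv F₀ P u) =
      (((⟨c / ζ, (mem_F₀_iff hF hF₀ _).2 h1⟩ : F₀) * kap hP w u : F₀) : F) := by
    push_cast
    rw [coe_kap]
    field_simp
  rw [h2, ← rv_smul, ← rv_add]
  exact ⟨_, rfl⟩

/-! ### Moving an irrational centre -/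

variable {M : Subgroup (GL (Fin n) F)} (hM : subfieldSubgroup F₀ P ⊓ SUg n F q ≤ M) (η : F)

include hF hF₀ hζ0 hζ halt hM in
/-- Add to the first component. -/
theorem move_add {a b v : Fin n → F₀} (hav : kap hP a v ≠ 0) (hbv : kap hP b v = 0)
    (h : TT q M (rv F₀ P a + η • rv F₀ P b)) : TT q M (rv F₀ P (a + v) + η • rv F₀ P b) := by
  have hv := tt_rat hF hF₀ hζ0 hζ hP halt v
  -- the rational transvection
  set c : F := ζ * ((kap hP a v)⁻¹ : F₀) with hc
  have hcq : c + c ^ q = 0 := by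
    rw [hc, mul_pow, (mem_F₀_iff hF hF₀ _).1 (SetLike.coe_mem ((kap hP a v)⁻¹ : F₀)), ← add_mul, hζ, zero_mul]
  obtain ⟨g, hg, hgx⟩ := hv.2 c hcq
  have hgM := hM hg
  have hgu : ∀ x y, hermForm n F q ((g : Matrix (Fin n) (Fin n) F) *ᵥ x) ((g : Matrix (Fin n) (Fin n) F) *ᵥ y) =
      hermForm n F q x y := hg.2.1
  have := h.conj hgM hgu
  have e : (g : Matrix (Fin n) (Fin n) F) *ᵥ (rv F₀ P a + η • rv F₀ P b) = rv F₀ P (a + v) + η • rv F₀ P b := by
    rw [Matrix.mulVec_add, Matrix.mulVec_smul, hgx, hgx]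
    have h1 : c * hermForm n F q (rv F₀ P a) (rv F₀ P v) = 1 := by
      have h2 := coe_kap hP a v
      have h3 : (kap hP a v : F) ≠ 0 := by
        intro h0
        exact hav (by exact_mod_cast h0)
      rw [hc]
      push_cast
      rw [mul_comm ζ, mul_assoc, ← h2, inv_mul_cancel₀ h3]
    have h2 : hermForm n F q (rv F₀ P b) (rv F₀ P v) = 0 := by
      have h3 := congrArg Subtype.val hbv
      rw [coe_kap] at h3
      rcases mul_eq_zero.1 h3 with h4 | h4
      · exact absurd h4 hζ0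
      · exact h4
    rw [h1, h2, mul_zero, zero_smul, add_zero, one_smul, rv_add]
  rwa [e] at this

include hF hF₀ hζ0 hζ halt hM in
/-- Change the first component. -/
theorem move_fst {a a' b : Fin n → F₀} (hab : ∀ c : F₀, a ≠ c • b) (ha'b : ∀ c : F₀, a' ≠ c • b)
    (h1 : kap hP a b = 0) (h1' : kap hP a' b = 0)
    (h : TT q M (rv F₀ P a + η • rv F₀ P b)) : TT q M (rv F₀ P a' + η • rv F₀ P b) := by
  have key : ∀ a a' : Fin n → F₀, kap hP b a = 0 → kap hP b a' = 0 → kap hP a a' ≠ 0 →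
      TT q M (rv F₀ P a + η • rv F₀ P b) → TT q M (rv F₀ P a' + η • rv F₀ P b) := by
    intro a a' hba hba' haa' h
    have := move_add hF hF₀ hζ0 hζ hP halt hM η (a := a) (b := b) (v := a' - a) (by
      rw [sub_eq_add_neg, ← neg_one_smul F₀ a, kap_add_right hF, kap_smul_right hF hF₀, kap_self hP halt,
        mul_zero, add_zero]
      exact haa') (by
      rw [sub_eq_add_neg, ← neg_one_smul F₀ a, kap_add_right hF, kap_smul_right hF hF₀, hba, hba']
      ring) h
    rwa [add_sub_cancel] at this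
  have hba : kap hP b a = 0 := by rw [kap_swap hF hP halt, h1, neg_zero]
  have hba' : kap hP b a' = 0 := by rw [kap_swap hF hP halt, h1', neg_zero]
  -- a vector of b^⊥ not orthogonal to a and a'
  obtain ⟨x, hbx, hax⟩ := exists_perp hF hF₀ hζ0 hP halt hab
  obtain ⟨y, hby, hay⟩ := exists_perp hF hF₀ hζ0 hP halt ha'b
  obtain ⟨z, hbz, haz, haz'⟩ : ∃ z, kap hP b z = 0 ∧ kap hP a z ≠ 0 ∧ kap hP a' z ≠ 0 := by
    by_cases hx' : kap hP a' x = 0
    · by_cases hy' : kap hP a y = 0
      · refine ⟨x + y, ?_, ?_, ?_⟩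
        · rw [kap_add_right hF, hbx, hby, add_zero]
        · rw [kap_add_right hF, hy', add_zero]; exact hax
        · rw [kap_add_right hF, hx', zero_add]; exact hay
      · exact ⟨y, hby, hy', hay⟩
    · exact ⟨x, hbx, hax, hx'⟩
  have h2 := key a z hba hbz haz h
  exact key z a' hbz hba' (by rw [kap_swap hF hP halt]; exact neg_ne_zero.2 haz') h2

include hF hF₀ hζ0 hζ halt hM in
/-- Change the second component. -/
theorem move_snd {a b b' : Fin n → F₀} (hη : η ≠ 0) (hab : ∀ c : F₀, b ≠ c • a) (ha'b : ∀ c : F₀, b' ≠ c • a)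
    (h1 : kap hP a b = 0) (h1' : kap hP a b' = 0)
    (h : TT q M (rv F₀ P a + η • rv F₀ P b)) : TT q M (rv F₀ P a + η • rv F₀ P b') := by
  have e : ∀ b : Fin n → F₀, rv F₀ P b + η⁻¹ • rv F₀ P a = η⁻¹ • (rv F₀ P a + η • rv F₀ P b) := by
    intro b
    rw [smul_add, smul_smul, inv_mul_cancel₀ hη, one_smul, add_comm]
  have h2 : TT q M (rv F₀ P b + η⁻¹ • rv F₀ P a) := by
    rw [e]
    exact h.smul hF _
  have h3 := move_fst hF hF₀ hζ0 hζ hP halt hM η⁻¹ hab ha'b
    (by rw [kap_swap hF hP halt, h1, neg_zero]) (by rw [kap_swap hF hP halt, h1', neg_zero]) h2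
  rw [e] at h3
  exact h3.of_smul hF (inv_ne_zero hη)

theorem exists_notMem_lines {K V : Type*} [Field K] [AddCommGroup V] [Module K V] {x y b b' : V}
    (hxy : LinearIndependent K ![x, y]) :
    ∃ z ∈ Submodule.span K {x, y}, (∀ c : K, z ≠ c • b) ∧ ∀ c : K, z ≠ c • b' := by
  rw [LinearIndependent.pair_iff] at hxy
  by_contra hcon
  push Not at hcon
  -- three vectors x, y, x + y pairwise independent are on two lines
  have hL : ∀ z ∈ Submodule.span K {x, y}, (∃ c : K, z = c • b) ∨ ∃ c : K, z = c • b' := by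
    intro z hz
    by_cases h : ∃ c : K, z = c • b
    · exact Or.inl h
    · push Not at h
      exact Or.inr (hcon z hz h)
  have hind : ∀ (v : V) (z w : V), (∃ c : K, z = c • v) → (∃ c : K, w = c • v) → ∃ s t : K, (s ≠ 0 ∨ t ≠ 0) ∧ s • z + t • w = 0 := by
    rintro v z w ⟨c, rfl⟩ ⟨d, rfl⟩
    by_cases hd : d = 0
    · exact ⟨0, 1, Or.inr one_ne_zero, by rw [hd]; simp⟩
    · exact ⟨d, -c, Or.inl hd, by rw [smul_smul, smul_smul, ← add_smul]; ring_nf; simp⟩
  have hx : x ∈ Submodule.span K {x, y} := Submodule.subset_span (by simp)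
  have hy : y ∈ Submodule.span K {x, y} := Submodule.subset_span (by simp)
  have hxy' : x + y ∈ Submodule.span K {x, y} := Submodule.add_mem _ hx hy
  have nxy : ¬ ∃ s t : K, (s ≠ 0 ∨ t ≠ 0) ∧ s • x + t • y = 0 := by
    rintro ⟨s, t, hst, h⟩
    obtain ⟨h1, h2⟩ := hxy s t h
    rcases hst with h3 | h3
    · exact h3 h1
    · exact h3 h2
  have nx : ¬ ∃ s t : K, (s ≠ 0 ∨ t ≠ 0) ∧ s • x + t • (x + y) = 0 := by
    rintro ⟨s, t, hst, h⟩
    obtain ⟨h1, h2⟩ := hxy (s + t) t (by rw [← h, add_smul, smul_add]; abel)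
    rcases hst with h3 | h3
    · apply h3; rw [h2, add_zero] at h1; exact h1
    · exact h3 h2
  have ny : ¬ ∃ s t : K, (s ≠ 0 ∨ t ≠ 0) ∧ s • y + t • (x + y) = 0 := by
    rintro ⟨s, t, hst, h⟩
    obtain ⟨h1, h2⟩ := hxy t (s + t) (by rw [← h, add_smul, smul_add]; abel)
    rcases hst with h3 | h3
    · apply h3; rw [h1, add_zero] at h2; exact h2
    · exact h3 h1
  rcases hL x hx with h1 | h1 <;> rcases hL y hy with h2 | h2 <;> rcases hL (x + y) hxy' with h3 | h3
  · exact nxy (hind _ _ _ h1 h2)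
  · exact nxy (hind _ _ _ h1 h2)
  · exact nx (hind _ _ _ h1 h3)
  · exact ny (hind _ _ _ h2 h3)
  · exact ny (hind _ _ _ h2 h3)
  · exact nx (hind _ _ _ h1 h3)
  · exact nxy (hind _ _ _ h1 h2)
  · exact nxy (hind _ _ _ h1 h2)

include hF hF₀ in
/-- Two orthogonal conditions leave a plane. -/
theorem exists_indep_perp (hn : 4 ≤ n) (b b' : Fin n → F₀) :
    ∃ x y : Fin n → F₀, LinearIndependent F₀ ![x, y] ∧
      ∀ z ∈ Submodule.span F₀ {x, y}, kap hP b z = 0 ∧ kap hP b' z = 0 := by
  let L : (Fin n → F₀) →ₗ[F₀] (F₀ × F₀) :=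
    { toFun := fun u => (kap hP b u, kap hP b' u)
      map_add' := fun x y => by simp [kap_add_right hF]
      map_smul' := fun c x => by simp [kap_smul_right hF hF₀] }
  have hdim : 2 ≤ Module.finrank F₀ (LinearMap.ker L) := by
    have h1 := L.finrank_range_add_finrank_ker
    have h2 : Module.finrank F₀ (LinearMap.range L) ≤ 2 := by
      refine (Submodule.finrank_le _).trans ?_
      simp
    rw [Module.finrank_fin_fun] at h1
    omega
  have hpos : 0 < Module.finrank F₀ (LinearMap.ker L) := by omega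
  have hnt : Nontrivial (LinearMap.ker L) := Module.nontrivial_of_finrank_pos hpos
  obtain ⟨x, hx⟩ := exists_ne (0 : LinearMap.ker L)
  obtain ⟨y, hxy⟩ := exists_linearIndependent_pair_of_one_lt_finrank (R := F₀) (M := LinearMap.ker L) (by omega) hx
  refine ⟨x, y, ?_, ?_⟩
  · have := hxy.map' (LinearMap.ker L).subtype (Submodule.ker_subtype _)
    have e : (LinearMap.ker L).subtype ∘ ![x, y] = ![(x : Fin n → F₀), (y : Fin n → F₀)] := by
      ext i
      fin_cases i <;> rfl
    rwa [e] at this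
  · intro z hz
    have hle : Submodule.span F₀ {(x : Fin n → F₀), (y : Fin n → F₀)} ≤ LinearMap.ker L := by
      rw [Submodule.span_le]
      rintro w (rfl | rfl)
      · exact x.2
      · exact y.2
    have h1 := hle hz
    rw [LinearMap.mem_ker] at h1
    exact ⟨congrArg Prod.fst h1, congrArg Prod.snd h1⟩

include hF hF₀ hζ0 hζ halt hM in
/-- All centres. -/
theorem tt_all (hn : 4 ≤ n) (hη : η ^ q ≠ η) {a b : Fin n → F₀} (hb0 : b ≠ 0) (hab : ∀ c : F₀, a ≠ c • b)
    (h1 : kap hP a b = 0) (h : TT q M (rv F₀ P a + η • rv F₀ P b)) {v : Fin n → F}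
    (hv : hermForm n F q v v = 0) : TT q M v := by
  have hη0 : η ≠ 0 := by
    rintro rfl
    exact hη (zero_pow_q hF)
  have hζq : ζ ^ q = -ζ := by linear_combination hζ
  -- decompose v
  choose A B hAB using fun i => exists_decomp hF hF₀ hη ((((P⁻¹ : GL (Fin n) F) : Matrix (Fin n) (Fin n) F) *ᵥ v) i)
  have hvAB : v = rv F₀ P A + η • rv F₀ P B := by
    have e : ((P⁻¹ : GL (Fin n) F) : Matrix (Fin n) (Fin n) F) *ᵥ v = cv F₀ A + η • cv F₀ B := by
      ext i
      rw [hAB i]
      rfl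
    have := congrArg (fun z => (P : Matrix (Fin n) (Fin n) F) *ᵥ z) e
    simp only [mulVec_inv, Matrix.mulVec_add, Matrix.mulVec_smul] at this
    exact this
  have hself : ∀ u : Fin n → F₀, hermForm n F q (rv F₀ P u) (rv F₀ P u) = 0 :=
    fun u => halt (cv F₀ u) (fun i => (u i).2)
  -- isotropy
  have hκ : kap hP A B = 0 := by
    rw [hvAB, herm_add_left, herm_add_right hF, herm_add_right hF, herm_smul_left, herm_smul_left,
      herm_smul_right, herm_smul_right, hself, hself] at hv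
    have e1 := coe_kap hP A B
    have e2 := congrArg Subtype.val (kap_swap hF hP halt A B)
    rw [coe_kap] at e2
    push_cast at e2
    apply Subtype.ext
    have hne : η ^ q - η ≠ 0 := sub_ne_zero.2 hη
    have : (η ^ q - η) * (kap hP A B : F) = 0 := by
      rw [e1] at e2 ⊢
      linear_combination ζ * hv - η * e2
    rcases mul_eq_zero.1 this with h | h
    · exact absurd h hne
    · exact h
  rw [hvAB]
  -- dependent case
  by_cases hdep : (∃ c : F₀, A = c • B) ∨ B = 0
  · rcases hdep with ⟨c, hc⟩ | hB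
    · have e : rv F₀ P A + η • rv F₀ P B = ((c : F) + η) • rv F₀ P B := by
        rw [hc, rv_smul, add_smul]
      rw [e]
      exact ((tt_rat hF hF₀ hζ0 hζ hP halt B).mono hM).smul hF _
    · rw [hB, rv_zero, smul_zero, add_zero]
      exact (tt_rat hF hF₀ hζ0 hζ hP halt A).mono hM
  push Not at hdep
  obtain ⟨hAB', hB0⟩ := hdep
  obtain ⟨x, y, hxy, hperp⟩ := exists_indep_perp hF hF₀ hP hn b B
  obtain ⟨z, hz, hzb, hzB⟩ := exists_notMem_lines (b := b) (b' := B) hxy
  obtain ⟨hbz, hBz⟩ := hperp z hz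
  have hzb' : kap hP z b = 0 := by rw [kap_swap hF hP halt, hbz, neg_zero]
  have hzB' : kap hP z B = 0 := by rw [kap_swap hF hP halt, hBz, neg_zero]
  have hflip : ∀ {u w : Fin n → F₀}, w ≠ 0 → (∀ c : F₀, u ≠ c • w) → ∀ c : F₀, w ≠ c • u := by
    intro u w hw huw c hc
    have hc0 : c ≠ 0 := by
      rintro rfl
      exact hw (by rw [hc, zero_smul])
    exact huw c⁻¹ (by rw [hc, smul_smul, inv_mul_cancel₀ hc0, one_smul])
  have s1 := move_fst hF hF₀ hζ0 hζ hP halt hM η hab hzb h1 hzb' h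
  have s2 := move_snd hF hF₀ hζ0 hζ hP halt hM η hη0 (hflip hb0 hzb) (hflip hB0 hzB) hzb' hzB' s1
  exact move_fst hF hF₀ hζ0 hζ hP halt hM η hzB hAB' hzB' hκ s2

include hF hF₀ hζ0 hζ hP halt in
/-- **The symplectic subgroup of `SU_n(q)` is maximal**, `n ≥ 4`. -/
theorem maximal (hn : 4 ≤ n) : IsMaximalIn (SUg n F q) (subfieldSubgroup F₀ P ⊓ SUg n F q) := by
  have h32 : ¬ (n = 3 ∧ q = 2) := by omega
  have hcard : Fintype.card (Fin n) = n := Fintype.card_fin n
  obtain ⟨η, hη⟩ := exists_not_fixed hF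
  have hF₀t : F₀ ≠ ⊤ := by
    rintro rfl
    exact hη ((mem_F₀_iff hF hF₀ η).1 (Subfield.mem_top η))
  refine ⟨lt_of_le_of_ne inf_le_right fun h => ?_, fun M hHM hMS => ?_⟩
  · exact SUg_not_le_subfieldSubgroup hF (by omega) h32 hF₀t P (h.ge.trans inf_le_left)
  by_cases hMsub : M ≤ subfieldSubgroup F₀ P
  · left
    exact le_antisymm (le_inf hMsub hMS) hHM
  right
  refine le_antisymm hMS ?_
  obtain ⟨g, hgM, hg⟩ := SetLike.not_le_iff_exists.1 hMsub
  obtain ⟨u, hu⟩ : ∃ u : Fin n → F₀, ∀ (l : F) (w : Fin n → F₀),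
      (g : Matrix (Fin n) (Fin n) F) *ᵥ rv F₀ P u ≠ l • rv F₀ P w := by
    by_contra hcon
    push Not at hcon
    exact hg (mem_subfieldSubgroup_of_lines (by rw [hcard]; omega) hcon)
  set x := (g : Matrix (Fin n) (Fin n) F) *ᵥ rv F₀ P u with hx
  have hgu : ∀ x y, hermForm n F q ((g : Matrix (Fin n) (Fin n) F) *ᵥ x) ((g : Matrix (Fin n) (Fin n) F) *ᵥ y) =
      hermForm n F q x y := (hMS hgM).1
  have hxT : TT q M x := ((tt_rat hF hF₀ hζ0 hζ hP halt u).mono hHM).conj hgM hgu
  -- decompose x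
  choose A B hAB using fun i => exists_decomp hF hF₀ hη ((((P⁻¹ : GL (Fin n) F) : Matrix (Fin n) (Fin n) F) *ᵥ x) i)
  have hvAB : x = rv F₀ P A + η • rv F₀ P B := by
    have e : ((P⁻¹ : GL (Fin n) F) : Matrix (Fin n) (Fin n) F) *ᵥ x = cv F₀ A + η • cv F₀ B := by
      ext i
      rw [hAB i]
      rfl
    have := congrArg (fun z => (P : Matrix (Fin n) (Fin n) F) *ᵥ z) e
    simp only [mulVec_inv, Matrix.mulVec_add, Matrix.mulVec_smul] at this
    exact this
  have hself : ∀ u : Fin n → F₀, hermForm n F q (rv F₀ P u) (rv F₀ P u) = 0 :=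
    fun u => halt (cv F₀ u) (fun i => (u i).2)
  have hκ : kap hP A B = 0 := by
    have hv := hxT.1
    rw [hvAB, herm_add_left, herm_add_right hF, herm_add_right hF, herm_smul_left, herm_smul_left,
      herm_smul_right, herm_smul_right, hself, hself] at hv
    have e1 := coe_kap hP A B
    have e2 := congrArg Subtype.val (kap_swap hF hP halt A B)
    rw [coe_kap] at e2
    push_cast at e2
    apply Subtype.ext
    have hne : η ^ q - η ≠ 0 := sub_ne_zero.2 hη
    have : (η ^ q - η) * (kap hP A B : F) = 0 := by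
      rw [e1] at e2 ⊢
      linear_combination ζ * hv - η * e2
    rcases mul_eq_zero.1 this with h | h
    · exact absurd h hne
    · exact h
  have hB0 : B ≠ 0 := by
    rintro rfl
    apply hu 1 A
    rw [hvAB, rv_zero, smul_zero, add_zero, one_smul]
  have hABi : ∀ c : F₀, A ≠ c • B := by
    rintro c hc
    apply hu ((c : F) + η) B
    rw [hvAB, hc, rv_smul, add_smul]
  rw [hvAB] at hxT
  exact SUg_le_of_TT hF h32 fun v hv =>
    tt_all hF hF₀ hζ0 hζ hP halt hHM η hn hη hB0 hABi hκ hxT hv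

end Cfsg.Agent.H930.SpInSU
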