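import Cfsg.Agent.H930.ExtVF
import Cfsg.Agent.H930.ExtUK

/-!
# The normaliser of an adjoint-closed field of odd prime degree `r`, `n ≥ 2 r`, is maximal in `SU_n(q)`
-/

set_option autoImplicit false

namespace Cfsg.Agent.H930.ExtU

open Module Cfsg Cfsg.Geo
open scoped MatrixGroups Matrix
open Cfsg.Agent.H918 (SUg mem_SUg)

universe u

variable {F : Type u} [Field F] [Fintype F]

/-- **The normaliser of an adjoint-closed field of odd prime degree `r` is maximal in `SU_n(q)`, `n = 2 r`.** -/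
theorem maximal_two {n q r : ℕ} (hF : Fintype.card F = q ^ 2) (hr : r.Prime) (hodd : Odd r) (hn : n = 2 * r)
    (hex : ¬ (r = 3 ∧ q = 2)) {K : Subalgebra F (Matrix (Fin n) (Fin n) F)}
    (hK : IsFieldSubalgebra r K) (hadj : IsAdjointClosedFor (hermForm n F q) K) :
    IsMaximalIn (SUg n F q) (subalgebraNormalizer K ⊓ SUg n F q) := by
  have hr3 : 3 ≤ r := by
    have := hr.two_le
    have h2 : r ≠ 2 := by rintro rfl; exact absurd hodd (by decide)
    omega
  refine maximal_of_dichotomy (m := 2) hF hn le_rfl hr3 hodd hK hadj ?_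
  intro K' _ _ _ ℓ D hfr M h hB
  exact h.dichotomy_two D hB (by rw [hfr]; exact hr) (by rw [hfr]; exact hodd) (by rw [hfr]; exact hex)

/-- **The normaliser of an adjoint-closed field of odd prime degree `r` is maximal in `SU_n(q)`, `n ≠ r`,
`(n, r, q) ≠ (6, 3, 2)`.** -/
theorem maximal_of_ne {n q r : ℕ} (hF : Fintype.card F = q ^ 2) (hr : r.Prime) (hodd : Odd r) (hn0 : n ≠ 0) (hn : n ≠ r)
    (hex : ¬ (n = 6 ∧ r = 3 ∧ q = 2)) {K : Subalgebra F (Matrix (Fin n) (Fin n) F)}
    (hK : IsFieldSubalgebra r K) (hadj : IsAdjointClosedFor (hermForm n F q) K) :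
    IsMaximalIn (SUg n F q) (subalgebraNormalizer K ⊓ SUg n F q) := by
  have hne : NeZero n := ⟨hn0⟩
  obtain ⟨m, hm⟩ := H912.finrank_dvd_of_fieldSub hK
  rw [Fintype.card_fin] at hm
  have h3 : m ≠ 0 := by rintro rfl; exact hn0 (by rw [hm, mul_zero])
  have h4 : m ≠ 1 := by rintro rfl; exact hn (by rw [hm, mul_one])
  rcases Nat.lt_or_ge m 3 with h5 | h5
  · have h6 : m = 2 := by omega
    subst h6
    refine maximal_two hF hr hodd (by rw [hm, mul_comm]) ?_ hK hadj
    rintro ⟨rfl, rfl⟩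
    exact hex ⟨hm, rfl, rfl⟩
  · refine maximal hF hr hodd ?_ hK hadj
    rw [hm, mul_comm]
    exact Nat.mul_le_mul_left _ h5

end Cfsg.Agent.H930.ExtU
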