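import Cfsg.Agent.H930.PrmG
import Cfsg.Agent.H192.SingerFinal

/-!
# The normaliser of an adjoint-closed field of prime degree `n ≥ 5` is maximal in `SU_n(q)`

`maximal_of_known` : the theorem, with the order table and the classification (for the groups `Tq L`) as hypotheses.
-/

set_option autoImplicit false
set_option linter.unusedSectionVars false

namespace Cfsg.Agent.H930.Prm

open Module Cfsg Cfsg.Geo
open scoped MatrixGroups Matrix
open Cfsg.Agent.H918 (SUg)
open Cfsg.Agent.OrdDiv (prU OrderTable)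
open Cfsg.Agent.H926.Cc

universe u

variable {F : Type u} [Field F] [Fintype F]

theorem maximal_of_known (TB : OrderTable.{u}) {n q : ℕ} (hF : Fintype.card F = q ^ 2) (hn : n.Prime) (h5 : 5 ≤ n)
    (h52 : ¬ (n = 5 ∧ q = 2)) {K : Subalgebra F (Matrix (Fin n) (Fin n) F)} (hK : IsFieldSubalgebra n K)
    (hadj : IsAdjointClosedFor (hermForm n F q) K)
    (hKn : ∀ L : Subgroup (GL (Fin n) F), IsSimpleGroup (Tq L) → IsKnownSimple' (Tq L)) :
    IsMaximalIn (SUg n F q) (subalgebraNormalizer K ⊓ SUg n F q) := by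
  refine isMaximalIn_of hF hn h5 hK hadj fun L hN hL h => ?_
  obtain ⟨d, hd, hle⟩ := h.num
  have hsimp := h.simple
  have hker : (QuotientGroup.mk' (Zs L)).ker = Zs L := QuotientGroup.ker_mk' _
  refine Cfsg.Agent.H192.Singer.su_final TB hF h.nonab h.simple (hKn L h.simple) (QuotientGroup.mk' (Zs L))
    (QuotientGroup.mk'_surjective _) (by rw [hker]; exact h.central) ?_ hd h52 hle
  rw [hker]
  have h1 := Subgroup.card_eq_card_quotient_mul_card_subgroup (Zs L)
  have h2 := h.card
  have h3 : 0 < Nat.card (Tq L) := Nat.card_pos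
  have h4 : Nat.card (Zs L) = Nat.gcd n (q + 1) := by
    apply Nat.eq_of_mul_eq_mul_left h3
    rw [← h2]
    exact h1.symm
  rw [h4]
  exact Nat.gcd_dvd_left _ _

end Cfsg.Agent.H930.Prm
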