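import Cfsg.Agent.H918.UProperTwo
import Cfsg.Agent.H873.SubfieldMain

/-!
# Full transvection groups in subgroups of `SU_n(q)`

`TT hF M v`: `v` is isotropic and `M` contains all unitary transvections with centre `v`.
-/

set_option autoImplicit false
set_option linter.unusedSectionVars false

namespace Cfsg.Agent.H930

open Cfsg Cfsg.Geo Cfsg.Agent.H918 Cfsg.Agent.LieClassical.HermBasic
open scoped Matrix MatrixGroups

section TT

variable {F : Type*} [Field F] [Fintype F] {n q : ℕ}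

/-- `v` is isotropic and all transvections with centre `v` are in `M`. -/
def TT (q : ℕ) (M : Subgroup (GL (Fin n) F)) (v : Fin n → F) : Prop :=
  hermForm n F q v v = 0 ∧ ∀ c : F, c + c ^ q = 0 →
    ∃ g ∈ M, ∀ x, (g : Matrix (Fin n) (Fin n) F) *ᵥ x = x + (c * hermForm n F q x v) • v

theorem gl_ext {ι : Type} [Fintype ι] [DecidableEq ι] {A B : GL ι F}
    (h : ∀ x, (A : Matrix ι ι F) *ᵥ x = (B : Matrix ι ι F) *ᵥ x) : A = B := by
  apply Units.ext
  exact Matrix.mulVec_injective (funext h)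

theorem inv_mulVec {ι : Type} [Fintype ι] [DecidableEq ι] (g : GL ι F) (x : ι → F) :
    ((g⁻¹ : GL ι F) : Matrix ι ι F) *ᵥ ((g : Matrix ι ι F) *ᵥ x) = x := by
  rw [Matrix.mulVec_mulVec, ← Units.val_mul, inv_mul_cancel, Units.val_one, Matrix.one_mulVec]

theorem mulVec_inv {ι : Type} [Fintype ι] [DecidableEq ι] (g : GL ι F) (x : ι → F) :
    (g : Matrix ι ι F) *ᵥ (((g⁻¹ : GL ι F) : Matrix ι ι F) *ᵥ x) = x := by
  rw [Matrix.mulVec_mulVec, ← Units.val_mul, mul_inv_cancel, Units.val_one, Matrix.one_mulVec]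

theorem TT.mono {M N : Subgroup (GL (Fin n) F)} (h : M ≤ N) {v : Fin n → F} (hv : TT q M v) : TT q N v :=
  ⟨hv.1, fun c hc => by obtain ⟨g, hg, hx⟩ := hv.2 c hc; exact ⟨g, h hg, hx⟩⟩

theorem TT.tv_mem (hF : Fintype.card F = q ^ 2) {M : Subgroup (GL (Fin n) F)} {v : Fin n → F} (hv : TT q M v)
    {c : F} (hc : c + c ^ q = 0) : H918.tv hF v c hv.1 hc ∈ M := by
  obtain ⟨g, hg, hx⟩ := hv.2 c hc
  have : H918.tv hF v c hv.1 hc = g := gl_ext fun x => by rw [tv_mulVec, hx]
  rw [this]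
  exact hg

theorem tt_of_tv (hF : Fintype.card F = q ^ 2) {M : Subgroup (GL (Fin n) F)} {v : Fin n → F}
    (hv : hermForm n F q v v = 0) (h : ∀ (c : F) (hc : c + c ^ q = 0), H918.tv hF v c hv hc ∈ M) : TT q M v :=
  ⟨hv, fun c hc => ⟨_, h c hc, fun x => tv_mulVec hF hv hc x⟩⟩

theorem TT.conj {M : Subgroup (GL (Fin n) F)} {v : Fin n → F} (hv : TT q M v) {g : GL (Fin n) F} (hg : g ∈ M)
    (hgu : ∀ x y, hermForm n F q ((g : Matrix (Fin n) (Fin n) F) *ᵥ x) ((g : Matrix (Fin n) (Fin n) F) *ᵥ y) =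
      hermForm n F q x y) : TT q M ((g : Matrix (Fin n) (Fin n) F) *ᵥ v) := by
  refine ⟨by rw [hgu, hv.1], fun c hc => ?_⟩
  obtain ⟨t, ht, htx⟩ := hv.2 c hc
  refine ⟨g * t * g⁻¹, M.mul_mem (M.mul_mem hg ht) (M.inv_mem hg), fun x => ?_⟩
  rw [Units.val_mul, Units.val_mul, ← Matrix.mulVec_mulVec, ← Matrix.mulVec_mulVec, htx, Matrix.mulVec_add,
    mulVec_inv, Matrix.mulVec_smul]
  congr 3
  have := hgu (((g⁻¹ : GL (Fin n) F) : Matrix (Fin n) (Fin n) F) *ᵥ x) v
  rw [mulVec_inv] at this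
  exact this.symm

theorem TT.smul (hF : Fintype.card F = q ^ 2) {M : Subgroup (GL (Fin n) F)} {v : Fin n → F} (hv : TT q M v)
    (a : F) : TT q M (a • v) := by
  refine ⟨by rw [herm_smul_left, herm_smul_right, hv.1, mul_zero, mul_zero], fun c hc => ?_⟩
  obtain ⟨t, ht, htx⟩ := hv.2 (c * (a * a ^ q)) (by
    rw [mul_pow, norm_pow_q hF, ← add_mul, hc, zero_mul])
  refine ⟨t, ht, fun x => ?_⟩
  rw [htx, herm_smul_right, smul_smul]
  congr 2
  ring

theorem TT.of_smul (hF : Fintype.card F = q ^ 2) {M : Subgroup (GL (Fin n) F)} {v : Fin n → F} {a : F}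
    (ha : a ≠ 0) (hv : TT q M (a • v)) : TT q M v := by
  have := hv.smul hF a⁻¹
  rwa [smul_smul, inv_mul_cancel₀ ha, one_smul] at this

/-- If `M` contains all transvections then it contains `SU_n(q)`. -/
theorem SUg_le_of_TT (hF : Fintype.card F = q ^ 2) (h32 : ¬ (n = 3 ∧ q = 2)) {M : Subgroup (GL (Fin n) F)}
    (h : ∀ v, hermForm n F q v v = 0 → TT q M v) : SUg n F q ≤ M :=
  SUg_le_of_tv hF h32 fun v _ hv hc => (h v hv).tv_mem hF hc

end TT

/-! ### Rational vectors -/

section Rat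

variable {ι : Type} [Fintype ι] [DecidableEq ι] {F : Type*} [Field F] {F₀ : Subfield F}

open Cfsg.Agent.H873.Sub

/-- The vector `P u` for `u` with entries in `F₀`. -/
def rv (F₀ : Subfield F) (P : GL ι F) (u : ι → F₀) : ι → F := (P : Matrix ι ι F) *ᵥ cv F₀ u

theorem rv_add (P : GL ι F) (u v : ι → F₀) : rv F₀ P (u + v) = rv F₀ P u + rv F₀ P v := by
  rw [rv, cv_add, Matrix.mulVec_add]; rfl

theorem rv_sub (P : GL ι F) (u v : ι → F₀) : rv F₀ P (u - v) = rv F₀ P u - rv F₀ P v := by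
  rw [rv, cv_sub, Matrix.mulVec_sub]; rfl

theorem rv_smul (P : GL ι F) (c : F₀) (u : ι → F₀) : rv F₀ P (c • u) = (c : F) • rv F₀ P u := by
  rw [rv, cv_smul, Matrix.mulVec_smul]; rfl

theorem rv_zero (P : GL ι F) : rv F₀ P 0 = 0 := by
  rw [rv, cv_zero, Matrix.mulVec_zero]

theorem rv_injective (P : GL ι F) : Function.Injective (rv F₀ P) := by
  intro u v h
  have := congrArg (fun z => ((P⁻¹ : GL ι F) : Matrix ι ι F) *ᵥ z) h
  simp only [rv, Matrix.mulVec_mulVec, ← Units.val_mul, inv_mul_cancel, Units.val_one, Matrix.one_mulVec] at this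
  exact cv_injective this

/-- If a matrix maps every rational vector to a multiple of a rational vector then it is rational up to a scalar. -/
theorem exists_scalar_of_lines (hι : 2 ≤ Fintype.card ι) (A : GL ι F)
    (h : ∀ u : ι → F₀, ∃ (l : F) (w : ι → F₀), (A : Matrix ι ι F) *ᵥ cv F₀ u = l • cv F₀ w) :
    ∃ d : F, d ≠ 0 ∧ ∀ i j, d * (A : Matrix ι ι F) i j ∈ F₀ := by
  have hA0 : ∀ x : ι → F, (A : Matrix ι ι F) *ᵥ x = 0 → x = 0 := by
    intro x hx
    have := congrArg (fun z => ((A⁻¹ : GL ι F) : Matrix ι ι F) *ᵥ z) hx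
    simpa only [Matrix.mulVec_mulVec, ← Units.val_mul, inv_mul_cancel, Units.val_one, Matrix.one_mulVec,
      Matrix.mulVec_zero] using this
  choose l w hlw using fun j => h (Pi.single j 1)
  have hcol : ∀ i j, (A : Matrix ι ι F) i j = l j * (w j i : F) := by
    intro i j
    have := congrFun (hlw j) i
    rw [cv_single, Matrix.mulVec_single_one] at this
    exact this
  have hs0 : ∀ j : ι, (Pi.single j 1 : ι → F) ≠ 0 := by
    intro j h0
    have := congrFun h0 j
    simp at this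
  have hl0 : ∀ j, l j ≠ 0 := by
    intro j h0
    have h1 := hlw j
    rw [h0, zero_smul, cv_single] at h1
    exact hs0 j (hA0 _ h1)
  obtain ⟨i₀⟩ : Nonempty ι := Fintype.card_pos_iff.1 (by omega)
  -- the ratios are rational
  have key : ∀ j, ∃ b : F₀, l j = l i₀ * b := by
    intro j
    by_cases hj : j = i₀
    · exact ⟨1, by rw [hj]; simp⟩
    obtain ⟨m, z, hmz⟩ := h (Pi.single i₀ 1 + Pi.single j 1)
    rw [cv_add, Matrix.mulVec_add, hlw, hlw] at hmz
    -- a non-zero minor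
    obtain ⟨k, s, hks⟩ : ∃ k s, w i₀ k * w j s - w i₀ s * w j k ≠ 0 := by
      by_contra hcon
      push Not at hcon
      obtain ⟨k, hk⟩ : ∃ k, w i₀ k ≠ 0 := by
        by_contra hc
        push Not at hc
        have : w i₀ = 0 := funext hc
        have h1 := hlw i₀
        rw [this, cv_zero, smul_zero, cv_single] at h1
        exact hs0 i₀ (hA0 _ h1)
      have hk' : (w i₀ k : F) ≠ 0 := by
        intro h0; exact hk (by exact_mod_cast h0)
      have hprop : (A : Matrix ι ι F) *ᵥ (Pi.single j 1 - (l j * (w j k : F) / (l i₀ * (w i₀ k : F))) • Pi.single i₀ 1 : ι → F) = 0 := by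
        rw [Matrix.mulVec_sub, Matrix.mulVec_smul, ← cv_single (F₀ := F₀), ← cv_single (F₀ := F₀), hlw, hlw]
        ext s
        simp only [Pi.sub_apply, Pi.smul_apply, smul_eq_mul, cv_apply, Pi.zero_apply]
        have h1 := hcon k s
        have h2 : (w i₀ k : F) * (w j s : F) - (w i₀ s : F) * (w j k : F) = 0 := by exact_mod_cast h1
        have := hl0 i₀
        field_simp
        linear_combination (l j) * h2
      have h3 := congrFun (hA0 _ hprop) j
      simp [hj] at h3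
    have hk1 := congrFun hmz k
    have hs1 := congrFun hmz s
    simp only [Pi.add_apply, Pi.smul_apply, smul_eq_mul, cv_apply] at hk1 hs1
    have hδ : ((w i₀ k * w j s - w i₀ s * w j k : F₀) : F) ≠ 0 := by exact_mod_cast hks
    push_cast at hδ
    -- l i₀ δ = m α, l j δ = m β
    have e1 : l i₀ * ((w i₀ k : F) * w j s - w i₀ s * w j k) = m * ((z k : F) * w j s - z s * w j k) := by
      linear_combination (w j s : F) * hk1 - (w j k : F) * hs1
    have e2 : l j * ((w i₀ k : F) * w j s - w i₀ s * w j k) = m * ((z s : F) * w i₀ k - z k * w i₀ s) := by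
      linear_combination (w i₀ k : F) * hs1 - (w i₀ s : F) * hk1
    have hα : ((z k : F) * w j s - z s * w j k) ≠ 0 := by
      intro h0
      rw [h0, mul_zero] at e1
      exact (mul_ne_zero (hl0 i₀) hδ) e1
    refine ⟨(z s * w i₀ k - z k * w i₀ s) / (z k * w j s - z s * w j k), ?_⟩
    push_cast
    have hm : l j * ((z k : F) * w j s - z s * w j k) = l i₀ * ((z s : F) * w i₀ k - z k * w i₀ s) := by
      have h3 : (l j * ((z k : F) * w j s - z s * w j k) - l i₀ * ((z s : F) * w i₀ k - z k * w i₀ s)) *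
          ((w i₀ k : F) * w j s - w i₀ s * w j k) = 0 := by
        linear_combination ((z k : F) * w j s - z s * w j k) * e2 - ((z s : F) * w i₀ k - z k * w i₀ s) * e1
      rcases mul_eq_zero.1 h3 with h4 | h4
      · linear_combination h4
      · exact absurd h4 hδ
    field_simp
    linear_combination hm
  choose b hb using key
  refine ⟨(l i₀)⁻¹, inv_ne_zero (hl0 i₀), fun i j => ?_⟩
  rw [hcol, hb j]
  have : (l i₀)⁻¹ * (l i₀ * (b j : F) * (w j i : F)) = ((b j * w j i : F₀) : F) := by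
    have := hl0 i₀
    push_cast
    field_simp
  rw [this]
  exact SetLike.coe_mem _

theorem mem_subfieldSubgroup_iff {P g : GL ι F} : g ∈ subfieldSubgroup F₀ P ↔
    ∃ d : F, d ≠ 0 ∧ ∀ i j, d * ((P⁻¹ * g * P : GL ι F) : Matrix ι ι F) i j ∈ F₀ := by
  rw [← mem_sup_scalars]
  constructor
  · rintro ⟨x, hx, rfl⟩
    have : P⁻¹ * ((MulAut.conj P).toMonoidHom x) * P = x := by
      simp [MulAut.conj_apply, mul_assoc]
    rw [this]
    exact hx
  · intro h
    refine ⟨_, h, ?_⟩
    simp [MulAut.conj_apply, mul_assoc]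

/-- An element mapping all rational vectors to multiples of rational vectors is in the subfield group. -/
theorem mem_subfieldSubgroup_of_lines (hι : 2 ≤ Fintype.card ι) {P g : GL ι F}
    (h : ∀ u : ι → F₀, ∃ (l : F) (w : ι → F₀), (g : Matrix ι ι F) *ᵥ rv F₀ P u = l • rv F₀ P w) :
    g ∈ subfieldSubgroup F₀ P := by
  rw [mem_subfieldSubgroup_iff]
  apply exists_scalar_of_lines hι
  intro u
  obtain ⟨l, w, hlw⟩ := h u
  refine ⟨l, w, ?_⟩
  rw [rv, rv] at hlw
  rw [Units.val_mul, Units.val_mul, ← Matrix.mulVec_mulVec, ← Matrix.mulVec_mulVec, hlw,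
    Matrix.mulVec_smul, Matrix.mulVec_mulVec, ← Units.val_mul, inv_mul_cancel, Units.val_one, Matrix.one_mulVec]

/-- An element mapping rational vectors to rational vectors is in the subfield group. -/
theorem mem_subfieldSubgroup_of_rat {P g : GL ι F}
    (h : ∀ u : ι → F₀, ∃ (w : ι → F₀), (g : Matrix ι ι F) *ᵥ rv F₀ P u = rv F₀ P w) :
    g ∈ subfieldSubgroup F₀ P := by
  rw [mem_subfieldSubgroup_iff]
  refine ⟨1, one_ne_zero, fun i j => ?_⟩
  obtain ⟨w, hw⟩ := h (Pi.single j 1)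
  have h1 : ((P⁻¹ * g * P : GL ι F) : Matrix ι ι F) *ᵥ Pi.single j 1 = cv F₀ w := by
    rw [rv, rv, cv_single] at hw
    rw [Units.val_mul, Units.val_mul, ← Matrix.mulVec_mulVec, ← Matrix.mulVec_mulVec, hw,
      Matrix.mulVec_mulVec, ← Units.val_mul, inv_mul_cancel, Units.val_one, Matrix.one_mulVec]
  have h2 := congrFun h1 i
  rw [Matrix.mulVec_single_one] at h2
  rw [one_mul]
  change ((P⁻¹ * g * P : GL ι F) : Matrix ι ι F) i j = _ at h2
  rw [h2]
  exact (w i).2

end Rat

end Cfsg.Agent.H930
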