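import Cfsg.Agent.H930.SpOrdC

/-!
# The order of `(Sp₂(q) × Sp₂(q)).2 < Sp₄(q)`
-/

set_option autoImplicit false
set_option linter.unusedSectionVars false

namespace Cfsg.Agent.H930.SpOrd

open Module Matrix Cfsg Cfsg.Geo
open scoped MatrixGroups Matrix
open Cfsg.Agent.ClassicalGeometry.SympBasic

theorem exists_GL_of_injective {ι : Type*} [Fintype ι] [DecidableEq ι] {F : Type*} [Field F]
    (L : (ι → F) →ₗ[F] (ι → F)) (hL : Function.Injective L) :
    ∃ g : GL ι F, ∀ v, (g : Matrix ι ι F) *ᵥ v = L v := by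
  have hM : IsUnit (LinearMap.toMatrix' L) := by
    rw [LinearMap.isUnit_toMatrix'_iff, LinearMap.isUnit_iff_ker_eq_bot, LinearMap.ker_eq_bot]
    exact hL
  obtain ⟨g, hg⟩ := hM
  exact ⟨g, fun v => by rw [hg, LinearMap.toMatrix'_mulVec]⟩

variable {F : Type*} [Field F] [Fintype F]

/-- A hyperbolic pair of a non-degenerate plane. -/
theorem exists_pair {W : Submodule F (I4 → F)} (hW : finrank F W = 2)
    (hnd : IsNondegenerateOn (sympForm 2 F) W) :
    ∃ γ : (Fin 2 → F) →ₗ[F] (I4 → F), Function.Injective γ ∧ LinearMap.range γ = W ∧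
      ∀ x y, sympForm 2 F (γ x) (γ y) = dt x y := by
  obtain ⟨u, hu, hu0⟩ : ∃ u ∈ W, u ≠ 0 := by
    have : W ≠ ⊥ := by
      rintro rfl
      rw [finrank_bot] at hW
      omega
    exact (Submodule.ne_bot_iff W).1 this
  obtain ⟨w', hw', hfw⟩ := (hnd u hu hu0).2
  set w := (sympForm 2 F u w')⁻¹ • w' with hw
  have huw : sympForm 2 F u w = 1 := by
    rw [hw, sympForm_smul_right, inv_mul_cancel₀ hfw]
  have hwu : sympForm 2 F w u = -1 := by
    rw [sympForm_swap, huw]
  have hwW : w ∈ W := W.smul_mem _ hw'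
  let γ : (Fin 2 → F) →ₗ[F] (I4 → F) :=
    { toFun := fun x => x 0 • u + x 1 • w
      map_add' := fun x y => by
        simp only [Pi.add_apply, add_smul]
        abel
      map_smul' := fun c x => by
        simp only [Pi.smul_apply, smul_eq_mul, mul_smul, RingHom.id_apply, smul_add] }
  have hγ : ∀ x, γ x = x 0 • u + x 1 • w := fun _ => rfl
  have hf : ∀ x y, sympForm 2 F (γ x) (γ y) = dt x y := by
    intro x y
    rw [hγ, hγ]
    simp only [sympForm_add_left, sympForm_add_right, sympForm_smul_left, sympForm_smul_right, sympForm_self,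
      huw, hwu]
    unfold dt
    ring
  have hinj : Function.Injective γ := by
    rw [← LinearMap.ker_eq_bot, LinearMap.ker_eq_bot']
    intro x hx
    have h1 := hf x ![0, 1]
    have h2 := hf x ![1, 0]
    rw [hx, sympForm_zero_left] at h1 h2
    unfold dt at h1 h2
    simp at h1 h2
    ext i
    fin_cases i
    · exact h1.symm
    · exact h2
  refine ⟨γ, hinj, ?_, hf⟩
  apply Submodule.eq_of_le_of_finrank_eq
  · rintro _ ⟨x, rfl⟩
    rw [hγ]
    exact W.add_mem (W.smul_mem _ hu) (W.smul_mem _ hwW)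
  · rw [LinearMap.finrank_range_of_inj hinj, hW, finrank_fin_fun]

/-- **The order of `(Sp₂(q) × Sp₂(q)).2`.** -/
theorem card_T2 {D : Fin 2 → Submodule F (I4 → F)}
    (hD : IsNondegenerateMDecomposition (sympForm 2 F) 2 D) :
    Nat.card ↥(decompositionStabilizer D ⊓ spGL 2 F) = 2 * (Nat.card F * (Nat.card F ^ 2 - 1)) ^ 2 := by
  classical
  choose γ hγinj hγr hγf using fun i => exists_pair (hD.decomp.finrank_eq i) (hD.nondegenerate i)
  have hγmem : ∀ i x, γ i x ∈ D i := fun i x => by
    rw [← hγr i]; exact ⟨x, rfl⟩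
  have hγne : ∀ i j, i ≠ j → ∀ x y, sympForm 2 F (γ i x) (γ j y) = 0 := fun i j hij x y =>
    hD.orthogonal i j hij _ (hγmem i x) _ (hγmem j y)
  have hDinj : Function.Injective D := by
    intro i j hij
    by_contra hne
    have h1 := hD.orthogonal i j hne
    rw [← hij] at h1
    have h2 := h1 _ (hγmem i ![1, 0]) _ (hγmem i ![0, 1])
    rw [hγf] at h2
    unfold dt at h2
    simp at h2
  let β₀ : (Fin 2 → Fin 2 → F) →ₗ[F] (I4 → F) :=
    { toFun := fun X => ∑ i, γ i (X i)
      map_add' := fun X Y => by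
        simp only [Pi.add_apply, map_add, Finset.sum_add_distrib]
      map_smul' := fun c X => by
        simp only [Pi.smul_apply, map_smul, Finset.smul_sum, RingHom.id_apply] }
  have hβ₀ : ∀ X, β₀ X = ∑ i, γ i (X i) := fun _ => rfl
  have hβf : ∀ X Y, sympForm 2 F (β₀ X) (β₀ Y) = ∑ i, dt (X i) (Y i) := by
    intro X Y
    rw [hβ₀, hβ₀, Fin.sum_univ_two, Fin.sum_univ_two, Fin.sum_univ_two]
    simp only [sympForm_add_left, sympForm_add_right, hγf, hγne 0 1 (by decide), hγne 1 0 (by decide),
      add_zero, zero_add]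
  have hβs : ∀ i x, β₀ (Pi.single i x) = γ i x := by
    intro i x
    rw [hβ₀, Finset.sum_eq_single i]
    · rw [Pi.single_eq_same]
    · intro j _ hj
      rw [Pi.single_eq_of_ne hj, map_zero]
    · intro h; exact absurd (Finset.mem_univ i) h
  have hinj : Function.Injective β₀ := by
    rw [← LinearMap.ker_eq_bot, LinearMap.ker_eq_bot']
    intro X hX
    funext i
    have h0 : ∀ z, dt (X i) z = 0 := by
      intro z
      have h1 := hβf X (Pi.single i z)
      rw [hX, sympForm_zero_left, Finset.sum_eq_single i] at h1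
      · rw [Pi.single_eq_same] at h1
        exact h1.symm
      · intro j _ hj
        rw [Pi.single_eq_of_ne hj]
        unfold dt
        simp
      · intro h; exact absurd (Finset.mem_univ i) h
    have h1 := h0 ![0, 1]
    have h2 := h0 ![1, 0]
    unfold dt at h1 h2
    simp at h1 h2
    ext j
    fin_cases j
    · exact h1
    · exact h2
  let β : (Fin 2 → Fin 2 → F) ≃ₗ[F] (I4 → F) := LinearEquiv.ofInjectiveOfFinrankEq β₀ hinj (by
    rw [Module.finrank_pi_fintype, Fin.sum_univ_two, Module.finrank_fintype_fun_eq_card,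
      Module.finrank_fintype_fun_eq_card, card_I4, Fintype.card_fin])
  have hβ : ∀ X, β X = β₀ X := fun _ => rfl
  -- the elements
  have hel : ∀ p : Equiv.Perm (Fin 2) × (Fin 2 → Matrix.SpecialLinearGroup (Fin 2) F),
      ∃ g : ↥(decompositionStabilizer D ⊓ spGL 2 F), ∀ i x,
        ((g : GL I4 F) : Matrix I4 I4 F) *ᵥ γ i x = γ (p.1 i) ((p.2 i : Matrix (Fin 2) (Fin 2) F) *ᵥ x) := by
    rintro ⟨σ, A⟩
    let T : (Fin 2 → Fin 2 → F) →ₗ[F] (Fin 2 → Fin 2 → F) :=
      { toFun := fun X j => (A (σ.symm j) : Matrix (Fin 2) (Fin 2) F) *ᵥ X (σ.symm j)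
        map_add' := fun X Y => by
          funext j
          simp only [Pi.add_apply, mulVec_add]
        map_smul' := fun c X => by
          funext j
          simp only [Pi.smul_apply, mulVec_smul, RingHom.id_apply] }
    have hT : ∀ X j, T X j = (A (σ.symm j) : Matrix (Fin 2) (Fin 2) F) *ᵥ X (σ.symm j) := fun _ _ => rfl
    let L : (I4 → F) →ₗ[F] (I4 → F) := β.toLinearMap ∘ₗ T ∘ₗ β.symm.toLinearMap
    have hL : ∀ X, L (β X) = β (T X) := by
      intro X
      show β (T (β.symm (β X))) = _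
      rw [LinearEquiv.symm_apply_apply]
    have hTf : ∀ X Y, (∑ i, dt (T X i) (T Y i)) = ∑ i, dt (X i) (Y i) := by
      intro X Y
      rw [← Equiv.sum_comp σ.symm (fun i => dt (X i) (Y i))]
      refine Finset.sum_congr rfl fun i _ => ?_
      rw [hT, hT, dt_mulVec, (A (σ.symm i)).2, one_mul]
    have hLf : ∀ v w, sympForm 2 F (L v) (L w) = sympForm 2 F v w := by
      intro v w
      obtain ⟨X, rfl⟩ := β.surjective v
      obtain ⟨Y, rfl⟩ := β.surjective w
      rw [hL, hL, hβ, hβ, hβf, hTf, hβ, hβ, hβf]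
    have hLinj : Function.Injective L := by
      rw [← LinearMap.ker_eq_bot, LinearMap.ker_eq_bot']
      intro v hv
      apply eq_zero_of_forall_sympForm_right
      intro w
      rw [← hLf, hv, sympForm_zero_left]
    obtain ⟨g, hg⟩ := exists_GL_of_injective L hLinj
    have hgγ : ∀ i x, (g : Matrix I4 I4 F) *ᵥ γ i x =
        γ (σ i) ((A i : Matrix (Fin 2) (Fin 2) F) *ᵥ x) := by
      intro i x
      rw [hg, ← hβs, ← hβ, hL, hβ, ← hβs]
      congr 1
      funext j
      rw [hT]
      rcases eq_or_ne j (σ i) with rfl | hj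
      · rw [Equiv.symm_apply_apply, Pi.single_eq_same, Pi.single_eq_same]
      · have hj' : σ.symm j ≠ i := fun h => hj (by rw [← h, Equiv.apply_symm_apply])
        rw [Pi.single_eq_of_ne hj, Pi.single_eq_of_ne hj', mulVec_zero]
    refine ⟨⟨g, ⟨σ, fun i => ?_⟩, ?_⟩, hgγ⟩
    · apply Submodule.eq_of_le_of_finrank_eq
      · rintro _ ⟨v, hv, rfl⟩
        have hv' : v ∈ D i := hv
        rw [← hγr i] at hv'
        obtain ⟨x, rfl⟩ := hv'
        rw [toLin'_apply, hgγ]
        exact hγmem _ _
      · have h1 : Function.Injective (Matrix.toLin' (g : Matrix I4 I4 F)) := by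
          intro v w hvw
          rw [toLin'_apply, toLin'_apply, hg, hg] at hvw
          exact hLinj hvw
        rw [← (Submodule.equivMapOfInjective _ h1 (D i)).finrank_eq, hD.decomp.finrank_eq, hD.decomp.finrank_eq]
    · show ∀ x y, sympForm 2 F ((g : Matrix I4 I4 F) *ᵥ x) ((g : Matrix I4 I4 F) *ᵥ y) = sympForm 2 F x y
      intro x y
      rw [hg, hg, hLf]
  choose Φ hΦ using hel
  have hbij : Function.Bijective Φ := by
    constructor
    · rintro ⟨σ, A⟩ ⟨τ, B⟩ h
      have h1 : ∀ i x, γ (σ i) ((A i : Matrix (Fin 2) (Fin 2) F) *ᵥ x) =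
          γ (τ i) ((B i : Matrix (Fin 2) (Fin 2) F) *ᵥ x) := by
        intro i x
        have h2 := hΦ (σ, A) i x
        have h3 := hΦ (τ, B) i x
        rw [h] at h2
        exact h2.symm.trans h3
      have h2 : σ = τ := by
        ext i : 1
        by_contra hne
        have h3 : ∀ x y, sympForm 2 F (γ (σ i) ((A i : Matrix (Fin 2) (Fin 2) F) *ᵥ x))
          (γ (σ i) ((A i : Matrix (Fin 2) (Fin 2) F) *ᵥ y)) = 0 := by
          intro x y
          rw [h1 i y]
          exact hγne _ _ hne _ _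
        have h4 := h3 ![1, 0] ![0, 1]
        rw [hγf, dt_mulVec, (A i).2, one_mul] at h4
        unfold dt at h4
        simp at h4
      subst h2
      have h3 : A = B := by
        funext i
        apply Subtype.ext
        apply Matrix.mulVec_injective
        funext x
        exact hγinj _ (h1 i x)
      rw [h3]
    · rintro ⟨g, ⟨σ, hσ⟩, hgS⟩
      have hgf : ∀ x y, sympForm 2 F ((g : Matrix I4 I4 F) *ᵥ x) ((g : Matrix I4 I4 F) *ᵥ y) = sympForm 2 F x y :=
        hgS
      have h1 : ∀ i, ∃ A : Matrix (Fin 2) (Fin 2) F, ∀ x, (g : Matrix I4 I4 F) *ᵥ γ i x = γ (σ i) (A *ᵥ x) := by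
        intro i
        have h2 : ∀ x, (g : Matrix I4 I4 F) *ᵥ γ i x ∈ LinearMap.range (γ (σ i)) := by
          intro x
          rw [hγr, ← hσ]
          exact ⟨γ i x, hγmem i x, by rw [toLin'_apply]⟩
        let e := LinearEquiv.ofInjective (γ (σ i)) (hγinj (σ i))
        let N : (Fin 2 → F) →ₗ[F] (Fin 2 → F) := e.symm.toLinearMap ∘ₗ
          LinearMap.codRestrict (LinearMap.range (γ (σ i))) (Matrix.toLin' (g : Matrix I4 I4 F) ∘ₗ γ i) (fun x => by
            rw [LinearMap.comp_apply, toLin'_apply]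
            exact h2 x)
        refine ⟨LinearMap.toMatrix' N, fun x => ?_⟩
        rw [LinearMap.toMatrix'_mulVec]
        have h3 : ((e (N x) : LinearMap.range (γ (σ i))) : I4 → F) = (g : Matrix I4 I4 F) *ᵥ γ i x := by
          show ((e (e.symm _) : LinearMap.range (γ (σ i))) : I4 → F) = _
          rw [LinearEquiv.apply_symm_apply]
          show Matrix.toLin' (g : Matrix I4 I4 F) (γ i x) = _
          rw [toLin'_apply]
        rw [← h3]
        rfl
      choose A hA using h1
      have hdet : ∀ i, (A i).det = 1 := by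
        intro i
        have h2 := hgf (γ i ![1, 0]) (γ i ![0, 1])
        rw [hA, hA, hγf, hγf, dt_mulVec] at h2
        unfold dt at h2
        simpa using h2
      refine ⟨(σ, fun i => ⟨A i, hdet i⟩), ?_⟩
      apply Subtype.ext
      apply Units.ext
      apply Matrix.mulVec_injective
      funext v
      obtain ⟨X, rfl⟩ := β.surjective v
      rw [hβ, hβ₀, mulVec_sum, mulVec_sum]
      refine Finset.sum_congr rfl fun i _ => ?_
      rw [hΦ, hA]
  rw [← Nat.card_congr (Equiv.ofBijective Φ hbij), Nat.card_prod, Nat.card_eq_fintype_card, Fintype.card_perm,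
    Fintype.card_fin, Nat.card_fun, Nat.card_eq_fintype_card (α := Fin 2), Fintype.card_fin,
    card_SL2 (q := Fintype.card F) rfl, Nat.card_eq_fintype_card (α := F)]
  rfl

end Cfsg.Agent.H930.SpOrd
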