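import Cfsg.Agent.H909.Sp4List
import Cfsg.Agent.H930.SpOrdD

/-!
# Orders of three geometric subgroups of `Sp₄(q)`, `q` odd (task 601)
-/

set_option autoImplicit false

namespace Cfsg.Agent.H930.Sp4Ord

open Cfsg Cfsg.Geo Matrix
open Cfsg.Agent.H909.Sp4List

universe u

variable {F : Type u} [Field F] [Fintype F]

theorem card_T2 (_h2 : (2 : F) ≠ 0) {D : Fin 2 → Submodule F (I4 → F)}
    (hD : IsNondegenerateMDecomposition (sympForm 2 F) 2 D) :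
    Nat.card ↥(decompositionStabilizer D ⊓ spGL 2 F) = 2 * (Nat.card F * (Nat.card F ^ 2 - 1)) ^ 2 :=
  Cfsg.Agent.H930.SpOrd.card_T2 hD

theorem card_T4 (_h2 : (2 : F) ≠ 0) {K : Subalgebra F (Matrix I4 I4 F)} (hK : IsFieldSubalgebra 2 K)
    (hsa : IsSelfAdjointFor (sympForm 2 F) K)
    (hkv : ∀ k ∈ K, ∀ v : I4 → F, (sympForm 2 F) (Matrix.mulVec k v) v = 0) :
    Nat.card ↥(subalgebraNormalizer K ⊓ spGL 2 F) = 2 * (Nat.card F ^ 2 * (Nat.card F ^ 4 - 1)) :=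
  Cfsg.Agent.H930.SpOrd.card_T4 hK hsa hkv

theorem card_T5 (h2 : (2 : F) ≠ 0) {K : Subalgebra F (Matrix I4 I4 F)} (hK : IsFieldSubalgebra 2 K)
    (hac : IsAdjointClosedFor (sympForm 2 F) K) (hns : ¬ IsSelfAdjointFor (sympForm 2 F) K) :
    Nat.card ↥(subalgebraNormalizer K ⊓ spGL 2 F) =
      2 * (Nat.card F * (Nat.card F + 1) * (Nat.card F ^ 2 - 1)) :=
  Cfsg.Agent.H930.SpOrd.card_T5 h2 hK hac hns

end Cfsg.Agent.H930.Sp4Ord
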