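import Cfsg.Agent.LieClassical.HermBasic

/-!
# Hermitian trace forms of field extensions of odd prime degree

`K/F` an extension of finite fields, `|F| = q²`, `|K| = Q²`, `k ↦ k^Q` extends `c ↦ c^q`, `ℓ : K → F` linear, nonzero,
`ℓ(k^Q) = ℓ(k)^q`.
-/

set_option autoImplicit false
set_option linter.unusedSectionVars false

namespace Cfsg.Agent.H930.ExtU

open Module Cfsg.Agent.LieClassical.HermBasic

variable {F K : Type*} [Field F] [Fintype F] [Field K] [Fintype K] [Algebra F K] {q Q : ℕ} {ℓ : K →ₗ[F] F}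

/-- The data. -/
structure Data (q Q : ℕ) (ℓ : K →ₗ[F] F) : Prop where
  hF : Fintype.card F = q ^ 2
  hK : Fintype.card K = Q ^ 2
  alg : ∀ c : F, algebraMap F K c ^ Q = algebraMap F K (c ^ q)
  lne : ℓ ≠ 0
  lpow : ∀ k, ℓ (k ^ Q) = ℓ k ^ q

variable (D : Data q Q ℓ)
include D

theorem Data.ext {a b : K} (h : ∀ k, ℓ (k * a) = ℓ (k * b)) : a = b := by
  by_contra hab
  apply D.lne
  ext k
  have hab' : a - b ≠ 0 := sub_ne_zero.2 hab
  have h1 := h (k * (a - b)⁻¹)
  rw [← sub_eq_zero, ← map_sub, ← mul_sub, mul_assoc, inv_mul_cancel₀ hab', mul_one] at h1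
  rw [h1, LinearMap.zero_apply]

theorem Data.eq_zero {a : K} (h : ∀ k, ℓ (k * a) = 0) : a = 0 :=
  D.ext fun k => by rw [h, mul_zero, map_zero]

theorem Data.exists_ne {a : K} (h : a ≠ 0) : ∃ k, ℓ (k * a) ≠ 0 := by
  by_contra hc
  push Not at hc
  exact h (D.eq_zero hc)

theorem Data.smul_pow (c : F) (k : K) : (c • k) ^ Q = c ^ q • k ^ Q := by
  rw [Algebra.smul_def, mul_pow, D.alg, Algebra.smul_def]

theorem Data.exists_omega : ∃ ω : F, ω ^ q ≠ ω := exists_not_fixed D.hF

/-- Decomposition into symmetric elements. -/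
theorem Data.exists_decomp {ω : F} (hω : ω ^ q ≠ ω) (k : K) : ∃ a b : K, a ^ Q = a ∧ b ^ Q = b ∧ k = a + ω • b := by
  have hd : ω - ω ^ q ≠ 0 := sub_ne_zero.2 (Ne.symm hω)
  have hd' : ω ^ q - ω ≠ 0 := sub_ne_zero.2 hω
  have hb : ((ω - ω ^ q)⁻¹ • (k - k ^ Q)) ^ Q = (ω - ω ^ q)⁻¹ • (k - k ^ Q) := by
    rw [D.smul_pow, sub_pow_q D.hK, pow_q_pow_q D.hK, inv_pow, sub_pow_q D.hF, pow_q_pow_q D.hF,
      ← neg_sub (ω : F), inv_neg, neg_smul, ← smul_neg, neg_sub]
  refine ⟨k - ω • ((ω - ω ^ q)⁻¹ • (k - k ^ Q)), (ω - ω ^ q)⁻¹ • (k - k ^ Q), ?_, hb, by abel⟩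
  rw [sub_pow_q D.hK, D.smul_pow, hb]
  have h1 : (ω - ω ^ q) • ((ω - ω ^ q)⁻¹ • (k - k ^ Q)) = k - k ^ Q := by
    rw [smul_smul, mul_inv_cancel₀ hd, one_smul]
  rw [sub_smul] at h1
  have h2 : k ^ Q - ω ^ q • ((ω - ω ^ q)⁻¹ • (k - k ^ Q)) - (k - ω • ((ω - ω ^ q)⁻¹ • (k - k ^ Q))) = 0 := by
    have : k ^ Q - ω ^ q • ((ω - ω ^ q)⁻¹ • (k - k ^ Q)) - (k - ω • ((ω - ω ^ q)⁻¹ • (k - k ^ Q))) =
        (ω • ((ω - ω ^ q)⁻¹ • (k - k ^ Q)) - ω ^ q • ((ω - ω ^ q)⁻¹ • (k - k ^ Q))) - (k - k ^ Q) := by abel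
    rw [this, h1, sub_self]
  exact sub_eq_zero.1 h2

theorem Data.finDim : FiniteDimensional F K := Module.Finite.of_finite

/-- Every functional is represented. -/
theorem Data.exists_rep (f : K →ₗ[F] F) : ∃ κ, ∀ k, f k = ℓ (κ * k) := by
  have := D.finDim
  let T : K →ₗ[F] (K →ₗ[F] F) :=
    { toFun := fun κ =>
        { toFun := fun k => ℓ (κ * k)
          map_add' := fun x y => by rw [mul_add, map_add]
          map_smul' := fun c x => by rw [mul_smul_comm, map_smul, RingHom.id_apply] }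
      map_add' := fun x y => by
        ext k
        change ℓ ((x + y) * k) = ℓ (x * k) + ℓ (y * k)
        rw [add_mul, map_add]
      map_smul' := fun c x => by
        ext k
        change ℓ ((c • x) * k) = c • ℓ (x * k)
        rw [smul_mul_assoc, map_smul] }
  have hinj : Function.Injective T := by
    intro a b h
    apply D.ext
    intro k
    have := LinearMap.congr_fun h k
    change ℓ (a * k) = ℓ (b * k) at this
    rw [mul_comm k a, mul_comm k b, this]
  have hsurj : Function.Surjective T := by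
    rw [← LinearMap.injective_iff_surjective_of_finrank_eq_finrank]
    · exact hinj
    · exact (Subspace.dual_finrank_eq (K := F) (V := K)).symm
  obtain ⟨κ, hκ⟩ := hsurj f
  exact ⟨κ, fun k => by rw [← hκ]; rfl⟩

omit [Fintype F] [Fintype K] D in
/-- The orthogonal space with respect to `(x, y) ↦ ℓ (x y)`. -/
def perp (ℓ : K →ₗ[F] F) (B : Submodule F K) : Submodule F K where
  carrier := {κ | ∀ b ∈ B, ℓ (κ * b) = 0}
  zero_mem' := fun b _ => by rw [zero_mul, map_zero]
  add_mem' := fun {x y} hx hy b hb => by rw [add_mul, map_add, hx b hb, hy b hb, add_zero]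
  smul_mem' := fun c x hx b hb => by rw [smul_mul_assoc, map_smul, hx b hb, smul_zero]

omit [Fintype F] [Fintype K] D in
theorem mem_perp {B : Submodule F K} {κ : K} : κ ∈ perp ℓ B ↔ ∀ b ∈ B, ℓ (κ * b) = 0 := Iff.rfl

theorem Data.finrank_perp (B : Submodule F K) : finrank F (perp ℓ B) + finrank F B = finrank F K := by
  have := D.finDim
  let T : K →ₗ[F] (B →ₗ[F] F) :=
    { toFun := fun κ =>
        { toFun := fun k => ℓ (κ * k)
          map_add' := fun x y => by rw [Submodule.coe_add, mul_add, map_add]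
          map_smul' := fun c x => by rw [Submodule.coe_smul, mul_smul_comm, map_smul, RingHom.id_apply] }
      map_add' := fun x y => by
        ext k
        change ℓ ((x + y) * k) = ℓ (x * k) + ℓ (y * k)
        rw [add_mul, map_add]
      map_smul' := fun c x => by
        ext k
        change ℓ ((c • x) * k) = c • ℓ (x * k)
        rw [smul_mul_assoc, map_smul] }
  have hker : LinearMap.ker T = perp ℓ B := by
    ext κ
    rw [LinearMap.mem_ker, mem_perp]
    constructor
    · intro h b hb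
      exact LinearMap.congr_fun h ⟨b, hb⟩
    · intro h
      ext b
      exact h b b.2
  have hsurj : LinearMap.range T = ⊤ := by
    rw [LinearMap.range_eq_top]
    intro f
    obtain ⟨g, hg⟩ := LinearMap.exists_extend f
    obtain ⟨κ, hκ⟩ := D.exists_rep g
    refine ⟨κ, ?_⟩
    ext b
    change ℓ (κ * b) = f b
    rw [← hκ, ← hg]
    rfl
  have h1 := LinearMap.finrank_range_add_finrank_ker T
  rw [hsurj, hker, finrank_top] at h1
  have h2 : finrank F (B →ₗ[F] F) = finrank F B := Subspace.dual_finrank_eq (K := F) (V := B)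
  omega

/-- The conjugate subspace. -/
def Data.cj (B : Submodule F K) : Submodule F K where
  carrier := {k | k ^ Q ∈ B}
  zero_mem' := by
    change (0 : K) ^ Q ∈ B
    rw [zero_pow_q D.hK]
    exact B.zero_mem
  add_mem' := fun {x y} hx hy => by
    change (x + y) ^ Q ∈ B
    rw [add_pow_q D.hK]
    exact B.add_mem hx hy
  smul_mem' := fun c x hx => by
    change (c • x) ^ Q ∈ B
    rw [D.smul_pow]
    exact B.smul_mem _ hx

theorem Data.mem_cj {B : Submodule F K} {k : K} : k ∈ D.cj B ↔ k ^ Q ∈ B := Iff.rfl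

theorem Data.finrank_cj (B : Submodule F K) : finrank F (D.cj B) = finrank F B := by
  have := D.finDim
  have h1 : Nat.card (D.cj B) = Nat.card B := by
    apply Nat.card_congr
    exact
      { toFun := fun k => ⟨k.1 ^ Q, k.2⟩
        invFun := fun k => ⟨k.1 ^ Q, by rw [D.mem_cj, pow_q_pow_q D.hK]; exact k.2⟩
        left_inv := fun k => Subtype.ext (pow_q_pow_q D.hK _)
        right_inv := fun k => Subtype.ext (pow_q_pow_q D.hK _) }
  rw [Module.natCard_eq_pow_finrank (K := F), Module.natCard_eq_pow_finrank (K := F) (V := B)] at h1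
  exact Nat.pow_right_injective Finite.one_lt_card h1

omit [Fintype F] [Fintype K] D in
/-- The stabiliser of a subspace. -/
def stab (X : Submodule F K) : Subalgebra F K where
  carrier := {k | ∀ x ∈ X, k * x ∈ X}
  mul_mem' := fun {a b} ha hb x hx => by rw [mul_assoc]; exact ha _ (hb _ hx)
  add_mem' := fun {a b} ha hb x hx => by rw [add_mul]; exact X.add_mem (ha _ hx) (hb _ hx)
  algebraMap_mem' := fun c x hx => by rw [← Algebra.smul_def]; exact X.smul_mem _ hx

/-- In prime degree the stabiliser of a proper subspace is `F`. -/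
theorem Data.stab_eq (hr : (finrank F K).Prime) {X : Submodule F K} (h0 : X ≠ ⊥) (h1 : X ≠ ⊤) {k : K}
    (hk : ∀ x ∈ X, k * x ∈ X) : ∃ c : F, k = algebraMap F K c := by
  have hs : IsSimpleOrder (Subalgebra F K) := Subalgebra.isSimpleOrder_of_finrank_prime F K hr
  have hk' : k ∈ stab X := hk
  rcases hs.eq_bot_or_eq_top (stab X) with h | h
  · rw [h, Algebra.mem_bot] at hk'
    obtain ⟨c, hc⟩ := hk'
    exact ⟨c, hc.symm⟩
  · exfalso
    obtain ⟨x, hx, hx0⟩ := X.ne_bot_iff.1 h0
    apply h1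
    rw [Submodule.eq_top_iff']
    intro y
    have h2 : y * x⁻¹ ∈ stab X := by rw [h]; trivial
    have h3 := h2 x hx
    rwa [mul_assoc, inv_mul_cancel₀ hx0, mul_one] at h3

end Cfsg.Agent.H930.ExtU
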