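import Cfsg.Agent.H930.ExtUA

/-!
# Pencils of skew-hermitian matrices over finite fields contain singular ones (Chevalley-Warning)
-/

set_option autoImplicit false
set_option linter.unusedSectionVars false

namespace Cfsg.Agent.H930.ExtU

open Module Cfsg.Agent.LieClassical.HermBasic

section CW

open MvPolynomial

variable {F : Type*} [Field F] [Fintype F] {q : ℕ}

theorem exists_zero_det (hF : Fintype.card F = q ^ 2) {s : ℕ} (hs : 0 < s)
    (G : Fin (s + 1) → Matrix (Fin s) (Fin s) F) (hG : ∀ i j k, (G i j k) ^ q = -(G i k j)) :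
    ∃ x : Fin (s + 1) → F, x ≠ 0 ∧ (∀ i, x i ^ q = x i) ∧ (∑ i, x i • G i).det = 0 := by
  classical
  -- the polynomial
  set A : Matrix (Fin s) (Fin s) (MvPolynomial (Fin (s + 1)) F) :=
    Matrix.of fun j k => ∑ i, C (G i j k) * X i with hA
  have hAdeg : ∀ j k, (A j k).totalDegree ≤ 1 := by
    intro j k
    rw [hA, Matrix.of_apply]
    refine (totalDegree_finsetSum _ _).trans (Finset.sup_le fun i _ => ?_)
    refine (totalDegree_mul _ _).trans ?_
    rw [totalDegree_C, totalDegree_X]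
  have hdeg : A.det.totalDegree ≤ s := by
    rw [Matrix.det_apply]
    refine (totalDegree_finsetSum _ _).trans (Finset.sup_le fun σ _ => ?_)
    have h1 : (Equiv.Perm.sign σ • ∏ i, A (σ i) i).totalDegree ≤ (∏ i, A (σ i) i).totalDegree := by
      rcases Int.units_eq_one_or (Equiv.Perm.sign σ) with h | h <;> rw [h]
      · rw [one_smul]
      · rw [Units.neg_smul, one_smul, totalDegree_neg]
    refine h1.trans ((totalDegree_finsetProd _ _).trans ?_)
    refine (Finset.sum_le_sum fun i _ => hAdeg (σ i) i).trans ?_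
    simp
  have hAev : ∀ x : Fin (s + 1) → F, eval x A.det = (∑ i, x i • G i).det := by
    intro x
    rw [RingHom.map_det]
    congr 1
    ext j k
    rw [RingHom.mapMatrix_apply, Matrix.map_apply, hA, Matrix.of_apply, map_sum, Matrix.sum_apply]
    refine Finset.sum_congr rfl fun i _ => ?_
    rw [map_mul, eval_C, eval_X, Matrix.smul_apply, smul_eq_mul, mul_comm]
  -- conjugation
  set σ : F →+* F := ((conj hF : F ≃+* F) : F →+* F) with hσ
  have hσx : ∀ x, σ x = x ^ q := fun x => rfl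
  have hmap : MvPolynomial.map σ A.det = (-1) ^ s * A.det := by
    rw [RingHom.map_det]
    have : (MvPolynomial.map σ).mapMatrix A = -A.transpose := by
      ext1 j k
      rw [RingHom.mapMatrix_apply, Matrix.map_apply, Matrix.neg_apply, Matrix.transpose_apply, hA,
        Matrix.of_apply, Matrix.of_apply, map_sum, ← Finset.sum_neg_distrib]
      refine Finset.sum_congr rfl fun i _ => ?_
      rw [map_mul, map_C, map_X, hσx, hG, C_neg, neg_mul]
    rw [this, Matrix.det_neg, Fintype.card_fin, Matrix.det_transpose]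
  obtain ⟨ε, hε0, hε⟩ : ∃ ε : F, ε ≠ 0 ∧ ε ^ q = (-1) ^ s * ε := by
    rcases Nat.even_or_odd s with h | h
    · exact ⟨1, one_ne_zero, by rw [h.neg_one_pow, one_pow, one_mul]⟩
    · obtain ⟨e, he0, he⟩ := exists_trace_zero_ne hF
      refine ⟨e, he0, ?_⟩
      rw [h.neg_one_pow]
      linear_combination he
  have hmap' : MvPolynomial.map σ (C ε * A.det) = C ε * A.det := by
    rw [map_mul, map_C, hmap, hσx, hε, map_mul, map_pow, C_neg, C_1]
    have : ((-1 : MvPolynomial (Fin (s + 1)) F) ^ s) * (-1) ^ s = 1 := by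
      rw [← mul_pow, neg_one_mul, neg_neg, one_pow]
    linear_combination (C ε * A.det) * this
  -- descend to the fixed field
  set F₀ : Subfield F := σ.eqLocusField (RingHom.id F) with hF₀
  have hmemF₀ : ∀ x, x ∈ F₀ ↔ x ^ q = x := fun x => Iff.rfl
  obtain ⟨P₀, hP₀⟩ : C ε * A.det ∈ Set.range (MvPolynomial.map F₀.subtype) := by
    rw [mem_range_map_iff_coeffs_subset]
    intro c hc
    rw [Finset.mem_coe, mem_coeffs_iff] at hc
    obtain ⟨mm, -, rfl⟩ := hc
    have h1 : (coeff mm (C ε * A.det)) ∈ F₀ := by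
      rw [hmemF₀, ← hσx, ← coeff_map, hmap']
    exact ⟨⟨_, h1⟩, rfl⟩
  have hP₀deg : P₀.totalDegree < Fintype.card (Fin (s + 1)) := by
    rw [Fintype.card_fin]
    have h1 : P₀.totalDegree = (C ε * A.det).totalDegree := by
      rw [← hP₀, totalDegree, totalDegree, support_map_of_injective _ F₀.subtype_injective]
    have h2 : (C ε * A.det).totalDegree ≤ s := by
      refine (totalDegree_mul _ _).trans ?_
      rw [totalDegree_C, zero_add]
      exact hdeg
    omega
  obtain ⟨p, hp⟩ := CharP.exists F₀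
  have hpp : p.Prime := CharP.char_is_prime F₀ p
  have : Fact p.Prime := ⟨hpp⟩
  have hdvd := char_dvd_card_solutions p hP₀deg
  have hP₀ev : ∀ x : Fin (s + 1) → F₀, ((eval x P₀ : F₀) : F) = ε * (∑ i, (x i : F) • G i).det := by
    intro x
    rw [← hAev, ← eval_C ε (f := fun i => (x i : F)), ← map_mul, ← hP₀, eval_map]
    exact eval₂_comp_left F₀.subtype (RingHom.id F₀) x P₀
  have h0 : eval (0 : Fin (s + 1) → F₀) P₀ = 0 := by
    apply Subtype.ext
    rw [hP₀ev]
    have : Nonempty (Fin s) := ⟨⟨0, hs⟩⟩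
    simp [Matrix.det_zero]
  have hcard : 1 < Fintype.card {x : Fin (s + 1) → F₀ // eval x P₀ = 0} := by
    have h1 : 0 < Fintype.card {x : Fin (s + 1) → F₀ // eval x P₀ = 0} := Fintype.card_pos_iff.2 ⟨⟨0, h0⟩⟩
    exact lt_of_lt_of_le hpp.one_lt (Nat.le_of_dvd h1 hdvd)
  obtain ⟨⟨x, hx⟩, hx0⟩ := Fintype.exists_ne_of_one_lt_card hcard ⟨0, h0⟩
  refine ⟨fun i => (x i : F), fun h => hx0 ?_, fun i => (hmemF₀ _).1 (x i).2, ?_⟩
  · apply Subtype.ext
    funext i
    apply Subtype.ext
    exact congrFun h i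
  · have h1 := hP₀ev x
    rw [hx] at h1
    exact (mul_eq_zero.1 h1.symm).resolve_left hε0

end CW

variable {F K : Type*} [Field F] [Fintype F] [Field K] [Fintype K] [Algebra F K] {q Q : ℕ} {ℓ : K →ₗ[F] F}
variable (D : Data q Q ℓ)
include D

/-- The span of the products `b b'^Q`. -/
theorem Data.finrank_prod (hr : (finrank F K).Prime) {B : Submodule F K} (h2 : 2 ≤ finrank F B) (hB : B ≠ ⊤) :
    finrank F B + 1 ≤ finrank F (Submodule.span F {x : K | ∃ b ∈ B, ∃ b' ∈ B, x = b * b' ^ Q}) := by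
  have := D.finDim
  by_contra hcon
  set X := Submodule.span F {x : K | ∃ b ∈ B, ∃ b' ∈ B, x = b * b' ^ Q} with hX
  have hle : finrank F X ≤ finrank F B := by omega
  have hBlt : finrank F B < finrank F K := Submodule.finrank_lt hB
  -- for each nonzero `b` all of `X` is `b` times the conjugate of `B`
  have key : ∀ b ∈ B, b ≠ 0 → ∀ x ∈ X, (b⁻¹ * x) ^ Q ∈ B := by
    intro b hb hb0
    let T : K →ₗ[F] K := LinearMap.mulLeft F b
    have hT : Function.Injective T := by
      intro x y h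
      exact mul_left_cancel₀ hb0 h
    have h1 : (D.cj B).map T ≤ X := by
      rintro _ ⟨y, hy, rfl⟩
      apply Submodule.subset_span
      exact ⟨b, hb, y ^ Q, hy, by rw [pow_q_pow_q D.hK]; rfl⟩
    have h3 : finrank F ((D.cj B).map T) = finrank F B := by
      rw [← (Submodule.equivMapOfInjective T hT (D.cj B)).finrank_eq, D.finrank_cj]
    have h4 := Submodule.eq_of_le_of_finrank_le h1 (by omega)
    intro x hx
    rw [← h4] at hx
    obtain ⟨y, hy, rfl⟩ := hx
    have : b⁻¹ * T y = y := by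
      change b⁻¹ * (b * y) = y
      rw [← mul_assoc, inv_mul_cancel₀ hb0, one_mul]
    rw [this]
    exact hy
  have key' : ∀ b ∈ B, ∀ y : K, y ^ Q ∈ B → b * y ∈ X := by
    intro b hb y hy
    apply Submodule.subset_span
    exact ⟨b, hb, y ^ Q, hy, by rw [pow_q_pow_q D.hK]⟩
  -- two independent elements
  obtain ⟨b₀, hb₀, hb₀0⟩ : ∃ b₀ ∈ B, b₀ ≠ 0 := by
    apply B.ne_bot_iff.1
    rintro rfl
    rw [finrank_bot] at h2
    omega
  obtain ⟨b₁, hb₁, hb₁s⟩ : ∃ b₁ ∈ B, b₁ ∉ Submodule.span F {b₀} := by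
    by_contra hc
    push Not at hc
    have h3 := Submodule.finrank_mono (show B ≤ Submodule.span F {b₀} from hc)
    have h4 := finrank_span_le_card (R := F) ({b₀} : Set K)
    simp only [Set.toFinset_singleton, Finset.card_singleton] at h4
    omega
  have hX0 : X ≠ ⊥ := by
    intro h
    have h3 : b₀ * b₀ ^ Q ∈ X := Submodule.subset_span ⟨b₀, hb₀, b₀, hb₀, rfl⟩
    rw [h, Submodule.mem_bot] at h3
    exact mul_ne_zero hb₀0 (pow_ne_zero _ hb₀0) h3
  have hX1 : X ≠ ⊤ := by
    intro h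
    rw [h, finrank_top] at hle
    omega
  obtain ⟨c, hc⟩ := D.stab_eq hr hX0 hX1 (k := b₁ * b₀⁻¹) (by
    intro x hx
    rw [mul_assoc]
    exact key' b₁ hb₁ _ (key b₀ hb₀ hb₀0 x hx))
  apply hb₁s
  rw [Submodule.mem_span_singleton]
  refine ⟨c, ?_⟩
  rw [Algebra.smul_def, ← hc, mul_assoc, inv_mul_cancel₀ hb₀0, mul_one]

/-- Symmetric or skew elements span. -/
theorem Data.span_skew : Submodule.span F {κ : K | κ + κ ^ Q = 0} = ⊤ := by
  obtain ⟨ω, hω⟩ := D.exists_omega
  obtain ⟨ε, hε0, hε⟩ := exists_trace_zero_ne D.hF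
  rw [Submodule.eq_top_iff']
  intro k
  obtain ⟨a, b, ha, hb, rfl⟩ := D.exists_decomp hω k
  have key : ∀ x : K, x ^ Q = x → x ∈ Submodule.span F {κ : K | κ + κ ^ Q = 0} := by
    intro x hx
    have h1 : ε • x ∈ Submodule.span F {κ : K | κ + κ ^ Q = 0} := by
      apply Submodule.subset_span
      change ε • x + (ε • x) ^ Q = 0
      rw [D.smul_pow, hx, ← add_smul, hε, zero_smul]
    have h2 := Submodule.smul_mem _ ε⁻¹ h1
    rwa [smul_smul, inv_mul_cancel₀ hε0, one_smul] at h2
  exact Submodule.add_mem _ (key a ha) (Submodule.smul_mem _ _ (key b hb))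

/-- **The key lemma**: a skew multiplier with degenerate but nonzero form on `B`. -/
theorem Data.exists_kappa (hr : (finrank F K).Prime) {B : Submodule F K} (h2 : 2 ≤ finrank F B) (hB : B ≠ ⊤) :
    ∃ κ : K, κ + κ ^ Q = 0 ∧ (∃ b ∈ B, b ≠ 0 ∧ ∀ b' ∈ B, ℓ (κ * (b * b' ^ Q)) = 0) ∧
      ∃ b ∈ B, ∃ b' ∈ B, ℓ (κ * (b * b' ^ Q)) ≠ 0 := by
  have := D.finDim
  set X := Submodule.span F {x : K | ∃ b ∈ B, ∃ b' ∈ B, x = b * b' ^ Q} with hX
  have hXd : finrank F B + 1 ≤ finrank F X := D.finrank_prod hr h2 hB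
  -- independent skew elements modulo `perp ℓ X`
  obtain ⟨κ, hκs, hκi⟩ : ∃ κ : Fin (finrank F B + 1) → K, (∀ i, κ i + κ i ^ Q = 0) ∧
      LinearIndependent F (fun i => (perp ℓ X).mkQ (κ i)) := by
    obtain ⟨Y, hYs, hYt, hYi⟩ := exists_linearIndependent F ((perp ℓ X).mkQ '' {κ : K | κ + κ ^ Q = 0})
    have hspan : Submodule.span F ((perp ℓ X).mkQ '' {κ : K | κ + κ ^ Q = 0}) = ⊤ := by
      rw [← Submodule.map_span, D.span_skew, Submodule.map_top, Submodule.range_mkQ]
    rw [hspan] at hYt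
    let bY : Basis Y F (K ⧸ perp ℓ X) := Basis.mk hYi (by rw [Subtype.range_coe]; exact hYt.ge)
    have hfin : Finite (K ⧸ perp ℓ X) := inferInstance
    have : Fintype Y := Fintype.ofFinite Y
    have hcard : finrank F B + 1 ≤ Fintype.card Y := by
      rw [← finrank_eq_card_basis bY]
      have h3 := Submodule.finrank_quotient_add_finrank (perp ℓ X)
      have h4 := D.finrank_perp X
      omega
    obtain ⟨e⟩ : Nonempty (Fin (finrank F B + 1) ↪ Y) := by
      rw [Function.Embedding.nonempty_iff_card_le, Fintype.card_fin]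
      exact hcard
    choose f hf hfe using fun y : Y => hYs y.2
    refine ⟨fun i => f (e i), fun i => hf (e i), ?_⟩
    have h5 : (fun i => (perp ℓ X).mkQ (f (e i))) = (Subtype.val : Y → K ⧸ perp ℓ X) ∘ e := by
      funext i
      exact hfe (e i)
    rw [h5]
    exact hYi.comp e e.injective
  -- Gram matrices
  set b := Module.finBasis F B with hb
  obtain ⟨x, hx0, hxq, hxd⟩ := exists_zero_det D.hF (s := finrank F B) (by omega)
    (fun i => Matrix.of fun j k => ℓ (κ i * ((b j : K) * (b k : K) ^ Q))) (by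
      intro i j k
      rw [Matrix.of_apply, Matrix.of_apply, ← D.lpow, ← map_neg]
      congr 1
      have h3 : κ i ^ Q = -κ i := by linear_combination hκs i
      rw [mul_pow, mul_pow, pow_q_pow_q D.hK, h3]
      ring)
  have hG : ∀ j k, (∑ i, x i • (Matrix.of fun j k => ℓ (κ i * ((b j : K) * (b k : K) ^ Q)) :
      Matrix (Fin (finrank F B)) (Fin (finrank F B)) F)) j k = ℓ ((∑ i, x i • κ i) * ((b j : K) * (b k : K) ^ Q)) := by
    intro j k
    rw [Matrix.sum_apply, Finset.sum_mul, map_sum]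
    refine Finset.sum_congr rfl fun i _ => ?_
    rw [Matrix.smul_apply, Matrix.of_apply, smul_mul_assoc, map_smul]
  obtain ⟨κ₀, hκ₀⟩ : ∃ κ₀, κ₀ = ∑ i, x i • κ i := ⟨_, rfl⟩
  rw [← hκ₀] at hG
  refine ⟨κ₀, ?_, ?_, ?_⟩
  · rw [hκ₀, sum_pow_q D.hK, ← Finset.sum_add_distrib]
    apply Finset.sum_eq_zero
    intro i _
    rw [D.smul_pow, hxq, ← smul_add, hκs, smul_zero]
  · obtain ⟨c, hc0, hc⟩ := Matrix.exists_vecMul_eq_zero_iff.2 hxd
    refine ⟨((∑ j, c j • b j : B) : K), (∑ j, c j • b j : B).2, ?_, ?_⟩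
    · intro h0
      have h3 : (∑ j, c j • b j : B) = 0 := Subtype.ext h0
      exact hc0 (funext ((Fintype.linearIndependent_iff.1 b.linearIndependent) c h3))
    · intro b' hb'
      have h3 : ∀ k, ℓ (κ₀ * (((∑ j, c j • b j : B) : K) * (b k : K) ^ Q)) = 0 := by
        intro k
        have h4 := congrFun hc k
        rw [Matrix.vecMul, dotProduct] at h4
        simp only [hG] at h4
        rw [Pi.zero_apply] at h4
        rw [← h4]
        rw [Submodule.coe_sum, Finset.sum_mul, Finset.mul_sum, map_sum]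
        refine Finset.sum_congr rfl fun j _ => ?_
        rw [Submodule.coe_smul, smul_mul_assoc, mul_smul_comm, map_smul, smul_eq_mul]
      have h5 : (⟨b', hb'⟩ : B) = ∑ k, b.repr ⟨b', hb'⟩ k • b k := (b.sum_repr _).symm
      have h6 : b' = ∑ k, b.repr ⟨b', hb'⟩ k • (b k : K) := by
        have := congrArg (fun z : B => (z : K)) h5
        simpa only [Submodule.coe_sum, Submodule.coe_smul] using this
      rw [h6, sum_pow_q D.hK, Finset.mul_sum, Finset.mul_sum, map_sum]
      apply Finset.sum_eq_zero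
      intro k _
      rw [D.smul_pow, mul_smul_comm, mul_smul_comm, map_smul, h3, smul_zero]
  · by_contra hcon
    push Not at hcon
    apply hx0
    have h3 : ∑ i, x i • κ i ∈ perp ℓ X := by
      rw [← hκ₀]
      intro y hy
      induction hy using Submodule.span_induction with
      | mem y hy =>
        obtain ⟨b₁, hb₁, b₂, hb₂, rfl⟩ := hy
        exact hcon b₁ hb₁ b₂ hb₂
      | zero => rw [mul_zero, map_zero]
      | add y z _ _ hy hz => rw [mul_add, map_add, hy, hz, add_zero]
      | smul c y _ hy => rw [mul_smul_comm, map_smul, hy, smul_zero]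
    have h4 : ∑ i, x i • (perp ℓ X).mkQ (κ i) = 0 := by
      have h5 : (perp ℓ X).mkQ (∑ i, x i • κ i) = 0 := (Submodule.Quotient.mk_eq_zero _).2 h3
      rw [map_sum] at h5
      simpa only [map_smul] using h5
    exact funext ((Fintype.linearIndependent_iff.1 hκi) x h4)

end Cfsg.Agent.H930.ExtU
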