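import Cfsg.Agent.H930.ExtUB
import Cfsg.Agent.H879.Basic
import Cfsg.Agent.LieClassical.HermGen

/-!
# Overgroups of `SU_m(K)` in the unitary group of the trace form: lowering the rank
-/

set_option autoImplicit false
set_option linter.unusedSectionVars false

namespace Cfsg.Agent.H930.ExtU

open Module Cfsg Cfsg.Agent.LieClassical.HermBasic Cfsg.Agent.LieClassical.HermSiegel Cfsg.Agent.H879

variable {F K : Type*} [Field F] [Fintype F] [Field K] [Fintype K] [Algebra F K] {q Q m : ℕ} {ℓ : K →ₗ[F] F}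

/-- `M` is a group of isometries of `ℓ ∘ h` containing `SU_m(K)`. -/
structure Hyp (Q : ℕ) (ℓ : K →ₗ[F] F) (M : Subgroup ((Fin m → K) ≃ₗ[F] (Fin m → K))) : Prop where
  pres : ∀ g ∈ M, ∀ x y, ℓ (hermForm m K Q (g x) (g y)) = ℓ (hermForm m K Q x y)
  su : ∀ g : SU m K Q, Has M (act g)

variable {M : Subgroup ((Fin m → K) ≃ₗ[F] (Fin m → K))}

/-- The `K`-transvection. -/
def kt (Q : ℕ) (v : Fin m → K) (κ : K) (x : Fin m → K) : Fin m → K := x + (κ * hermForm m K Q x v) • v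

theorem kt_apply (v : Fin m → K) (κ : K) (x : Fin m → K) : kt Q v κ x = x + (κ * hermForm m K Q x v) • v := rfl

theorem Hyp.pres_inv (h : Hyp Q ℓ M) {g : (Fin m → K) ≃ₗ[F] (Fin m → K)} (hg : g ∈ M) (x y : Fin m → K) :
    ℓ (hermForm m K Q (g⁻¹ x) y) = ℓ (hermForm m K Q x (g y)) := by
  have h1 := h.pres g hg (g⁻¹ x) y
  rw [apply_inv_apply] at h1
  exact h1.symm

variable (D : Data q Q ℓ) (h : Hyp Q ℓ M)

include D h in
theorem Hyp.tv {v : Fin m → K} (hv : hermForm m K Q v v = 0) {κ : K} (hκ : κ + κ ^ Q = 0) : Has M (kt Q v κ) := by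
  have hs : IsSiegel Q v 0 κ := ⟨hv, herm_zero_left _, by rw [herm_zero_left, add_zero]; exact hκ⟩
  refine (h.su (siegel D.hK v 0 κ hs)).congr fun x => ?_
  rw [act_siegel, kt_apply, herm_zero_right D.hK, smul_zero, add_zero, sub_zero]

/-- The map `k ↦ h(g(k v), a)`. -/
def theta (Q : ℕ) (g : (Fin m → K) ≃ₗ[F] (Fin m → K)) (a v : Fin m → K) : K →ₗ[F] K where
  toFun k := hermForm m K Q (g (k • v)) a
  map_add' x y := by rw [add_smul, map_add, herm_add_left]
  map_smul' c x := by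
    rw [smul_assoc, map_smul, RingHom.id_apply, ← algebraMap_smul K c, herm_smul_left]
    exact (Algebra.smul_def _ _).symm

omit [Fintype F] [Fintype K] in
theorem theta_apply (g : (Fin m → K) ≃ₗ[F] (Fin m → K)) (a v : Fin m → K) (k : K) :
    theta Q g a v k = hermForm m K Q (g (k • v)) a := rfl

include D h in
/-- The adjoint of `theta`. -/
theorem Hyp.adj {g : (Fin m → K) ≃ₗ[F] (Fin m → K)} (hg : g ∈ M) (a v : Fin m → K) (k l : K) :
    ℓ (theta Q g a v k * l ^ Q) = ℓ (k * theta Q g⁻¹ v a l ^ Q) := by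
  have e1 : theta Q g a v k * l ^ Q = hermForm m K Q (g (k • v)) (l • a) := by
    rw [theta_apply, herm_smul_right, mul_comm]
  have e2 : k * theta Q g⁻¹ v a l ^ Q = hermForm m K Q (k • v) (g⁻¹ (l • a)) := by
    rw [theta_apply, herm_smul_left, herm_swap D.hK (g⁻¹ (l • a)) v]
  rw [e1, e2]
  have h1 := h.pres_inv (M.inv_mem hg) (k • v) (l • a)
  rw [inv_inv] at h1
  exact h1

/-- Realised pairs. -/
def Real (Q : ℕ) (M : Subgroup ((Fin m → K) ≃ₗ[F] (Fin m → K))) (θ ψ : K →ₗ[F] K) : Prop :=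
  ∃ g ∈ M, ∃ a v : Fin m → K, hermForm m K Q a a = 0 ∧ hermForm m K Q v v = 0 ∧
    θ = theta Q g a v ∧ ψ = theta Q g⁻¹ v a

include D h in
theorem Hyp.step {θ ψ : K →ₗ[F] K} (hR : Real Q M θ ψ) {κ : K} (hκ : κ + κ ^ Q = 0) :
    Real Q M (θ ∘ₗ LinearMap.mulLeft F κ ∘ₗ ψ) (-(θ ∘ₗ LinearMap.mulLeft F κ ∘ₗ ψ)) := by
  obtain ⟨g, hg, a, v, ha, hv, rfl, rfl⟩ := hR
  obtain ⟨t, ht, hte⟩ := h.tv D hv hκ
  have hκ' : -κ + (-κ) ^ Q = 0 := by rw [neg_pow_q D.hK]; linear_combination -hκ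
  have hti : ∀ x, t⁻¹ x = kt Q v (-κ) x := by
    intro x
    have h1 : t (kt Q v (-κ) x) = x := by
      rw [hte, kt_apply, kt_apply, herm_add_left, herm_smul_left, hv, mul_zero, add_zero]
      rw [add_assoc, ← add_smul]
      have : -κ * hermForm m K Q x v + κ * hermForm m K Q x v = 0 := by ring
      rw [this, zero_smul, add_zero]
    rw [← h1, inv_apply_apply, h1]
  refine ⟨g * t * g⁻¹, M.mul_mem (M.mul_mem hg ht) (M.inv_mem hg), a, a, ha, ha, ?_, ?_⟩
  · ext k
    change theta Q g a v (κ * theta Q g⁻¹ v a k) = _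
    rw [theta_apply, theta_apply, theta_apply, LinearEquiv.mul_apply, LinearEquiv.mul_apply, hte, kt_apply, map_add,
      apply_inv_apply, herm_add_left, herm_smul_left, ha, mul_zero, zero_add]
  · ext k
    have e : (g * t * g⁻¹)⁻¹ = g * t⁻¹ * g⁻¹ := by group
    change -(theta Q g a v (κ * theta Q g⁻¹ v a k)) = _
    rw [e, ← map_neg, theta_apply, theta_apply, theta_apply, LinearEquiv.mul_apply, LinearEquiv.mul_apply, hti, kt_apply,
      map_add, apply_inv_apply, herm_add_left, herm_smul_left, ha, mul_zero, zero_add, neg_mul]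

include D h in
/-- Lowering the rank to one. -/
theorem Hyp.exists_rank_one (hr : (finrank F K).Prime) {θ ψ : K →ₗ[F] K} (hR : Real Q M θ ψ) (h0 : ψ ≠ 0)
    (h1 : LinearMap.range ψ ≠ ⊤) : ∃ θ ψ : K →ₗ[F] K, Real Q M θ ψ ∧ finrank F (LinearMap.range ψ) = 1 := by
  have := D.finDim
  obtain ⟨n, hn⟩ : ∃ n, n = finrank F (LinearMap.range ψ) := ⟨_, rfl⟩
  induction n using Nat.strong_induction_on generalizing θ ψ with
  | _ n ih =>
    have hpos : 0 < finrank F (LinearMap.range ψ) := by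
      rw [Nat.pos_iff_ne_zero]
      intro h2
      apply h0
      rw [Submodule.finrank_eq_zero, LinearMap.range_eq_bot] at h2
      exact h2
    by_cases hone : finrank F (LinearMap.range ψ) = 1
    · exact ⟨θ, ψ, hR, hone⟩
    obtain ⟨κ, hκ, ⟨b, hb, hb0, hbz⟩, ⟨b₁, hb₁, b₂, hb₂, hbn⟩⟩ := D.exists_kappa hr (B := LinearMap.range ψ) (by omega) h1
    have hadj : ∀ k l, ℓ (θ k * l ^ Q) = ℓ (k * ψ l ^ Q) := by
      obtain ⟨g, hg, a, v, ha, hv, rfl, rfl⟩ := hR
      exact h.adj D hg a v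
    have hstep := h.step D hR hκ
    -- the new range
    have hrange : LinearMap.range (-(θ ∘ₗ LinearMap.mulLeft F κ ∘ₗ ψ)) =
        (LinearMap.range ψ).map (θ ∘ₗ LinearMap.mulLeft F κ) := by
      rw [LinearMap.range_neg, ← LinearMap.comp_assoc, LinearMap.range_comp]
    have hlt : finrank F ((LinearMap.range ψ).map (θ ∘ₗ LinearMap.mulLeft F κ)) < finrank F (LinearMap.range ψ) := by
      have h2 := LinearMap.finrank_range_add_finrank_ker ((θ ∘ₗ LinearMap.mulLeft F κ).domRestrict (LinearMap.range ψ))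
      rw [LinearMap.range_domRestrict] at h2
      have h3 : 0 < finrank F (LinearMap.ker ((θ ∘ₗ LinearMap.mulLeft F κ).domRestrict (LinearMap.range ψ))) := by
        rw [Nat.pos_iff_ne_zero]
        intro h4
        rw [Submodule.finrank_eq_zero] at h4
        suffices h5 : (⟨b, hb⟩ : LinearMap.range ψ) ∈ LinearMap.ker ((θ ∘ₗ LinearMap.mulLeft F κ).domRestrict (LinearMap.range ψ)) by
          rw [h4, Submodule.mem_bot] at h5
          exact hb0 (congrArg Subtype.val h5)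
        rw [LinearMap.mem_ker]
        change θ (κ * b) = 0
        apply D.eq_zero
        intro l
        have h3 := hadj (κ * b) (l ^ Q)
        rw [pow_q_pow_q D.hK] at h3
        rw [mul_comm, h3, mul_assoc]
        exact hbz _ ⟨_, rfl⟩
      omega
    refine ih (finrank F (LinearMap.range (-(θ ∘ₗ LinearMap.mulLeft F κ ∘ₗ ψ)))) (by rw [hn, hrange]; exact hlt) hstep
      ?_ ?_ rfl
    · intro h2
      obtain ⟨l₁, rfl⟩ := hb₁
      obtain ⟨l₂, rfl⟩ := hb₂
      apply hbn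
      have h3 : θ (κ * ψ l₁) = 0 := by
        have := LinearMap.congr_fun h2 l₁
        rw [LinearMap.neg_apply, LinearMap.zero_apply, neg_eq_zero] at this
        exact this
      rw [← mul_assoc, ← hadj, h3, zero_mul, map_zero]
    · intro h2
      rw [← hrange, h2, finrank_top] at hlt
      have := Submodule.finrank_le (LinearMap.range ψ)
      omega

include D h in
/-- The normalised rank one situation. -/
theorem Hyp.exists_normal (hr : (finrank F K).Prime) {θ ψ : K →ₗ[F] K} (hR : Real Q M θ ψ) (h0 : ψ ≠ 0)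
    (h1 : LinearMap.range ψ ≠ ⊤) : ∃ g ∈ M, ∃ a v : Fin m → K, hermForm m K Q a a = 0 ∧ hermForm m K Q v v = 0 ∧
      (∀ k : K, hermForm m K Q (g (k • v)) a = algebraMap F K (ℓ k)) ∧
      ∀ k : K, hermForm m K Q (g⁻¹ (k • a)) v = algebraMap F K (ℓ k) := by
  have := D.finDim
  obtain ⟨θ, ψ, ⟨g, hg, a, v, ha, hv, rfl, rfl⟩, h2⟩ := h.exists_rank_one D hr hR h0 h1
  -- write `ψ` as a functional times a vector
  obtain ⟨β, hβ0, hβ⟩ := finrank_eq_one_iff'.1 h2
  choose c hc using fun k => hβ ⟨theta Q g⁻¹ v a k, ⟨k, rfl⟩⟩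
  have hc' : ∀ k, c k • (β : K) = theta Q g⁻¹ v a k := fun k => congrArg Subtype.val (hc k)
  have hβ0' : (β : K) ≠ 0 := fun h3 => hβ0 (Subtype.ext h3)
  have hinj : ∀ x y : F, x • (β : K) = y • (β : K) → x = y := by
    intro x y hxy
    have h3 : (x - y) • (β : K) = 0 := by rw [sub_smul, hxy, sub_self]
    rcases smul_eq_zero.1 h3 with h4 | h4
    · exact sub_eq_zero.1 h4
    · exact absurd h4 hβ0'
  let f : K →ₗ[F] F :=
    { toFun := c
      map_add' := fun x y => by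
        apply hinj
        rw [hc', map_add, add_smul, hc', hc']
      map_smul' := fun s x => by
        apply hinj
        rw [hc', map_smul, RingHom.id_apply, smul_assoc, hc'] }
  obtain ⟨γ, hγ⟩ := D.exists_rep f
  have hψ : ∀ k, theta Q g⁻¹ v a k = algebraMap F K (ℓ (γ * k)) * β := by
    intro k
    rw [← hc', ← hγ, ← Algebra.smul_def]
    rfl
  have hγ0 : γ ≠ 0 := by
    rintro rfl
    obtain ⟨k, hk⟩ := β.2
    rw [hψ, zero_mul, map_zero, map_zero, zero_mul] at hk
    exact hβ0' hk.symm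
  have h3 : ∀ k : K, hermForm m K Q (g⁻¹ (k • (γ⁻¹ • a))) (((β : K)⁻¹ ^ Q) • v) = algebraMap F K (ℓ k) := by
    intro k
    rw [herm_smul_right, pow_q_pow_q D.hK, smul_smul]
    have := hψ (k * γ⁻¹)
    rw [theta_apply] at this
    rw [this, mul_comm k, ← mul_assoc γ, mul_inv_cancel₀ hγ0, one_mul]
    field_simp
  refine ⟨g, hg, γ⁻¹ • a, ((β : K)⁻¹ ^ Q) • v, ?_, ?_, ?_, h3⟩
  · rw [herm_smul_left, herm_smul_right, ha, mul_zero, mul_zero]
  · rw [herm_smul_left, herm_smul_right, hv, mul_zero, mul_zero]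
  · intro k
    have h4 : ∀ l : K, ℓ (l * hermForm m K Q (g (k • ((β : K)⁻¹ ^ Q) • v)) (γ⁻¹ • a)) = ℓ (l * algebraMap F K (ℓ k)) := by
      intro l
      have h5 := h.adj D hg (γ⁻¹ • a) (((β : K)⁻¹ ^ Q) • v) k (l ^ Q)
      rw [pow_q_pow_q D.hK, theta_apply, theta_apply, h3, D.alg, D.lpow] at h5
      have e : ∀ (z : K) (c : F), ℓ (z * algebraMap F K c) = c * ℓ z := by
        intro z c
        rw [mul_comm, ← Algebra.smul_def, map_smul, smul_eq_mul]
      rw [e, pow_q_pow_q D.hF] at h5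
      rw [mul_comm l, h5, e]
      ring
    exact D.ext h4

end Cfsg.Agent.H930.ExtU
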