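import Cfsg.Agent.H930.ExtUC

/-!
# Overgroups of `SU_m(K)` in the unitary group of the trace form: generalised transvections
-/

set_option autoImplicit false
set_option linter.unusedSectionVars false

namespace Cfsg.Agent.H930.ExtU

open Module Cfsg Cfsg.Agent.LieClassical.HermBasic Cfsg.Agent.LieClassical.HermSiegel Cfsg.Agent.H879
open Cfsg.Agent.LieClassical.HermGen

variable {F K : Type*} [Field F] [Fintype F] [Field K] [Fintype K] [Algebra F K] {q Q m : ℕ} {ℓ : K →ₗ[F] F}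
variable {M : Subgroup ((Fin m → K) ≃ₗ[F] (Fin m → K))}

/-- The generalised transvection. -/
def TA (Q : ℕ) (a : Fin m → K) (A : K → K) (x : Fin m → K) : Fin m → K := x + A (hermForm m K Q x a) • a

theorem TA_apply (a : Fin m → K) (A : K → K) (x : Fin m → K) : TA Q a A x = x + A (hermForm m K Q x a) • a := rfl

/-- The generalised transvections with operator `A` are in `M`. -/
def InA (Q : ℕ) (M : Subgroup ((Fin m → K) ≃ₗ[F] (Fin m → K))) (A : K → K) : Prop :=
  ∀ a : Fin m → K, a ≠ 0 → hermForm m K Q a a = 0 → Has M (TA Q a A)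

variable (D : Data q Q ℓ) (h : Hyp Q ℓ M)

theorem InA.congr {A B : K → K} (hA : InA Q M A) (hAB : ∀ x, A x = B x) : InA Q M B := by
  have : A = B := funext hAB
  rwa [← this]

theorem InA.add {A B : K → K} (hA : InA Q M A) (hB : InA Q M B) : InA Q M (fun x => A x + B x) := by
  intro a ha0 ha
  refine ((hA a ha0 ha).comp (hB a ha0 ha)).congr fun x => ?_
  rw [TA_apply, TA_apply, TA_apply, herm_add_left, herm_smul_left, ha, mul_zero, add_zero, add_smul]
  abel

theorem InA.neg {A : K → K} (hA : InA Q M A) : InA Q M (fun x => -A x) := by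
  intro a ha0 ha
  refine (hA a ha0 ha).inv fun x => ?_
  rw [TA_apply, TA_apply, herm_add_left, herm_smul_left, ha, mul_zero, add_zero, neg_smul]
  abel

theorem InA.sub {A B : K → K} (hA : InA Q M A) (hB : InA Q M B) : InA Q M (fun x => A x - B x) :=
  (hA.add hB.neg).congr fun _ => (sub_eq_add_neg _ _).symm

theorem InA.conj {A : K → K} (hA : InA Q M A) {k : K} (hk : k ≠ 0) : InA Q M (fun x => k * A (k ^ Q * x)) := by
  intro a ha0 ha
  refine (hA (k • a) ?_ ?_).congr fun x => ?_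
  · intro h0
    rcases smul_eq_zero.1 h0 with h1 | h1
    · exact hk h1
    · exact ha0 h1
  · rw [herm_smul_left, herm_smul_right, ha, mul_zero, mul_zero]
  · rw [TA_apply, TA_apply, herm_smul_right, smul_smul, mul_comm k]

include D h in
theorem Hyp.inA_of (hm : 3 ≤ m) {a : Fin m → K} (ha0 : a ≠ 0) (ha : hermForm m K Q a a = 0) {A : K → K}
    (hA : Has M (TA Q a A)) : InA Q M A := by
  intro b hb0 hb
  obtain ⟨g, -, hg⟩ := exists_map_iso D.hK hm le_rfl (mem_coordSub_top a) (mem_coordSub_top b) ha0 hb0 ha hb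
  obtain ⟨t, ht, hte⟩ := h.su g
  have hti : ∀ x, t⁻¹ x = act g⁻¹ x := by
    intro x
    have h1 : t (act g⁻¹ x) = x := by rw [hte, act_act_inv]
    rw [← h1, inv_apply_apply, h1]
  refine (hA.conj ht).congr fun x => ?_
  rw [hte, hti, TA_apply, TA_apply, act_add, act_act_inv, act_smul, hg]
  congr 3
  rw [herm_act_left, inv_inv, hg]

include D h in
theorem Hyp.inA_skew {κ : K} (hκ : κ + κ ^ Q = 0) : InA Q M (fun x => κ * x) :=
  fun _ _ ha => h.tv D ha hκ

theorem ell_alg (z : K) (c : F) : ℓ (z * algebraMap F K c) = c * ℓ z := by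
  rw [mul_comm, ← Algebra.smul_def, map_smul, smul_eq_mul]

theorem ell_alg' (z : K) (c : F) : ℓ (algebraMap F K c * z) = c * ℓ z := by
  rw [← Algebra.smul_def, map_smul, smul_eq_mul]

include D h in
/-- The commutator element `R`. -/
theorem Hyp.exists_R {g : (Fin m → K) ≃ₗ[F] (Fin m → K)} (hg : g ∈ M) {a v : Fin m → K}
    (ha : hermForm m K Q a a = 0) (hv : hermForm m K Q v v = 0)
    (h1 : ∀ k : K, hermForm m K Q (g (k • v)) a = algebraMap F K (ℓ k))
    (h2 : ∀ k : K, hermForm m K Q (g⁻¹ (k • a)) v = algebraMap F K (ℓ k))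
    {lam κ : K} (hl : lam + lam ^ Q = 0) (hκ : κ + κ ^ Q = 0) (hl0 : ℓ lam = 0) :
    Has M (fun x => x + (algebraMap F K (ℓ (hermForm m K Q x (g (κ • v))) - (ℓ κ) ^ q * ℓ (lam * hermForm m K Q x a)) * lam) • a
      + (algebraMap F K (ℓ (lam * hermForm m K Q x a))) • g (κ • v)) := by
  have hlQ : lam ^ Q = -lam := by linear_combination hl
  have hκQ : κ ^ Q = -κ := by linear_combination hκ
  obtain ⟨t, ht, hte⟩ := h.tv D hv hκ
  have hl' : -lam + (-lam) ^ Q = 0 := by rw [neg_pow_q D.hK]; linear_combination -hl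
  have hT := h.tv D ha hl
  have hT' := h.tv D ha hl'
  have hκ' : -κ + (-κ) ^ Q = 0 := by rw [neg_pow_q D.hK]; linear_combination -hκ
  obtain ⟨t', ht', hte'⟩ := h.tv D hv hκ'
  have hS : Has M (fun x => g (t (g⁻¹ x))) := (has_of_mem ht).conj hg
  have hS' : Has M (fun x => g (t' (g⁻¹ x))) := (has_of_mem ht').conj hg
  refine (hS.comp (hT.comp (hS'.comp hT'))).congr fun x => ?_
  -- names
  obtain ⟨w, hw⟩ : ∃ w, w = g (κ • v) := ⟨_, rfl⟩
  have hwa : hermForm m K Q w a = algebraMap F K (ℓ κ) := by rw [hw, h1]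
  have haw : hermForm m K Q a w = algebraMap F K ((ℓ κ) ^ q) := by rw [herm_swap D.hK w a, hwa, D.alg]
  have hfw : ∀ y, ℓ (κ * hermForm m K Q (g⁻¹ y) v) = -ℓ (hermForm m K Q y w) := by
    intro y
    rw [hw, ← h.pres_inv hg, herm_smul_right, hκQ, neg_mul, map_neg, neg_neg]
  have hgc : ∀ c : F, g ((κ * algebraMap F K c) • v) = algebraMap F K c • w := by
    intro c
    rw [mul_comm, mul_smul, algebraMap_smul, map_smul, ← hw, algebraMap_smul]
  -- compute from the inside
  have e1 : ∀ y, g (t' (g⁻¹ y)) = y - g ((κ * hermForm m K Q (g⁻¹ y) v) • v) := by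
    intro y
    rw [hte', kt_apply, map_add, apply_inv_apply, neg_mul, neg_smul, map_neg, sub_eq_add_neg]
  have e2 : ∀ y, g (t (g⁻¹ y)) = y + g ((κ * hermForm m K Q (g⁻¹ y) v) • v) := by
    intro y
    rw [hte, kt_apply, map_add, apply_inv_apply]
  have e3 : ∀ y, hermForm m K Q (g (t' (g⁻¹ y))) a = hermForm m K Q y a + algebraMap F K (ℓ (hermForm m K Q y w)) := by
    intro y
    rw [e1, herm_sub_left, h1, hfw, map_neg, sub_neg_eq_add]
  have e4 : ∀ y, g (t (g⁻¹ (kt Q a lam (g (t' (g⁻¹ y)))))) =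
      y + (lam * (hermForm m K Q y a + algebraMap F K (ℓ (hermForm m K Q y w)))) • a +
        algebraMap F K (ℓ (lam * hermForm m K Q y a)) • w := by
    intro y
    rw [kt_apply, e3, map_add, map_add, map_add]
    have e5 : g (t (g⁻¹ (g (t' (g⁻¹ y))))) = y := by
      rw [inv_apply_apply]
      have : t (t' (g⁻¹ y)) = g⁻¹ y := by
        rw [hte, hte', kt_apply, kt_apply, herm_add_left, herm_smul_left, hv, mul_zero, add_zero, add_assoc,
          ← add_smul]
        have : -κ * hermForm m K Q (g⁻¹ y) v + κ * hermForm m K Q (g⁻¹ y) v = 0 := by ring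
        rw [this, zero_smul, add_zero]
      rw [this, apply_inv_apply]
    rw [e5, e2, h2, hgc, mul_add, map_add ℓ, ell_alg, hl0, mul_zero, add_zero, add_assoc]
  have e6 : hermForm m K Q (kt Q a (-lam) x) a = hermForm m K Q x a := by
    rw [kt_apply, herm_add_left, herm_smul_left, ha, mul_zero, add_zero]
  have e7 : ℓ (hermForm m K Q (kt Q a (-lam) x) w) = ℓ (hermForm m K Q x w) - (ℓ κ) ^ q * ℓ (lam * hermForm m K Q x a) := by
    rw [kt_apply, herm_add_left, herm_smul_left, haw, map_add, ell_alg, neg_mul, map_neg]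
    ring
  rw [e4, e6, e7, kt_apply, ← hw]
  ext i
  simp only [Pi.add_apply, Pi.smul_apply, smul_eq_mul]
  ring

include D h in
/-- The second commutator: a generalised transvection. -/
theorem Hyp.has_key {g : (Fin m → K) ≃ₗ[F] (Fin m → K)} (hg : g ∈ M) {a v : Fin m → K}
    (ha : hermForm m K Q a a = 0) (hv : hermForm m K Q v v = 0)
    (h1 : ∀ k : K, hermForm m K Q (g (k • v)) a = algebraMap F K (ℓ k))
    (h2 : ∀ k : K, hermForm m K Q (g⁻¹ (k • a)) v = algebraMap F K (ℓ k))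
    {lam κ mu : K} (hl : lam + lam ^ Q = 0) (hκ : κ + κ ^ Q = 0) (hmu : mu + mu ^ Q = 0) (hl0 : ℓ lam = 0) :
    Has M (TA Q a fun y => algebraMap F K (ℓ κ) * (algebraMap F K (ℓ (lam * y)) * mu +
      algebraMap F K (ℓ (mu * y)) * lam) - algebraMap F K (ℓ κ * ℓ κ * ℓ mu * ℓ (lam * y)) * lam) := by
  have hκQ : κ ^ Q = -κ := by linear_combination hκ
  obtain ⟨ρ, hρ, hρe⟩ := h.exists_R D hg ha hv h1 h2 hl hκ hl0
  obtain ⟨t, ht, hte⟩ := h.tv D ha hmu
  refine ⟨t * ρ * t⁻¹ * ρ⁻¹, M.mul_mem (M.mul_mem (M.mul_mem ht hρ) (M.inv_mem ht)) (M.inv_mem hρ), fun x => ?_⟩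
  obtain ⟨y, hy⟩ : ∃ y, x = ρ (t y) := ⟨t⁻¹ (ρ⁻¹ x), by rw [apply_inv_apply, apply_inv_apply]⟩
  subst hy
  rw [LinearEquiv.mul_apply, LinearEquiv.mul_apply, LinearEquiv.mul_apply, inv_apply_apply, inv_apply_apply]
  -- names
  have hwa : hermForm m K Q (g (κ • v)) a = algebraMap F K (ℓ κ) := h1 κ
  have hcq : ℓ κ ^ q = -ℓ κ := by rw [← D.lpow, hκQ, map_neg]
  have haw : hermForm m K Q a (g (κ • v)) = -algebraMap F K (ℓ κ) := by
    rw [herm_swap D.hK (g (κ • v)) a, hwa, D.alg, hcq, map_neg]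
  obtain ⟨w, hw⟩ : ∃ w, w = g (κ • v) := ⟨_, rfl⟩
  rw [← hw] at hwa haw
  rw [← hw] at hρe
  obtain ⟨c, hc⟩ : ∃ c, c = ℓ κ := ⟨_, rfl⟩
  rw [← hc] at hwa haw hcq
  rw [← hc] at hρe
  rw [← hc]
  rw [hcq] at hρe
  beta_reduce at hρe
  have e1 : ∀ z, hermForm m K Q (ρ z) a = hermForm m K Q z a + algebraMap F K (ℓ (lam * hermForm m K Q z a) * c) := by
    intro z
    rw [hρe, herm_add_left, herm_add_left, herm_smul_left, herm_smul_left, ha, hwa, mul_zero, add_zero,
      map_mul (algebraMap F K)]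
  have e2 : hermForm m K Q (t y) a = hermForm m K Q y a := by
    rw [hte, kt_apply, herm_add_left, herm_smul_left, ha, mul_zero, add_zero]
  have e3 : ℓ (hermForm m K Q (t y) w) = ℓ (hermForm m K Q y w) - c * ℓ (mu * hermForm m K Q y a) := by
    rw [hte, kt_apply, herm_add_left, herm_smul_left, haw, map_add, mul_neg, map_neg, ell_alg, sub_eq_add_neg]
  have e4 : ℓ (lam * (hermForm m K Q y a + algebraMap F K (ℓ (lam * hermForm m K Q y a) * c))) =
      ℓ (lam * hermForm m K Q y a) := by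
    rw [mul_add, map_add, ell_alg, hl0, mul_zero, add_zero]
  have e5 : ℓ (mu * (hermForm m K Q y a + algebraMap F K (ℓ (lam * hermForm m K Q y a) * c))) =
      ℓ (mu * hermForm m K Q y a) + ℓ (lam * hermForm m K Q y a) * c * ℓ mu := by
    rw [mul_add, map_add, ell_alg]
  rw [TA_apply, e1, e2, e4, e5]
  conv_lhs => rw [hte, kt_apply, e1]
  rw [hρe, hρe (t y), e2, e3, hte, kt_apply]
  ext i
  simp only [Pi.add_apply, Pi.smul_apply, smul_eq_mul, map_sub, map_mul, map_add, map_neg]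
  ring

end Cfsg.Agent.H930.ExtU
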