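import Cfsg.Agent.H930.ExtUD

/-!
# Overgroups of `SU_m(K)` in the unitary group of the trace form: transvections over `F`, `q ≥ 3`
-/

set_option autoImplicit false
set_option linter.unusedSectionVars false

namespace Cfsg.Agent.H930.ExtU

open Module Cfsg Cfsg.Agent.LieClassical.HermBasic Cfsg.Agent.LieClassical.HermSiegel Cfsg.Agent.H879
open Cfsg.Agent.LieClassical.HermGen

variable {F K : Type*} [Field F] [Fintype F] [Field K] [Fintype K] [Algebra F K] {q Q m : ℕ} {ℓ : K →ₗ[F] F}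
variable {M : Subgroup ((Fin m → K) ≃ₗ[F] (Fin m → K))}

/-- The transvection over `F`. -/
def FT (Q : ℕ) (ℓ : K →ₗ[F] F) (u : Fin m → K) (e : F) (x : Fin m → K) : Fin m → K :=
  x + (e * ℓ (hermForm m K Q x u)) • u

theorem FT_apply (u : Fin m → K) (e : F) (x : Fin m → K) :
    FT Q ℓ u e x = x + (e * ℓ (hermForm m K Q x u)) • u := rfl

variable (D : Data q Q ℓ) (h : Hyp Q ℓ M)

include D in
theorem Data.exists_skew_ne : ∃ κ : K, κ + κ ^ Q = 0 ∧ ℓ κ ≠ 0 := by
  by_contra hc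
  push Not at hc
  apply D.lne
  ext k
  have h1 : k ∈ Submodule.span F {κ : K | κ + κ ^ Q = 0} := by rw [D.span_skew]; trivial
  rw [LinearMap.zero_apply]
  induction h1 using Submodule.span_induction with
  | mem x hx => exact hc x hx
  | zero => exact map_zero ℓ
  | add x y _ _ hx hy => rw [map_add, hx, hy, add_zero]
  | smul c x _ hx => rw [map_smul, hx, smul_zero]

include D in
theorem Data.ell_sym {a : K} (ha : a ^ Q = a) : ℓ a ^ q = ℓ a := by rw [← D.lpow, ha]

include D in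
/-- Components of elements of the kernel. -/
theorem Data.ell_decomp {ω : F} (hω : ω ^ q ≠ ω) {a b : K} (ha : a ^ Q = a) (hb : b ^ Q = b)
    (h0 : ℓ (a + ω • b) = 0) : ℓ a = 0 ∧ ℓ b = 0 := by
  rw [map_add, map_smul, smul_eq_mul] at h0
  have h1 := congrArg (fun z => z ^ q) h0
  simp only [zero_pow_q D.hF] at h1
  rw [add_pow_q D.hF, mul_pow, D.ell_sym ha, D.ell_sym hb] at h1
  have h2 : (ω ^ q - ω) * ℓ b = 0 := by linear_combination h1 - h0
  have h3 : ℓ b = 0 := (mul_eq_zero.1 h2).resolve_left (sub_ne_zero.2 hω)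
  refine ⟨?_, h3⟩
  rw [h3, mul_zero, add_zero] at h0
  exact h0

include D in
/-- A nonzero skew element in the kernel of `ℓ`. -/
theorem Data.exists_skew_ker (hr : 2 ≤ finrank F K) : ∃ lam : K, lam ≠ 0 ∧ lam + lam ^ Q = 0 ∧ ℓ lam = 0 := by
  have := D.finDim
  obtain ⟨ω, hω⟩ := D.exists_omega
  obtain ⟨ε, hε0, hε⟩ := exists_trace_zero_ne D.hF
  have h1 : LinearMap.ker ℓ ≠ ⊥ := by
    apply LinearMap.ker_ne_bot_of_finrank_lt
    rw [finrank_self]
    omega
  obtain ⟨z, hz, hz0⟩ := (LinearMap.ker ℓ).ne_bot_iff.1 h1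
  obtain ⟨a, b, ha, hb, rfl⟩ := D.exists_decomp hω z
  obtain ⟨hla, hlb⟩ := D.ell_decomp hω ha hb (LinearMap.mem_ker.1 hz)
  have key : ∀ x : K, x ^ Q = x → ℓ x = 0 → x ≠ 0 → ∃ lam : K, lam ≠ 0 ∧ lam + lam ^ Q = 0 ∧ ℓ lam = 0 := by
    intro x hx hlx hx0
    refine ⟨ε • x, smul_ne_zero hε0 hx0, ?_, by rw [map_smul, hlx, smul_zero]⟩
    rw [D.smul_pow, hx, ← add_smul, hε, zero_smul]
  by_cases ha0 : a = 0
  · apply key b hb hlb
    rintro rfl
    apply hz0
    rw [ha0, smul_zero, add_zero]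
  · exact key a ha hla ha0

include D h in
/-- From an operator of rank one to transvections. -/
theorem Hyp.ft_of_inA {lam : K} (hlam0 : lam ≠ 0) (hlam : lam + lam ^ Q = 0) {e : F}
    (hA : InA Q M fun y => -(algebraMap F K (e * ℓ (lam * y)) * lam)) {u : Fin m → K}
    (hu : hermForm m K Q u u = 0) : Has M (FT Q ℓ u e) := by
  have hlQ : lam ^ Q = -lam := by linear_combination hlam
  by_cases hu0 : u = 0
  · refine (has_id).congr fun x => ?_
    rw [FT_apply, hu0, smul_zero, add_zero]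
  refine (hA (lam⁻¹ • u) (smul_ne_zero (inv_ne_zero hlam0) hu0) ?_).congr fun x => ?_
  · rw [herm_smul_left, herm_smul_right, hu, mul_zero, mul_zero]
  · rw [TA_apply, FT_apply, herm_smul_right, inv_pow, hlQ, smul_smul, ← algebraMap_smul K (e * _)]
    congr 2
    have e1 : lam * ((-lam)⁻¹ * hermForm m K Q x u) = -hermForm m K Q x u := by
      rw [inv_neg]
      field_simp
    rw [e1, map_neg, mul_neg, map_neg]
    field_simp

include D h in
/-- `q ≥ 3`: some transvection over `F`. -/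
theorem Hyp.exists_e_of_three (hr : 2 ≤ finrank F K) (hq : 3 ≤ q) (hm : 3 ≤ m)
    (hN : ∃ g ∈ M, ∃ a v : Fin m → K, hermForm m K Q a a = 0 ∧ hermForm m K Q v v = 0 ∧
      (∀ k : K, hermForm m K Q (g (k • v)) a = algebraMap F K (ℓ k)) ∧
      ∀ k : K, hermForm m K Q (g⁻¹ (k • a)) v = algebraMap F K (ℓ k)) :
    ∃ e : F, e ≠ 0 ∧ e + e ^ q = 0 ∧ ∀ u, hermForm m K Q u u = 0 → Has M (FT Q ℓ u e) := by
  obtain ⟨g, hg, a, v, ha, hv, h1, h2⟩ := hN
  obtain ⟨κ, hκ, hκ0⟩ := D.exists_skew_ne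
  obtain ⟨lam, hlam0, hlam, hll⟩ := D.exists_skew_ker hr
  have ha0 : a ≠ 0 := by
    rintro rfl
    have h3 := h1 κ
    rw [herm_zero_right D.hK] at h3
    exact hκ0 ((map_eq_zero (algebraMap F K)).1 h3.symm)
  obtain ⟨x, hxq, hx⟩ : ∃ x : F, x ^ q = x ∧ x ^ 2 - x ≠ 0 := by
    by_contra hcon
    push Not at hcon
    have h3 := card_fixed D.hF
    have h4 : Nat.card {x : F // x ^ q = x} ≤ 2 := by
      classical
      let f : {x : F // x ^ q = x} → Fin 2 := fun x => if (x : F) = 0 then 0 else 1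
      have hf : Function.Injective f := by
        rintro ⟨x, hx⟩ ⟨y, hy⟩ hxy
        have hx1 : x = 0 ∨ x = 1 := by
          have h5 : x * (x - 1) = 0 := by linear_combination hcon x hx
          rcases mul_eq_zero.1 h5 with h6 | h6
          · exact Or.inl h6
          · exact Or.inr (sub_eq_zero.1 h6)
        have hy1 : y = 0 ∨ y = 1 := by
          have h5 : y * (y - 1) = 0 := by linear_combination hcon y hy
          rcases mul_eq_zero.1 h5 with h6 | h6
          · exact Or.inl h6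
          · exact Or.inr (sub_eq_zero.1 h6)
        rcases hx1 with rfl | rfl <;> rcases hy1 with rfl | rfl <;> simp_all [f]
      have := Nat.card_le_card_of_injective f hf
      simpa using this
    omega
  have hκx : x • κ + (x • κ) ^ Q = 0 := by rw [D.smul_pow, hxq, ← smul_add, hκ, smul_zero]
  have hA1 := h.inA_of D hm ha0 ha (h.has_key D hg ha hv h1 h2 hlam hκx hκ hll)
  have hA2 := h.inA_of D hm ha0 ha (h.has_key D hg ha hv h1 h2 hlam hκ hκx hll)
  have hcq : ℓ κ ^ q = -ℓ κ := by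
    have : κ ^ Q = -κ := by linear_combination hκ
    rw [← D.lpow, this, map_neg]
  refine ⟨(x ^ 2 - x) * ℓ κ ^ 3, mul_ne_zero hx (pow_ne_zero _ hκ0), ?_, fun u hu => ?_⟩
  · rw [mul_pow, sub_pow_q D.hF, ← pow_mul, mul_comm 2, pow_mul, hxq, ← pow_mul, mul_comm 3, pow_mul, hcq]
    ring
  · refine h.ft_of_inA D hlam0 hlam ((hA1.sub hA2).congr fun y => ?_) hu
    have e1 : ℓ (x • κ) = x * ℓ κ := by rw [map_smul, smul_eq_mul]
    have e2 : ℓ (x • κ * y) = x * ℓ (κ * y) := by rw [smul_mul_assoc, map_smul, smul_eq_mul]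
    rw [e1, e2, Algebra.smul_def]
    simp only [map_mul, map_sub, map_pow]
    ring

end Cfsg.Agent.H930.ExtU
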