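import Cfsg.Agent.H930.ExtUF

/-!
# Overgroups of `SU_m(K)` in the unitary group of the trace form: transvections over `F`, `q = 2`
-/

set_option autoImplicit false
set_option linter.unusedSectionVars false

namespace Cfsg.Agent.H930.ExtU

open Module Cfsg Cfsg.Agent.LieClassical.HermBasic Cfsg.Agent.LieClassical.HermSiegel Cfsg.Agent.H879
open Cfsg.Agent.LieClassical.HermGen

variable {F K : Type*} [Field F] [Fintype F] [Field K] [Fintype K] [Algebra F K] {q Q m : ℕ} {ℓ : K →ₗ[F] F}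

/-! ### A symmetric basis and its dual -/

theorem Data.exists_dual_basis (D : Data q Q ℓ) : ∃ (Y : Set K) (_ : Fintype Y) (b : Basis Y F K)
    (κ : Y → K), (∀ y, b y ^ Q = b y) ∧ (∀ y, κ y ^ Q = κ y) ∧ (∀ z, ∑ y, ℓ (κ y * z) • b y = z) ∧
    (∀ z, ∑ y, ℓ (z * b y) • κ y = z) ∧ ∑ y, b y * κ y ≠ 0 := by
  classical
  have := D.finDim
  obtain ⟨ω, hω⟩ := D.exists_omega
  obtain ⟨Y, hYs, hYt, hYi⟩ := exists_linearIndependent F {k : K | k ^ Q = k}
  have hspan : Submodule.span F {k : K | k ^ Q = k} = ⊤ := by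
    rw [Submodule.eq_top_iff']
    intro k
    obtain ⟨a, b, ha, hb, rfl⟩ := D.exists_decomp hω k
    exact Submodule.add_mem _ (Submodule.subset_span ha) (Submodule.smul_mem _ _ (Submodule.subset_span hb))
  rw [hspan] at hYt
  let b : Basis Y F K := Basis.mk hYi (by rw [Subtype.range_coe]; exact hYt.ge)
  have hb : ∀ y, b y = y := fun y => Basis.mk_apply _ _ _
  have : Fintype Y := Fintype.ofFinite Y
  choose κ hκ using fun y => D.exists_rep (b.coord y)
  have hbQ : ∀ y, b y ^ Q = b y := fun y => by rw [hb]; exact hYs y.2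
  have hδ : ∀ y i, ℓ (κ y * b i) = if i = y then 1 else 0 := by
    intro y i
    rw [← hκ, Basis.coord_apply, Basis.repr_self, Finsupp.single_apply]
  have hκQ : ∀ y, κ y ^ Q = κ y := by
    intro y
    have h1 : ∀ z, ℓ (κ y ^ Q * z) = ℓ (κ y * z) := by
      intro z
      have h2 : ℓ ∘ₗ LinearMap.mulLeft F (κ y ^ Q) = ℓ ∘ₗ LinearMap.mulLeft F (κ y) := by
        apply b.ext
        intro i
        change ℓ (κ y ^ Q * b i) = ℓ (κ y * b i)
        have h3 : κ y ^ Q * b i = (κ y * b i) ^ Q := by rw [mul_pow, hbQ]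
        rw [h3, D.lpow, hδ]
        split_ifs
        · exact one_pow _
        · exact zero_pow_q D.hF
      exact LinearMap.congr_fun h2 z
    apply D.ext
    intro k
    rw [mul_comm k, h1, mul_comm k]
  have h1 : ∀ z, ∑ y, ℓ (κ y * z) • b y = z := by
    intro z
    conv_rhs => rw [← b.sum_repr z]
    refine Finset.sum_congr rfl fun y _ => ?_
    rw [← hκ, Basis.coord_apply]
  have h2 : ∀ z, ∑ y, ℓ (z * b y) • κ y = z := by
    intro z
    apply D.ext
    intro k
    conv_rhs => rw [← h1 k]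
    rw [Finset.mul_sum, Finset.sum_mul, map_sum, map_sum]
    refine Finset.sum_congr rfl fun y _ => ?_
    rw [mul_smul_comm, map_smul, smul_mul_assoc, map_smul, smul_eq_mul, smul_eq_mul, mul_comm k, mul_comm z]
    ring
  refine ⟨Y, this, b, κ, hbQ, hκQ, h1, h2, fun h0 => ?_⟩
  -- the trace
  have h3 : ∀ x, Algebra.trace F K x = ℓ (x * ∑ y, b y * κ y) := by
    intro x
    rw [Algebra.trace_eq_matrix_trace b, Matrix.trace, Finset.mul_sum, map_sum]
    refine Finset.sum_congr rfl fun y _ => ?_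
    rw [Matrix.diag_apply, Algebra.leftMulMatrix_eq_repr_mul, ← Basis.coord_apply, hκ]
    congr 1
    ring
  apply Algebra.trace_ne_zero F K
  ext x
  rw [h3, h0, mul_zero, map_zero, LinearMap.zero_apply]

/-! ### Operators of rank at most two -/

/-- The operator `x ⟨·, y⟩`. -/
def brk (Q : ℕ) (ℓ : K →ₗ[F] F) (x y z : K) : K := algebraMap F K (ℓ (z * y ^ Q)) * x

theorem brk_def (x y z : K) : brk Q ℓ x y z = algebraMap F K (ℓ (z * y ^ Q)) * x := rfl

theorem brk_add_left (x x' y z : K) : brk Q ℓ (x + x') y z = brk Q ℓ x y z + brk Q ℓ x' y z := by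
  rw [brk_def, brk_def, brk_def, mul_add]

theorem brk_add_right (hK : Fintype.card K = Q ^ 2) (x y y' z : K) :
    brk Q ℓ x (y + y') z = brk Q ℓ x y z + brk Q ℓ x y' z := by
  rw [brk_def, brk_def, brk_def, add_pow_q hK, mul_add, map_add, map_add, add_mul]

theorem brk_smul_left (c : F) (x y z : K) : brk Q ℓ (algebraMap F K c * x) y z = algebraMap F K c * brk Q ℓ x y z := by
  rw [brk_def, brk_def]
  ring

theorem Data.brk_smul_right (D : Data q Q ℓ) (c : F) (x y z : K) :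
    brk Q ℓ x (algebraMap F K c * y) z = algebraMap F K (c ^ q) * brk Q ℓ x y z := by
  rw [brk_def, brk_def, mul_pow, D.alg, mul_left_comm, ell_alg', map_mul]
  ring

variable {M : Subgroup ((Fin m → K) ≃ₗ[F] (Fin m → K))} (D : Data 2 Q ℓ) (h : Hyp Q ℓ M)

/-- The hermitian operator of rank at most two. -/
def eop (Q : ℕ) (ℓ : K →ₗ[F] F) (x y z : K) : K := brk Q ℓ x y z + brk Q ℓ y x z

theorem eop_def (x y z : K) : eop Q ℓ x y z = brk Q ℓ x y z + brk Q ℓ y x z := rfl

include D in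
theorem Data.char_two : ∀ x : K, x + x = 0 := by
  have h1 : CharP F 2 := by
    obtain ⟨p, hp⟩ := CharP.exists F
    have hpp : p.Prime := CharP.char_is_prime F p
    have : Fact p.Prime := ⟨hpp⟩
    obtain ⟨n, -, hn⟩ := FiniteField.card F p
    rw [D.hF] at hn
    have h2 : p ∣ 2 ^ 2 := by
      rw [hn]
      exact dvd_pow_self p (PNat.ne_zero n)
    have h3 : p = 2 := (Nat.prime_dvd_prime_iff_eq hpp Nat.prime_two).1 (hpp.dvd_of_dvd_pow h2)
    rwa [h3] at hp
  have h2 : (2 : F) = 0 := CharP.ofNat_eq_zero F 2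
  intro x
  have h3 : (2 : K) = 0 := by
    have := congrArg (algebraMap F K) h2
    rwa [map_ofNat, map_zero] at this
  rw [← two_mul, h3, zero_mul]

include D in
/-- In `F₄` a fixed element is `0` or `1`. -/
theorem Data.fixed_two {c : F} (hc : c ^ 2 = c) (h0 : c ≠ 0) : c = 1 := by
  have : c * c = c * 1 := by rw [mul_one, ← pow_two, hc]
  exact mul_left_cancel₀ h0 this

include D h in
theorem Hyp.inA_zero : InA Q M (fun _ => (0 : K)) :=
  (h.inA_skew D (κ := 0) (by rw [zero_pow_q D.hK, add_zero])).congr fun _ => zero_mul _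

include D h in
theorem Hyp.inA_id : InA Q M (fun x : K => x) :=
  (h.inA_skew D (κ := 1) (by rw [one_pow]; exact D.char_two 1)).congr fun _ => one_mul _

theorem inA_eop_conj {x y k : K} (hk : k ≠ 0) (hA : InA Q M (eop Q ℓ x y)) : InA Q M (eop Q ℓ (k * x) (k * y)) := by
  refine (hA.conj hk).congr fun z => ?_
  rw [eop_def, eop_def, brk_def, brk_def, brk_def, brk_def, mul_pow, mul_pow]
  have e1 : k ^ Q * z * y ^ Q = z * (k ^ Q * y ^ Q) := by ring
  have e2 : k ^ Q * z * x ^ Q = z * (k ^ Q * x ^ Q) := by ring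
  rw [e1, e2]
  ring

/-- The normalised situation. -/
def Norml (Q : ℕ) (ℓ : K →ₗ[F] F) (M : Subgroup ((Fin m → K) ≃ₗ[F] (Fin m → K))) : Prop :=
  ∃ g ∈ M, ∃ a v : Fin m → K, hermForm m K Q a a = 0 ∧ hermForm m K Q v v = 0 ∧
      (∀ k : K, hermForm m K Q (g (k • v)) a = algebraMap F K (ℓ k)) ∧
      ∀ k : K, hermForm m K Q (g⁻¹ (k • a)) v = algebraMap F K (ℓ k)

include D h in
theorem Hyp.eop_lam (hm : 3 ≤ m) (hN : Norml Q ℓ M) {lam mu : K} (hlam : lam ^ Q = lam) (hll : ℓ lam = 0)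
    (hmu : mu ^ Q = mu) (hlm : ℓ mu = 0) : InA Q M (eop Q ℓ lam mu) := by
  obtain ⟨g, hg, a, v, ha, hv, h1, h2⟩ := hN
  obtain ⟨κ, hκ, hκ0⟩ := D.exists_skew_ne
  have ha0 : a ≠ 0 := by
    rintro rfl
    have h3 := h1 κ
    rw [herm_zero_right D.hK] at h3
    exact hκ0 ((map_eq_zero (algebraMap F K)).1 h3.symm)
  have hneg : ∀ x : K, -x = x := fun x => by rw [neg_eq_iff_add_eq_zero]; exact D.char_two x
  have hκs : κ ^ Q = κ := by
    have : κ ^ Q = -κ := by linear_combination hκ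
    rw [this, hneg]
  have hκ1 : ℓ κ = 1 := D.fixed_two (D.ell_sym hκs) hκ0
  refine (h.inA_of D hm ha0 ha (h.has_key D hg ha hv h1 h2 (by rw [hlam]; exact D.char_two _) hκ
    (by rw [hmu]; exact D.char_two _) hll)).congr fun z => ?_
  rw [hκ1, hlm, eop_def, brk_def, brk_def, hlam, hmu, map_one, mul_comm lam z, mul_comm mu z]
  simp only [mul_zero, zero_mul, map_zero, one_mul, sub_zero]
  ring

include D h in
/-- All `eop x (c x)` for symmetric `c`. -/
theorem Hyp.eop_sym (hr : (finrank F K).Prime) (hr3 : 3 ≤ finrank F K) (hm : 3 ≤ m) (hN : Norml Q ℓ M) {c : K} (hc : c ^ Q = c)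
    (x : K) : InA Q M (eop Q ℓ x (c * x)) := by
  have := D.finDim
  by_cases hx0 : x = 0
  · subst hx0
    refine (h.inA_zero D).congr fun z => ?_
    rw [eop_def, brk_def, brk_def, mul_zero, mul_zero, zero_add, mul_zero]
  suffices h1 : InA Q M (eop Q ℓ 1 c) by
    have := inA_eop_conj hx0 h1
    rwa [mul_one, mul_comm x c] at this
  have hneg : ∀ x : K, -x = x := fun x => by rw [neg_eq_iff_add_eq_zero]; exact D.char_two x
  obtain ⟨ω, hω⟩ := D.exists_omega
  obtain ⟨lam, hlam0, hlam, hll⟩ := D.exists_skew_ker (by omega)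
  have hlQ : lam ^ Q = lam := by
    have : lam ^ Q = -lam := by linear_combination hlam
    rw [this, hneg]
  -- quotients
  have hquot : ∀ μ₁ μ₂ : K, μ₁ ≠ 0 → μ₁ ^ Q = μ₁ → ℓ μ₁ = 0 → μ₂ ^ Q = μ₂ → ℓ μ₂ = 0 →
      InA Q M (eop Q ℓ 1 (μ₁⁻¹ * μ₂)) := by
    intro μ₁ μ₂ h0 h1 h2 h3 h4
    have := inA_eop_conj (inv_ne_zero h0) (h.eop_lam D hm hN h1 h2 h3 h4)
    rwa [inv_mul_cancel₀ h0] at this
  by_cases hlc : ℓ (lam * c) = 0
  · have := hquot lam (lam * c) hlam0 hlQ hll (by rw [mul_pow, hlQ, hc]) hlc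
    rwa [← mul_assoc, inv_mul_cancel₀ hlam0, one_mul] at this
  have hlc1 : ℓ (lam * c) = 1 := D.fixed_two (D.ell_sym (by rw [mul_pow, hlQ, hc])) hlc
  -- a second element of the kernel
  obtain ⟨z, hz, hzl⟩ : ∃ z : K, ℓ z = 0 ∧ z ∉ Submodule.span F {lam} := by
    by_contra hcon
    push Not at hcon
    have h2 : LinearMap.ker ℓ ≤ Submodule.span F {lam} := fun z hz => hcon z (LinearMap.mem_ker.1 hz)
    have h3 := Submodule.finrank_mono h2
    have h4 := finrank_span_le_card (R := F) ({lam} : Set K)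
    simp only [Set.toFinset_singleton, Finset.card_singleton] at h4
    have h5 := LinearMap.finrank_range_add_finrank_ker ℓ
    have h6 : finrank F (LinearMap.range ℓ) ≤ 1 := by
      have := Submodule.finrank_le (LinearMap.range ℓ)
      rwa [finrank_self] at this
    omega
  obtain ⟨lam₂, hl₂Q, hl₂l, hl₂s⟩ : ∃ lam₂ : K, lam₂ ^ Q = lam₂ ∧ ℓ lam₂ = 0 ∧ lam₂ ∉ Submodule.span F {lam} := by
    obtain ⟨a, b, ha, hb, rfl⟩ := D.exists_decomp hω z
    obtain ⟨hla, hlb⟩ := D.ell_decomp hω ha hb hz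
    by_contra hcon
    push Not at hcon
    exact hzl (Submodule.add_mem _ (hcon a ha hla) (Submodule.smul_mem _ _ (hcon b hb hlb)))
  have hl₂0 : lam₂ ≠ 0 := by
    rintro rfl
    exact hl₂s (Submodule.zero_mem _)
  -- an element moved by the quotient
  obtain ⟨y, hyQ, hyl, hy1⟩ : ∃ y : K, y ^ Q = y ∧ ℓ y = 0 ∧ ℓ (lam * lam₂⁻¹ * y) = 1 := by
    by_contra hcon
    push Not at hcon
    have hker0 : LinearMap.ker ℓ ≠ ⊥ := by
      intro h0
      have : lam ∈ LinearMap.ker ℓ := LinearMap.mem_ker.2 hll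
      rw [h0, Submodule.mem_bot] at this
      exact hlam0 this
    have hker1 : LinearMap.ker ℓ ≠ ⊤ := by
      intro h0
      apply D.lne
      rwa [LinearMap.ker_eq_top] at h0
    have hsymm : ∀ y : K, y ^ Q = y → ℓ y = 0 → ℓ (lam * lam₂⁻¹ * y) = 0 := by
      intro y hy hyl
      by_contra h0
      exact hcon y hy hyl (D.fixed_two (D.ell_sym (by rw [mul_pow, mul_pow, inv_pow, hlQ, hl₂Q, hy])) h0)
    obtain ⟨c, hc⟩ := D.stab_eq hr hker0 hker1 (k := lam * lam₂⁻¹) (by
      intro y hy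
      rw [LinearMap.mem_ker] at hy ⊢
      obtain ⟨a, b, ha, hb, rfl⟩ := D.exists_decomp hω y
      obtain ⟨hla, hlb⟩ := D.ell_decomp hω ha hb hy
      rw [mul_add, mul_smul_comm, map_add, map_smul, hsymm a ha hla, hsymm b hb hlb, smul_zero, add_zero])
    apply hl₂s
    rw [Submodule.mem_span_singleton]
    have hc0 : c ≠ 0 := by
      rintro rfl
      rw [map_zero] at hc
      exact mul_ne_zero hlam0 (inv_ne_zero hl₂0) hc
    refine ⟨c⁻¹, ?_⟩
    have h3 : lam = algebraMap F K c * lam₂ := by rw [← hc, mul_assoc, inv_mul_cancel₀ hl₂0, mul_one]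
    rw [h3, ← Algebra.smul_def, smul_smul, inv_mul_cancel₀ hc0, one_smul]
  -- write `c` as a sum
  have hA1 := hquot lam (lam * c + lam * lam₂⁻¹ * y) hlam0 hlQ hll (by
    rw [add_pow_q D.hK, mul_pow, mul_pow, mul_pow, inv_pow, hlQ, hl₂Q, hc, hyQ]) (by
    rw [map_add, hlc1, hy1]
    have h3 := congrArg (fun z : K => z) (D.char_two 1)
    apply (algebraMap F K).injective
    rw [map_add, map_one, map_zero]
    exact D.char_two 1)
  have hA2 := hquot lam₂ y hl₂0 hl₂Q hl₂l hyQ hyl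
  refine (hA1.add hA2).congr fun z => ?_
  have e1 : lam⁻¹ * (lam * c + lam * lam₂⁻¹ * y) = c + lam₂⁻¹ * y := by field_simp
  rw [e1, eop_def, eop_def, eop_def, brk_add_left, brk_add_right D.hK]
  have e2 := D.char_two (brk Q ℓ 1 (lam₂⁻¹ * y) z)
  have e3 := D.char_two (brk Q ℓ (lam₂⁻¹ * y) 1 z)
  linear_combination e2 + e3

end Cfsg.Agent.H930.ExtU
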