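import Cfsg.Agent.H930.ExtUG

/-!
# Overgroups of `SU_m(K)` in the unitary group of the trace form: a transvection over `F`
-/

set_option autoImplicit false
set_option linter.unusedSectionVars false

namespace Cfsg.Agent.H930.ExtU

open Module Cfsg Cfsg.Agent.LieClassical.HermBasic Cfsg.Agent.LieClassical.HermSiegel Cfsg.Agent.H879
open Cfsg.Agent.LieClassical.HermGen

variable {F K : Type*} [Field F] [Fintype F] [Field K] [Fintype K] [Algebra F K] {Q m : ℕ} {ℓ : K →ₗ[F] F}
variable {M : Subgroup ((Fin m → K) ≃ₗ[F] (Fin m → K))} (D : Data 2 Q ℓ) (h : Hyp Q ℓ M)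

theorem eop_comm (x y z : K) : eop Q ℓ x y z = eop Q ℓ y x z := by rw [eop_def, eop_def, add_comm]

theorem eop_add_left (hK : Fintype.card K = Q ^ 2) (x x' y z : K) :
    eop Q ℓ (x + x') y z = eop Q ℓ x y z + eop Q ℓ x' y z := by
  rw [eop_def, eop_def, eop_def, brk_add_left, brk_add_right hK]
  ring

theorem eop_add_right (hK : Fintype.card K = Q ^ 2) (x y y' z : K) :
    eop Q ℓ x (y + y') z = eop Q ℓ x y z + eop Q ℓ x y' z := by
  rw [eop_comm, eop_add_left hK, eop_comm y, eop_comm y']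

include D h in
theorem Hyp.eop_pol (hr : (finrank F K).Prime) (hr3 : 3 ≤ finrank F K) (hm : 3 ≤ m) (hN : Norml Q ℓ M) {c : K}
    (hc : c ^ Q = c) (x y : K) : InA Q M (fun z => eop Q ℓ x (c * y) z + eop Q ℓ y (c * x) z) := by
  refine (((h.eop_sym D hr hr3 hm hN hc (x + y)).sub (h.eop_sym D hr hr3 hm hN hc x)).sub
    (h.eop_sym D hr hr3 hm hN hc y)).congr fun z => ?_
  rw [mul_add, eop_add_left D.hK, eop_add_right D.hK, eop_add_right D.hK]
  ring

include D h in
theorem Hyp.inA_sum {Y : Type*} (s : Finset Y) (A : Y → K → K) (hA : ∀ y, InA Q M (A y)) :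
    InA Q M (fun z => ∑ y ∈ s, A y z) := by
  classical
  induction s using Finset.induction_on with
  | empty => exact (h.inA_zero D).congr fun z => by rw [Finset.sum_empty]
  | insert y s hy ih => exact ((hA y).add ih).congr fun z => by rw [Finset.sum_insert hy]

include D in
theorem Data.exists_eps : ∃ ε : F, ε ^ 2 + ε = 1 := by
  obtain ⟨ω, hω⟩ := D.exists_omega
  have h1 : (ω ^ 2) ^ 2 = ω := pow_q_pow_q D.hF ω
  have h2 : (ω ^ 2 + ω) ^ 2 = ω ^ 2 + ω := by rw [add_pow_q D.hF, h1, add_comm]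
  refine ⟨ω, D.fixed_two h2 fun h0 => hω ?_⟩
  have h3 : ω + ω = 0 := by
    apply (algebraMap F K).injective
    rw [map_add, map_zero]
    exact D.char_two _
  linear_combination h0 - h3

include D h in
/-- The relation `G(cd, 1) + G(d, c)`. -/
theorem Hyp.gop_rel (hr : (finrank F K).Prime) (hr3 : 3 ≤ finrank F K) (hm : 3 ≤ m) (hN : Norml Q ℓ M) (ε : F) {c : K}
    (hc : c ^ Q = c) (d : K) :
    InA Q M (fun z => eop Q ℓ (algebraMap F K ε * (c * d)) 1 z + eop Q ℓ (algebraMap F K ε * d) c z) := by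
  refine (h.eop_pol D hr hr3 hm hN hc 1 (algebraMap F K ε * d)).congr fun z => ?_
  rw [mul_one, eop_comm 1, mul_left_comm]

include D in
theorem Data.gop_eq (ε : F) (x y z : K) : eop Q ℓ (algebraMap F K ε * x) y z =
    algebraMap F K ε * brk Q ℓ x y z + algebraMap F K (ε ^ 2) * brk Q ℓ y x z := by
  rw [eop_def, brk_smul_left, D.brk_smul_right]

include D h in
/-- `q = 2`: an operator of rank one. -/
theorem Hyp.exists_brk (hr : (finrank F K).Prime) (hr3 : 3 ≤ finrank F K) (hm : 3 ≤ m) (hN : Norml Q ℓ M) :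
    ∃ u : K, u ≠ 0 ∧ u ^ Q = u ∧ InA Q M (brk Q ℓ u u) := by
  obtain ⟨ε, hε⟩ := D.exists_eps
  have hε' : algebraMap F K (ε ^ 2) + algebraMap F K ε = 1 := by rw [← map_add, hε, map_one]
  obtain ⟨Y, _, b, κ, hb, hκ, h1, h2, ht0⟩ := D.exists_dual_basis
  obtain ⟨t, ht⟩ : ∃ t, t = ∑ y, b y * κ y := ⟨_, rfl⟩
  rw [← ht] at ht0
  have htQ : t ^ Q = t := by
    rw [ht, sum_pow_q D.hK]
    exact Finset.sum_congr rfl fun y _ => by rw [mul_pow, hb, hκ]
  -- the sum of the relations
  have hsum := h.inA_sum D Finset.univ _ (fun y : Y => h.gop_rel D hr hr3 hm hN ε (hb y) (κ y))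
  have hA : InA Q M (eop Q ℓ (algebraMap F K ε * t) 1) := by
    refine (hsum.sub (h.inA_id D)).congr fun z => ?_
    rw [Finset.sum_add_distrib]
    have e1 : ∑ y, eop Q ℓ (algebraMap F K ε * (b y * κ y)) 1 z = eop Q ℓ (algebraMap F K ε * t) 1 z := by
      rw [D.gop_eq, ht]
      have e2 : ∀ y, eop Q ℓ (algebraMap F K ε * (b y * κ y)) 1 z = algebraMap F K ε * brk Q ℓ (b y * κ y) 1 z +
          algebraMap F K (ε ^ 2) * brk Q ℓ 1 (b y * κ y) z := fun y => D.gop_eq _ _ _ _
      rw [Finset.sum_congr rfl fun y _ => e2 y, Finset.sum_add_distrib, ← Finset.mul_sum, ← Finset.mul_sum]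
      congr 2
      · simp only [brk_def]
        rw [Finset.mul_sum]
      · simp only [brk_def]
        rw [← Finset.sum_mul, ← map_sum, ← map_sum, sum_pow_q D.hK, Finset.mul_sum]
    have e3 : ∑ y, eop Q ℓ (algebraMap F K ε * κ y) (b y) z = z := by
      rw [Finset.sum_congr rfl fun y _ => D.gop_eq ε (κ y) (b y) z, Finset.sum_add_distrib, ← Finset.mul_sum,
        ← Finset.mul_sum]
      have e4 : ∑ y, brk Q ℓ (κ y) (b y) z = z := by
        conv_rhs => rw [← h2 z]
        refine Finset.sum_congr rfl fun y _ => ?_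
        rw [brk_def, hb, Algebra.smul_def]
      have e5 : ∑ y, brk Q ℓ (b y) (κ y) z = z := by
        conv_rhs => rw [← h1 z]
        refine Finset.sum_congr rfl fun y _ => ?_
        rw [brk_def, hκ, Algebra.smul_def, mul_comm z]
      rw [e4, e5]
      linear_combination z * hε'
    rw [e1, e3, add_sub_cancel_right]
  -- the square root
  have h2K : CharP K 2 := by
    have h3 : (2 : K) = 0 := by
      have := D.char_two 1
      rw [← one_add_one_eq_two]; exact this
    exact CharTwo.of_one_ne_zero_of_two_eq_zero one_ne_zero h3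
  obtain ⟨u, hu⟩ := FiniteField.isSquare_of_char_two (F := K) (ringChar.eq K 2) t
  have hu0 : u ≠ 0 := by
    rintro rfl
    rw [mul_zero] at hu
    exact ht0 hu
  have huQ : u ^ Q = u := by
    have h3 : (u ^ Q - u) * (u ^ Q - u) = 0 := by
      have h4 : u ^ Q * u ^ Q = t := by rw [← mul_pow, ← hu, htQ]
      have h5 := D.char_two (u ^ Q * u)
      linear_combination h4 + hu - h5 + D.char_two (u * u)
    rcases mul_eq_zero.1 h3 with h4 | h4 <;> exact sub_eq_zero.1 h4
  refine ⟨u, hu0, huQ, ?_⟩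
  have hB := h.gop_rel D hr hr3 hm hN ε huQ u
  rw [← hu] at hB
  refine (hB.sub hA).congr fun z => ?_
  rw [D.gop_eq ε u u]
  linear_combination (brk Q ℓ u u z) * hε'

include D h in
/-- `q = 2`: some transvection over `F`. -/
theorem Hyp.exists_e_of_two (hr : (finrank F K).Prime) (hr3 : 3 ≤ finrank F K) (hm : 3 ≤ m) (hN : Norml Q ℓ M) :
    ∃ e : F, e ≠ 0 ∧ e + e ^ 2 = 0 ∧ ∀ u, hermForm m K Q u u = 0 → Has M (FT Q ℓ u e) := by
  obtain ⟨u, hu0, huQ, hA⟩ := h.exists_brk D hr hr3 hm hN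
  have h2 : (1 : F) + 1 = 0 := by
    apply (algebraMap F K).injective
    rw [map_add, map_zero, map_one]
    exact D.char_two 1
  refine ⟨1, one_ne_zero, by rw [one_pow]; exact h2, fun x hx => ?_⟩
  refine h.ft_of_inA D hu0 (by rw [huQ]; exact D.char_two u) (hA.congr fun z => ?_) hx
  rw [brk_def, huQ, one_mul, mul_comm u z]
  exact (neg_eq_of_add_eq_zero_left (D.char_two _)).symm

end Cfsg.Agent.H930.ExtU
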