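import Cfsg.Agent.H930.GUSubB

/-!
# The unitary subfield subgroups of `SU_n(q)`: all parameters
-/

set_option autoImplicit false
set_option linter.unusedSectionVars false
set_option linter.unusedSimpArgs false

namespace Cfsg.Agent.H930.GUSub

open Cfsg Cfsg.Geo Cfsg.Agent.H918 Cfsg.Agent.LieClassical.HermBasic Cfsg.Agent.LieClassical.HermSiegel
open Cfsg.Agent.LieClassical.HermGen Cfsg.Agent.H930 Cfsg.Agent.H873.Sub
open scoped Matrix MatrixGroups

/-- Two elements of norm `-1`. -/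
theorem exists_two_norm {K : Type*} [Field K] [Fintype K] {q : ℕ} (hK : Fintype.card K = q ^ 2) :
    ∃ a a' : K, a ≠ a' ∧ a * a ^ q = -1 ∧ a' * a' ^ q = -1 := by
  have h1 := card_norm_eq hK (c := (-1 : K)) (by rw [neg_pow_q hK, one_pow]) (neg_ne_zero.2 one_ne_zero)
  have h2 : 1 < Nat.card {x : K // x * x ^ q = -1} := by
    rw [h1]
    have := two_le hK
    omega
  rw [Finite.one_lt_card_iff_nontrivial] at h2
  obtain ⟨a, a', h⟩ := h2
  exact ⟨a, a', fun h' => h (Subtype.ext h'), a.2, a'.2⟩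

variable {F : Type*} [Field F] [Fintype F] {n q : ℕ} {F₀ : Subfield F} [Fintype F₀] {q₀ : ℕ}
variable (S : Setup F₀ q q₀)
variable {M : Subgroup (GL (Fin n) F)} (hM : subfieldSubgroup F₀ (1 : GL (Fin n) F) ⊓ SUg n F q ≤ M)

include S in
/-- Some rational isotropic vector is not orthogonal to a given vector. -/
theorem exists_rat_ne (hn : 2 ≤ n) {v : Fin n → F} (hv : v ≠ 0) :
    ∃ u : Fin n → F₀, u ≠ 0 ∧ hermForm n F₀ q₀ u u = 0 ∧ hermForm n F q v (cv F₀ u) ≠ 0 := by
  obtain ⟨j, hj⟩ : ∃ j, v j ≠ 0 := by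
    by_contra hcon
    push Not at hcon
    exact hv (funext hcon)
  obtain ⟨i, hij⟩ : ∃ i, i ≠ j := by
    have : Nontrivial (Fin n) := Fin.nontrivial_iff_two_le.2 hn
    exact exists_ne j
  obtain ⟨a, a', haa, ha, ha'⟩ := exists_two_norm S.hF₀
  have key : ∀ b : F₀, b * b ^ q₀ = -1 → (Pi.single i 1 + b • Pi.single j 1 : Fin n → F₀) ≠ 0 ∧
      hermForm n F₀ q₀ (Pi.single i 1 + b • Pi.single j 1) (Pi.single i 1 + b • Pi.single j 1) = 0 ∧
      hermForm n F q v (cv F₀ (Pi.single i 1 + b • Pi.single j 1)) = v i + (b : F) ^ q * v j := by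
    intro b hb
    refine ⟨fun h0 => ?_, ?_, ?_⟩
    · have := congrFun h0 i
      simp [hij] at this
    · simp only [herm_add_left, herm_add_right S.hF₀, herm_smul_left, herm_smul_right,
        herm_single_right S.hF₀, Pi.single_eq_same, one_pow]
      simp [hij, hij.symm]
      linear_combination hb
    · rw [cv_add, cv_smul, cv_single, cv_single, herm_add_right S.hF, herm_smul_right,
        herm_single_right S.hF, herm_single_right S.hF]
      simp
  by_cases h1 : v i + (a : F) ^ q * v j = 0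
  · refine ⟨_, (key a' ha').1, (key a' ha').2.1, ?_⟩
    rw [(key a' ha').2.2]
    intro h2
    apply haa
    have h3 : ((a : F) ^ q - (a' : F) ^ q) * v j = 0 := by linear_combination h1 - h2
    rcases mul_eq_zero.1 h3 with h4 | h4
    · rw [sub_eq_zero, pow_q_inj S.hF] at h4
      exact_mod_cast h4
    · exact absurd h4 hj
  · exact ⟨_, (key a ha).1, (key a ha).2.1, by rw [(key a ha).2.2]; exact h1⟩

include S hM

theorem AA_all (hn : 4 ≤ n) (hC : ∀ c, CC F₀ n q q₀ M c) {d : F} (hd : d + d ^ q = 0) : AA F₀ n q q₀ M d := by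
  obtain ⟨t, ht⟩ := exists_trace_eq S.hF (c := 1) (one_pow _)
  have := (hC (d * t)).toAA S hM hn 1
  convert this using 1
  have : d ^ q = -d := by linear_combination hd
  rw [OneMemClass.coe_one, mul_one, mul_pow, this]
  linear_combination -d * ht

/-- The full unipotent radical of a rational point. -/
theorem full_radical (hn : 4 ≤ n) (hC : ∀ c, CC F₀ n q q₀ M c) {p : Fin n → F₀} {i0 i1 : Fin n} (h01 : i0 ≠ i1)
    {a : F₀} (hp : p = Pi.single i0 1 + a • Pi.single i1 1) (hpp : hermForm n F₀ q₀ p p = 0)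
    {w : Fin n → F} (hw : hermForm n F q w (cv F₀ p) = 0) : ∃ μ, HasS q M (cv F₀ p) w μ := by
  have hp0 : p ≠ 0 := by
    intro h0
    rw [h0] at hp
    have := congrFun hp i0
    simp [h01] at this
  -- basis vectors
  have hbas : ∀ i, i ≠ i0 → i ≠ i1 → ∀ c : F, ∃ μ, HasS q M (cv F₀ p) (c • Pi.single i 1) μ := by
    intro i hi0 hi1 c
    obtain ⟨j, hj⟩ : ∃ j : Fin n, j ∉ ({i, i0, i1} : Finset (Fin n)) := by
      by_contra hcon
      push Not at hcon
      have h1 : (Finset.univ : Finset (Fin n)) ⊆ {i, i0, i1} := fun j _ => hcon j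
      have h2 := Finset.card_le_card h1
      have h3 := Finset.card_le_three (a := i) (b := i0) (c := i1)
      rw [Finset.card_univ, Fintype.card_fin] at h2
      omega
    simp only [Finset.mem_insert, Finset.mem_singleton, not_or] at hj
    obtain ⟨hji', hj0', hj1'⟩ := hj
    have hji : j ≠ i := hji'
    have hj0 : j ≠ i0 := hj0'
    have hj1 : j ≠ i1 := hj1'
    obtain ⟨x, x', hxx, hx, hx'⟩ := exists_two_norm S.hF₀
    have key : ∀ b : F₀, b * b ^ q₀ = -1 → 
        hermForm n F₀ q₀ (Pi.single j 1 + b • Pi.single i 1) (Pi.single j 1 + b • Pi.single i 1) = 0 ∧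
        hermForm n F₀ q₀ (Pi.single j 1 + b • Pi.single i 1) p = 0 := by
      intro b hb
      refine ⟨?_, ?_⟩
      · simp only [herm_add_left, herm_add_right S.hF₀, herm_smul_left, herm_smul_right,
          herm_single_right S.hF₀, Pi.single_eq_same, one_pow]
        simp [hji, hji.symm]
        linear_combination hb
      · rw [hp]
        simp only [herm_add_left, herm_add_right S.hF₀, herm_smul_left, herm_smul_right,
          herm_single_right S.hF₀, one_pow]
        simp [hj0.symm, hj1.symm, hi0.symm, hi1.symm]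
    have hne : (x : F) - x' ≠ 0 := by
      intro h0
      apply hxx
      rw [sub_eq_zero] at h0
      exact_mod_cast h0
    obtain ⟨μ, hμ⟩ := hC (c * ((x : F) - x')⁻¹) p _ hp0 hpp (key x hx).1 (key x hx).2
    obtain ⟨μ', hμ'⟩ := hC (-(c * ((x : F) - x')⁻¹)) p _ hp0 hpp (key x' hx').1 (key x' hx').2
    refine ⟨_, (hμ.mul S.hF hμ').congr ?_ rfl⟩
    rw [cv_add, cv_add, cv_smul, cv_smul, cv_single, cv_single]
    ext k
    simp only [Pi.add_apply, Pi.smul_apply, smul_eq_mul]
    field_simp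
    ring
  have hsum : ∀ s : Finset (Fin n), i0 ∉ s → i1 ∉ s →
      ∃ μ, HasS q M (cv F₀ p) (∑ i ∈ s, w i • (Pi.single i 1 : Fin n → F)) μ := by
    intro s
    induction s using Finset.induction_on with
    | empty =>
      intro _ _
      refine ⟨0, ?_⟩
      rw [Finset.sum_empty]
      exact AA_all S hM hn hC (by rw [zero_pow_q S.hF, add_zero]) p hp0 hpp
    | insert i s his ih =>
      intro h0 h1
      rw [Finset.mem_insert, not_or] at h0 h1
      obtain ⟨μ, hμ⟩ := ih h0.2 h1.2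
      obtain ⟨μ', hμ'⟩ := hbas i (Ne.symm h0.1) (Ne.symm h1.1) (w i)
      rw [Finset.sum_insert his]
      exact ⟨_, hμ'.mul S.hF hμ⟩
  obtain ⟨μ, hμ⟩ := hsum (Finset.univ \ {i0, i1}) (by simp) (by simp)
  refine ⟨_, (hμ.unshift S.hF (w i0)).congr ?_ rfl⟩
  have haa : (a : F) * (a : F) ^ q = -1 := by
    rw [hp] at hpp
    simp only [herm_add_left, herm_add_right S.hF₀, herm_smul_left, herm_smul_right,
          herm_single_right S.hF₀, Pi.single_eq_same, one_pow] at hpp
    simp [h01, h01.symm] at hpp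
    have h1 : a * a ^ q₀ = -1 := by linear_combination hpp
    have h2 := congrArg (fun z : F₀ => (z : F)) h1
    push_cast at h2
    rw [S.pow_eq]
    push_cast
    exact h2
  have hw' : w i0 + (a : F) ^ q * w i1 = 0 := by
    rw [hp, cv_add, cv_smul, cv_single, cv_single, herm_add_right S.hF, herm_smul_right,
      herm_single_right S.hF, herm_single_right S.hF] at hw
    simpa using hw
  have hw1 : w i1 = w i0 * a := by linear_combination (-(a : F)) * hw' + w i1 * haa
  rw [hp, cv_add, cv_smul, cv_single, cv_single]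
  ext k
  rw [Pi.add_apply, Finset.sum_apply]
  simp only [Pi.smul_apply, Pi.add_apply, smul_eq_mul, Pi.single_apply, mul_ite, mul_one, mul_zero]
  rw [Finset.sum_ite_eq]
  by_cases hk0 : k = i0
  · subst hk0
    simp [h01]
  · by_cases hk1 : k = i1
    · subst hk1
      simp [hk0, hw1]
    · simp [hk0, hk1]

/-- All parameters: `M` contains `SU_n(q)`. -/
theorem SUg_le_of_all (hn : 4 ≤ n) (hC : ∀ c, CC F₀ n q q₀ M c) : SUg n F q ≤ M := by
  apply SUg_le_of_TT S.hF (by omega)
  intro v hv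
  by_cases hv0 : v = 0
  · subst hv0
    exact ⟨hv, fun c _ => ⟨1, M.one_mem, fun x => by simp⟩⟩
  have h01 : (⟨0, by omega⟩ : Fin n) ≠ ⟨1, by omega⟩ := by simp
  obtain ⟨p, p', a, b, ha, hp, hp', hpp, hpp', hppp⟩ := exists_hyp_pair (q := q₀) (n := n) S.hF₀ h01
  have hp0 : p ≠ 0 := by
    rintro rfl
    rw [herm_zero_left] at hppp
    exact zero_ne_one hppp
  have hp0' : p' ≠ 0 := by
    rintro rfl
    rw [herm_zero_right S.hF₀] at hppp
    exact zero_ne_one hppp
  obtain ⟨u, hu0, huu, hvu⟩ := exists_rat_ne S (by omega) hv0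
  obtain ⟨t, ht, htu, htp, -⟩ := exists_move S hM (by omega) hp0 hu0 hpp huu
  -- pull back
  set v₁ := ((t⁻¹ : GL (Fin n) F) : Matrix (Fin n) (Fin n) F) *ᵥ v with hv₁
  have htv : (t : Matrix (Fin n) (Fin n) F) *ᵥ v₁ = v := by rw [hv₁, mulVec_inv]
  have hv₁v₁ : hermForm n F q v₁ v₁ = 0 := by rw [← htu, htv, hv]
  have hv₁p : hermForm n F q v₁ (cv F₀ p) ≠ 0 := by rw [← htu, htv, htp]; exact hvu
  suffices h : TT q M v₁ by
    have := h.conj ht htu
    rwa [htv] at this
  clear_value v₁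
  suffices h : ∀ v₂, hermForm n F q v₂ v₂ = 0 → hermForm n F q v₂ (cv F₀ p) = 1 → TT q M v₂ by
    apply TT.of_smul S.hF (inv_ne_zero hv₁p)
    apply h
    · rw [herm_smul_left, herm_smul_right, hv₁v₁, mul_zero, mul_zero]
    · rw [herm_smul_left, inv_mul_cancel₀ hv₁p]
  intro v₂ hv₂ hv₂p
  have hP' : hermForm n F q (cv F₀ p') (cv F₀ p') = 0 := herm_cv_eq_zero S hpp'
  have hP : hermForm n F q (cv F₀ p) (cv F₀ p) = 0 := herm_cv_eq_zero S hpp
  have hPP' : hermForm n F q (cv F₀ p) (cv F₀ p') = 1 := by rw [herm_cv S, hppp]; rfl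
  have hP'P : hermForm n F q (cv F₀ p') (cv F₀ p) = 1 := by rw [herm_swap S.hF (cv F₀ p) (cv F₀ p'), hPP', one_pow]
  have hw : hermForm n F q (v₂ - cv F₀ p') (cv F₀ p) = 0 := by
    rw [herm_sub_left, hv₂p, hP'P, sub_self]
  obtain ⟨μ, hμ⟩ := full_radical S hM hn hC h01 hp hpp hw
  -- correct the parameter
  have htr : (hermForm n F q (cv F₀ p') v₂) + (hermForm n F q (cv F₀ p') v₂) ^ q =
      -hermForm n F q (v₂ - cv F₀ p') (v₂ - cv F₀ p') := by
    rw [← herm_swap S.hF, herm_sub_left, herm_sub_right S.hF, herm_sub_right S.hF, hv₂, hP']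
    ring
  have hμ' := hμ.1.tr
  have hd : AA F₀ n q q₀ M (hermForm n F q (cv F₀ p') v₂ - μ) := by
    apply AA_all S hM hn hC
    rw [sub_pow_q S.hF]
    linear_combination htr - hμ'
  have h1 := hμ.add_tv S.hF (hd p hp0 hpp)
  obtain ⟨h0, g, hg, hgx⟩ := h1.congr rfl (show μ + (hermForm n F q (cv F₀ p') v₂ - μ) = hermForm n F q (cv F₀ p') v₂ by ring)
  have hgu : ∀ x y, hermForm n F q ((g : Matrix (Fin n) (Fin n) F) *ᵥ x) ((g : Matrix (Fin n) (Fin n) F) *ᵥ y) =
      hermForm n F q x y := by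
    have hge : g = suHom n F q (siegel S.hF _ _ _ h0) := by
      apply gl_ext
      intro y
      rw [hgx, coe_suHom]
      exact (siegelMat_mulVec _ _ _ y).symm
    rw [hge]
    exact (suHom_mem (siegel S.hF _ _ _ h0)).1
  have hgp : (g : Matrix (Fin n) (Fin n) F) *ᵥ cv F₀ p' = v₂ := by
    rw [hgx, hP'P, herm_sub_right S.hF, hP']
    ext k
    simp
  have h2 : TT q M (cv F₀ p') := by
    rw [TT_iff_hasS S.hF]
    exact ⟨hP', fun d hd => AA_all S hM hn hC hd p' hp0' hpp'⟩
  have h3 := h2.conj hg hgu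
  rwa [hgp] at h3

end Cfsg.Agent.H930.GUSub
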