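import Cfsg.Agent.H930.ExtUH
import Cfsg.Agent.H930.GUSubC

/-!
# Overgroups of `SU_m(K)` in the unitary group of the trace form: the semilinear case
-/

set_option autoImplicit false
set_option linter.unusedSectionVars false
set_option linter.unusedSimpArgs false

namespace Cfsg.Agent.H930.ExtU

open Module Cfsg Cfsg.Agent.LieClassical.HermBasic Cfsg.Agent.LieClassical.HermSiegel Cfsg.Agent.H879
open Cfsg.Agent.LieClassical.HermGen

section Sep

variable {K : Type*} [Field K] [Fintype K] {Q m : ℕ} (hK : Fintype.card K = Q ^ 2)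
include hK

/-- A nonisotropic vector orthogonal to two orthogonal nonisotropic ones. -/
theorem exists_nonisotropic_perp (hm : 3 ≤ m) {w z : Fin m → K} (hw : hermForm m K Q w w ≠ 0)
    (hz : hermForm m K Q z z ≠ 0) (hwz : hermForm m K Q z w = 0) :
    ∃ b, hermForm m K Q b w = 0 ∧ hermForm m K Q b z = 0 ∧ hermForm m K Q b b ≠ 0 := by
  obtain ⟨x, -, hx0, hxw, hxz⟩ := exists_ne_zero_perp (q := Q) hK hm le_rfl w z
  have hwz' := herm_eq_zero_swap hK hwz
  by_contra hcon
  push Not at hcon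
  have hxx := hcon x hxw hxz
  obtain ⟨y, hy⟩ := exists_herm_ne_zero hK hx0
  obtain ⟨y', hy'⟩ : ∃ y', y' = y - (hermForm m K Q y w / hermForm m K Q w w) • w -
    (hermForm m K Q y z / hermForm m K Q z z) • z := ⟨_, rfl⟩
  have hy'w : hermForm m K Q y' w = 0 := by
    rw [hy', herm_sub_left, herm_sub_left, herm_smul_left, herm_smul_left, hwz]
    field_simp
    ring
  have hy'z : hermForm m K Q y' z = 0 := by
    rw [hy', herm_sub_left, herm_sub_left, herm_smul_left, herm_smul_left, hwz']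
    field_simp
    ring
  have hxy' : hermForm m K Q x y' = hermForm m K Q x y := by
    rw [hy', herm_sub_right hK, herm_sub_right hK, herm_smul_right, herm_smul_right, hxw, hxz]
    ring
  apply hy
  rw [← hxy']
  apply eq_zero_of_forall_trace hK
  intro c
  have h1 := hcon (c • x + y') (by rw [herm_add_left, herm_smul_left, hxw, hy'w, mul_zero, add_zero])
    (by rw [herm_add_left, herm_smul_left, hxz, hy'z, mul_zero, add_zero])
  have h2 := hcon y' hy'w hy'z
  simp only [herm_add_left, herm_add_right hK, herm_smul_left, herm_smul_right, hxx, h2] at h1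
  rw [mul_pow, ← herm_swap hK]
  linear_combination h1

/-- Isotropic vectors orthogonal to a nonisotropic vector separate. -/
theorem exists_iso_sep (hm : 3 ≤ m) {w w' : Fin m → K} (hw : hermForm m K Q w w ≠ 0) (hind : ∀ c : K, w' ≠ c • w) :
    ∃ a, hermForm m K Q a a = 0 ∧ hermForm m K Q a w = 0 ∧ hermForm m K Q a w' ≠ 0 := by
  obtain ⟨z, hz⟩ : ∃ z, z = w' - (hermForm m K Q w' w / hermForm m K Q w w) • w := ⟨_, rfl⟩
  have hz0 : ∀ c : K, z ≠ c • w := by
    intro c hc
    apply hind (c + hermForm m K Q w' w / hermForm m K Q w w)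
    rw [add_smul, ← hc, hz, sub_add_cancel]
  have hzw : hermForm m K Q z w = 0 := by
    rw [hz, herm_sub_left, herm_smul_left]
    field_simp
    ring
  have key : ∀ a, hermForm m K Q a w = 0 → hermForm m K Q a w' = hermForm m K Q a z := by
    intro a ha
    rw [hz, herm_sub_right hK, herm_smul_right, ha, mul_zero, sub_zero]
  by_cases hzz : hermForm m K Q z z = 0
  · obtain ⟨a, ha, haw, haz⟩ := GUSub.exists_partner hK hzz hzw hz0
    exact ⟨a, ha, haw, by rw [key a haw, haz]; exact one_ne_zero⟩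
  · obtain ⟨b, hbw, hbz, hbb⟩ := exists_nonisotropic_perp hK hm hw hzz hzw
    obtain ⟨c, hc⟩ := exists_norm_eq hK (c := -hermForm m K Q z z / hermForm m K Q b b) (by
      rw [div_pow, neg_pow_q hK, herm_self_pow hK, herm_self_pow hK])
    have hzb := herm_eq_zero_swap hK hbz
    refine ⟨z + c • b, ?_, ?_, ?_⟩
    · rw [herm_add_left, herm_add_right hK, herm_add_right hK, herm_smul_left, herm_smul_left, herm_smul_right,
        herm_smul_right, hzb, hbz]
      have : c * c ^ Q * hermForm m K Q b b = -hermForm m K Q z z := by rw [hc]; field_simp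
      linear_combination this
    · rw [herm_add_left, herm_smul_left, hzw, hbw, mul_zero, add_zero]
    · rw [key _ (by rw [herm_add_left, herm_smul_left, hzw, hbw, mul_zero, add_zero]), herm_add_left, herm_smul_left,
        hbz, mul_zero, add_zero]
      exact hzz

end Sep

variable {F K : Type*} [Field F] [Fintype F] [Field K] [Fintype K] [Algebra F K] {q Q m : ℕ} {ℓ : K →ₗ[F] F}
variable {M : Subgroup ((Fin m → K) ≃ₗ[F] (Fin m → K))} (D : Data q Q ℓ) (h : Hyp Q ℓ M)

/-- All `theta` maps are zero or injective. -/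
def AllReg (Q : ℕ) (M : Subgroup ((Fin m → K) ≃ₗ[F] (Fin m → K))) : Prop :=
  ∀ g ∈ M, ∀ a v : Fin m → K, hermForm m K Q a a = 0 → hermForm m K Q v v = 0 → ∀ k₀ : K, k₀ ≠ 0 →
    hermForm m K Q (g (k₀ • v)) a = 0 → ∀ k : K, hermForm m K Q (g (k • v)) a = 0

include D h in
theorem Hyp.line (hm : 3 ≤ m) (hA : AllReg Q M) {g : (Fin m → K) ≃ₗ[F] (Fin m → K)} (hg : g ∈ M) {v : Fin m → K}
    (hv0 : v ≠ 0) (hv : hermForm m K Q v v = 0) :
    hermForm m K Q (g v) (g v) = 0 ∧ ∃ σ : K → K, ∀ k : K, g (k • v) = σ k • g v := by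
  have hiso : hermForm m K Q (g v) (g v) = 0 := by
    by_contra hgv
    -- everything is a multiple
    have h1 : ∀ k : K, ∃ c : K, g (k • v) = c • g v := by
      intro k
      by_contra hcon
      push Not at hcon
      obtain ⟨a, ha, hav, hak⟩ := exists_iso_sep D.hK hm hgv hcon
      apply hak
      apply herm_eq_zero_swap D.hK
      apply hA g hg a v ha hv 1 one_ne_zero
      rw [one_smul]
      exact herm_eq_zero_swap D.hK hav
    choose σ hσ using h1
    have hgv0 : g v ≠ 0 := by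
      intro h0
      rw [h0, herm_zero_left] at hgv
      exact hgv rfl
    have hinj : Function.Injective σ := by
      intro x y hxy
      have h2 : g (x • v) = g (y • v) := by rw [hσ, hσ, hxy]
      have h3 : (x - y) • v = 0 := by rw [sub_smul, g.injective h2, sub_self]
      rcases smul_eq_zero.1 h3 with h4 | h4
      · exact sub_eq_zero.1 h4
      · exact absurd h4 hv0
    have hsurj : Function.Surjective σ := Finite.surjective_of_injective hinj
    apply hgv
    apply D.eq_zero
    intro k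
    obtain ⟨l, hl⟩ := hsurj k
    have h2 := h.pres g hg (l • v) v
    rw [hσ, hl, herm_smul_left, herm_smul_left, hv, mul_zero, map_zero] at h2
    exact h2
  refine ⟨hiso, ?_⟩
  have h1 : ∀ k : K, ∃ c : K, g (k • v) = c • g v := by
    intro k
    by_cases hk0 : k = 0
    · exact ⟨0, by rw [hk0, zero_smul, map_zero, zero_smul]⟩
    by_contra hcon
    push Not at hcon
    -- `g (k v)` is isotropic too
    have h2 : hermForm m K Q (g (k • v)) (g v) = 0 :=
      hA g hg (g v) v hiso hv 1 one_ne_zero (by rw [one_smul]; exact hiso) k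
    by_cases h3 : hermForm m K Q (g (k • v)) (g (k • v)) = 0
    · obtain ⟨a, ha, hav, hak⟩ := GUSub.exists_partner D.hK h3 h2 hcon
      have h4 := hA g hg a v ha hv 1 one_ne_zero (by rw [one_smul]; exact herm_eq_zero_swap D.hK hav) k
      rw [herm_swap D.hK a (g (k • v)), hak, one_pow] at h4
      exact one_ne_zero h4
    · have hcon' : ∀ c : K, g v ≠ c • g (k • v) := by
        intro c hc
        have hc0 : c ≠ 0 := by
          rintro rfl
          rw [zero_smul] at hc
          apply hv0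
          apply g.injective
          rw [hc, map_zero]
        apply hcon c⁻¹
        rw [hc, smul_smul, inv_mul_cancel₀ hc0, one_smul]
      obtain ⟨a, ha, hav, hak⟩ := exists_iso_sep D.hK hm h3 hcon'
      apply hak
      apply herm_eq_zero_swap D.hK
      have h4 := hA g hg a v ha hv k hk0 (herm_eq_zero_swap D.hK hav) 1
      rwa [one_smul] at h4
  choose σ hσ using h1
  exact ⟨σ, hσ⟩

/-- The semilinear alternative, the multipliers. -/
structure Mult (g : (Fin m → K) ≃ₗ[F] (Fin m → K)) (Q : ℕ) (σ : (Fin m → K) → K → K) : Prop where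
  eq : ∀ v : Fin m → K, v ≠ 0 → hermForm m K Q v v = 0 → ∀ k : K, g (k • v) = σ v k • g v

namespace Mult

variable {g : (Fin m → K) ≃ₗ[F] (Fin m → K)} {σ : (Fin m → K) → K → K} (S : Mult g Q σ)

theorem g_ne {v : Fin m → K} (hv : v ≠ 0) : g v ≠ 0 := by
  intro h0
  apply hv
  apply g.injective
  rw [h0, map_zero]

theorem smul_inj {v : Fin m → K} (hv : v ≠ 0) {a b : K} (h : a • v = b • v) : a = b := by
  have h3 : (a - b) • v = 0 := by rw [sub_smul, h, sub_self]
  rcases smul_eq_zero.1 h3 with h4 | h4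
  · exact sub_eq_zero.1 h4
  · exact absurd h4 hv

include S

theorem add {v : Fin m → K} (hv0 : v ≠ 0) (hv : hermForm m K Q v v = 0) (k l : K) : σ v (k + l) = σ v k + σ v l := by
  apply smul_inj (g_ne (g := g) hv0)
  rw [add_smul, ← S.eq v hv0 hv, ← S.eq v hv0 hv, ← S.eq v hv0 hv, add_smul, map_add]

theorem smul {v : Fin m → K} (hv0 : v ≠ 0) (hv : hermForm m K Q v v = 0) (c : F) (k : K) : σ v (c • k) = c • σ v k := by
  apply smul_inj (g_ne (g := g) hv0)
  rw [smul_assoc, ← S.eq v hv0 hv, ← S.eq v hv0 hv, smul_assoc, map_smul]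

theorem one {v : Fin m → K} (hv0 : v ≠ 0) (hv : hermForm m K Q v v = 0) : σ v 1 = 1 := by
  apply smul_inj (g_ne (g := g) hv0)
  rw [← S.eq v hv0 hv, one_smul, one_smul]

theorem surj {v : Fin m → K} (hv0 : v ≠ 0) (hv : hermForm m K Q v v = 0) : Function.Surjective (σ v) := by
  apply Finite.surjective_of_injective
  intro x y hxy
  apply smul_inj hv0
  apply g.injective
  rw [S.eq v hv0 hv, S.eq v hv0 hv, hxy]

theorem ne_zero {v : Fin m → K} (hv0 : v ≠ 0) (hv : hermForm m K Q v v = 0) {k : K} (hk : k ≠ 0) : σ v k ≠ 0 := by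
  intro h0
  have h1 := S.eq v hv0 hv k
  rw [h0, zero_smul] at h1
  exact g_ne (g := g) (smul_ne_zero hk hv0) h1

theorem pair (hK : Fintype.card K = Q ^ 2) {v v' : Fin m → K} (hv : hermForm m K Q v v = 0) (hv' : hermForm m K Q v' v' = 0)
    (hvv' : hermForm m K Q v v' = 1) {κ : K} (hκ0 : κ ≠ 0) (hκ : κ + κ ^ Q = 0) : σ v = σ (κ • v') := by
  have hv0 : v ≠ 0 := by
    rintro rfl
    rw [herm_zero_left] at hvv'
    exact zero_ne_one hvv'
  have hv'0 : v' ≠ 0 := by
    rintro rfl
    rw [herm_zero_right hK] at hvv'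
    exact zero_ne_one hvv'
  have hv'v : hermForm m K Q v' v = 1 := by rw [herm_swap hK v v', hvv', one_pow]
  have hκv0 : κ • v' ≠ 0 := smul_ne_zero hκ0 hv'0
  have hκv : hermForm m K Q (κ • v') (κ • v') = 0 := by rw [herm_smul_left, herm_smul_right, hv', mul_zero, mul_zero]
  have hs : hermForm m K Q (v + κ • v') (v + κ • v') = 0 := by
    simp only [herm_add_left, herm_add_right hK, herm_smul_left, herm_smul_right, hv, hv', hvv', hv'v]
    linear_combination hκ
  have hs0 : v + κ • v' ≠ 0 := by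
    intro h0
    have h1 : hermForm m K Q (v + κ • v') v' = 0 := by rw [h0, herm_zero_left]
    rw [herm_add_left, herm_smul_left, hvv', hv', mul_zero, add_zero] at h1
    exact one_ne_zero h1
  -- independence
  have hind : ∀ α β : K, α • g v + β • g (κ • v') = 0 → α = 0 ∧ β = 0 := by
    intro α β h0
    by_cases hα : α = 0
    · subst hα
      rw [zero_smul, zero_add] at h0
      exact ⟨rfl, (smul_eq_zero.1 h0).resolve_right (g_ne (g := g) hκv0)⟩
    · exfalso
      obtain ⟨l, hl⟩ := S.surj hκv0 hκv (-(α⁻¹ * β))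
      have h1 := S.eq _ hκv0 hκv l
      rw [hl] at h1
      have h2 : g v = (-(α⁻¹ * β)) • g (κ • v') := by
        have h3 : α • g v = -(β • g (κ • v')) := eq_neg_of_add_eq_zero_left h0
        rw [neg_smul, ← smul_smul, ← smul_neg, ← h3, smul_smul, inv_mul_cancel₀ hα, one_smul]
      rw [← h1] at h2
      have h3 := g.injective h2
      rw [h3, herm_smul_left, herm_smul_left, hv', mul_zero, mul_zero] at hvv'
      exact zero_ne_one hvv'
  funext k
  have h1 := S.eq _ hs0 hs k
  rw [smul_add, map_add, map_add, S.eq v hv0 hv, S.eq _ hκv0 hκv, smul_add] at h1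
  have h2 : (σ v k - σ (v + κ • v') k) • g v + (σ (κ • v') k - σ (v + κ • v') k) • g (κ • v') = 0 := by
    rw [sub_smul, sub_smul]
    have := sub_eq_zero.2 h1
    rw [← this]
    abel
  obtain ⟨h3, h4⟩ := hind _ _ h2
  rw [sub_eq_zero.1 h3, sub_eq_zero.1 h4]

theorem sym (D : Data q Q ℓ) {v v' : Fin m → K} (hv : hermForm m K Q v v = 0) (hv' : hermForm m K Q v' v' = 0)
    (hvv' : hermForm m K Q v v' = 1) {s : K} (hs0 : s ≠ 0) (hs : s ^ Q = s) : σ v = σ (s • v) := by
  have hK := D.hK
  have hv'v : hermForm m K Q v' v = 1 := by rw [herm_swap hK v v', hvv', one_pow]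
  obtain ⟨κ, hκ0, hκ⟩ := exists_trace_zero_ne hK
  have hκQ : κ ^ Q = -κ := by linear_combination hκ
  have h1 := S.pair hK hv hv' hvv' hκ0 hκ
  -- the pair `(κ v', - κ⁻¹ v)`
  have h2 := S.pair hK (v := κ • v') (v' := (-κ⁻¹) • v)
    (by rw [herm_smul_left, herm_smul_right, hv', mul_zero, mul_zero])
    (by rw [herm_smul_left, herm_smul_right, hv, mul_zero, mul_zero])
    (by
      rw [herm_smul_left, herm_smul_right, hv'v, neg_pow_q hK, inv_pow, hκQ, inv_neg, neg_neg, mul_one,
        mul_inv_cancel₀ hκ0])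
    (κ := -s * κ) (mul_ne_zero (neg_ne_zero.2 hs0) hκ0)
    (by rw [mul_pow, neg_pow_q hK, hs, hκQ]; ring)
  rw [h1, h2, smul_smul]
  congr 2
  field_simp

theorem mul_sym (D : Data q Q ℓ) {v v' : Fin m → K} (hv : hermForm m K Q v v = 0) (hv' : hermForm m K Q v' v' = 0)
    (hvv' : hermForm m K Q v v' = 1) {s : K} (hs : s ^ Q = s) (k : K) : σ v (k * s) = σ v k * σ v s := by
  have hv0 : v ≠ 0 := by
    rintro rfl
    rw [herm_zero_left] at hvv'
    exact zero_ne_one hvv'
  by_cases hs0 : s = 0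
  · subst hs0
    have h0 : σ v 0 = 0 := by
      have := S.smul hv0 hv 0 0
      rwa [zero_smul, zero_smul] at this
    rw [mul_zero, h0, mul_zero]
  have h1 := S.sym D hv hv' hvv' hs0 hs
  have h2 := S.eq (s • v) (smul_ne_zero hs0 hv0) (by rw [herm_smul_left, herm_smul_right, hv, mul_zero, mul_zero]) k
  rw [smul_smul, S.eq v hv0 hv, S.eq v hv0 hv, ← h1, smul_smul] at h2
  exact smul_inj (g_ne (g := g) hv0) h2

theorem mul (D : Data q Q ℓ) {v v' : Fin m → K} (hv : hermForm m K Q v v = 0) (hv' : hermForm m K Q v' v' = 0)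
    (hvv' : hermForm m K Q v v' = 1) (k l : K) : σ v (k * l) = σ v k * σ v l := by
  have hv0 : v ≠ 0 := by
    rintro rfl
    rw [herm_zero_left] at hvv'
    exact zero_ne_one hvv'
  obtain ⟨ω, hω⟩ := D.exists_omega
  obtain ⟨a, b, ha, hb, rfl⟩ := D.exists_decomp hω l
  rw [mul_add, mul_smul_comm, S.add hv0 hv, S.add hv0 hv, S.smul hv0 hv, S.smul hv0 hv,
    S.mul_sym D hv hv' hvv' ha, S.mul_sym D hv hv' hvv' hb, mul_add, mul_smul_comm]

theorem smul_eq (D : Data q Q ℓ) {v v' : Fin m → K} (hv : hermForm m K Q v v = 0) (hv' : hermForm m K Q v' v' = 0)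
    (hvv' : hermForm m K Q v v' = 1) {c : K} (hc : c ≠ 0) : σ (c • v) = σ v := by
  have hv0 : v ≠ 0 := by
    rintro rfl
    rw [herm_zero_left] at hvv'
    exact zero_ne_one hvv'
  funext k
  have h2 := S.eq (c • v) (smul_ne_zero hc hv0) (by rw [herm_smul_left, herm_smul_right, hv, mul_zero, mul_zero]) k
  rw [smul_smul, S.eq v hv0 hv, S.eq v hv0 hv, S.mul D hv hv' hvv', smul_smul] at h2
  exact (mul_right_cancel₀ (S.ne_zero hv0 hv hc) (smul_inj (g_ne (g := g) hv0) h2)).symm

theorem eq_of_ne (D : Data q Q ℓ) {v v' : Fin m → K} (hv : hermForm m K Q v v = 0) (hv' : hermForm m K Q v' v' = 0)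
    (hvv' : hermForm m K Q v v' ≠ 0) : σ v = σ v' := by
  have hK := D.hK
  obtain ⟨κ, hκ0, hκ⟩ := exists_trace_zero_ne hK
  obtain ⟨v'', hv''⟩ : ∃ v'', v'' = ((hermForm m K Q v v')⁻¹ ^ Q) • v' := ⟨_, rfl⟩
  have hi : (hermForm m K Q v v')⁻¹ ^ Q ≠ 0 := pow_ne_zero _ (inv_ne_zero hvv')
  have h1 : hermForm m K Q v'' v'' = 0 := by rw [hv'', herm_smul_left, herm_smul_right, hv', mul_zero, mul_zero]
  have h2 : hermForm m K Q v v'' = 1 := by rw [hv'', herm_smul_right, pow_q_pow_q hK, inv_mul_cancel₀ hvv']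
  have h3 : hermForm m K Q v'' v = 1 := by rw [herm_swap hK v v'', h2, one_pow]
  have h4 : v' = ((hermForm m K Q v v')⁻¹ ^ Q)⁻¹ • v'' := by
    rw [hv'', smul_smul, inv_mul_cancel₀ hi, one_smul]
  rw [S.pair hK hv h1 h2 hκ0 hκ, S.smul_eq D h1 hv h3 hκ0, h4, S.smul_eq D h1 hv h3 (inv_ne_zero hi)]

theorem eq_all (D : Data q Q ℓ) {v v' : Fin m → K} (hv0 : v ≠ 0) (hv : hermForm m K Q v v = 0) (hv0' : v' ≠ 0)
    (hv' : hermForm m K Q v' v' = 0) : σ v = σ v' := by
  by_cases hvv' : hermForm m K Q v v' = 0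
  · obtain ⟨z, -, hz, hvz, hvz'⟩ := exists_iso_common D.hK (mem_coordSub_top v) (mem_coordSub_top v') hv0 hv0' hv hvv'
    rw [S.eq_of_ne D hv hz hvz, S.eq_of_ne D hv' hz hvz']
  · exact S.eq_of_ne D hv hv' hvv'

/-- `g` is semilinear. -/
theorem semi (D : Data q Q ℓ) (hm : 2 ≤ m) : ∃ τ : K → K, ∀ k x, g (k • x) = τ k • g x := by
  have h01 : (⟨0, by omega⟩ : Fin m) ≠ ⟨1, by omega⟩ := by simp
  obtain ⟨p, p', a, b, ha, -, -, hpp, hpp', hppp⟩ := exists_hyp_pair (q := Q) (n := m) D.hK h01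
  have hp0 : p ≠ 0 := by
    rintro rfl
    rw [herm_zero_left] at hppp
    exact zero_ne_one hppp
  refine ⟨σ p, ?_⟩
  have hiso : ∀ v : Fin m → K, hermForm m K Q v v = 0 → ∀ k : K, g (k • v) = σ p k • g v := by
    intro v hv k
    by_cases hv0 : v = 0
    · rw [hv0, smul_zero, map_zero, smul_zero]
    · rw [S.eq v hv0 hv, S.eq_all D hv0 hv hp0 hpp]
  have hmul := S.mul D hpp hpp' hppp
  -- the good vectors form a submodule
  let X : Submodule K (Fin m → K) :=
    { carrier := {x | ∀ k : K, g (k • x) = σ p k • g x}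
      zero_mem' := fun k => by rw [smul_zero, map_zero, smul_zero]
      add_mem' := fun {x y} hx hy k => by rw [smul_add, map_add, hx, hy, map_add, smul_add]
      smul_mem' := fun c x hx k => by
        rw [smul_smul, hx, hx, hmul, smul_smul] }
  have hX : ∀ v : Fin m → K, hermForm m K Q v v = 0 → v ∈ X := hiso
  have hsingle : ∀ j : Fin m, (Pi.single j 1 : Fin m → K) ∈ X := by
    intro j
    obtain ⟨i, hij⟩ : ∃ i, i ≠ j := by
      have : Nontrivial (Fin m) := Fin.nontrivial_iff_two_le.2 hm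
      exact exists_ne j
    obtain ⟨x, x', hxx, hx, hx'⟩ := GUSub.exists_two_norm D.hK
    have key : ∀ b : K, b * b ^ Q = -1 → (Pi.single i 1 + b • Pi.single j 1 : Fin m → K) ∈ X := by
      intro b hb
      apply hX
      simp only [herm_add_left, herm_add_right D.hK, herm_smul_left, herm_smul_right,
        herm_single_right D.hK, Pi.single_eq_same, one_pow]
      simp [hij, hij.symm]
      linear_combination hb
    have h1 := X.smul_mem (x - x')⁻¹ (X.sub_mem (key x hx) (key x' hx'))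
    have h2 : (x - x')⁻¹ • ((Pi.single i 1 + x • Pi.single j 1 : Fin m → K) - (Pi.single i 1 + x' • Pi.single j 1)) =
        Pi.single j 1 := by
      have h3 : x - x' ≠ 0 := sub_ne_zero.2 hxx
      rw [add_sub_add_left_eq_sub, ← sub_smul, smul_smul, inv_mul_cancel₀ h3, one_smul]
    rwa [h2] at h1
  intro k x
  have hx : x ∈ X := by
    rw [pi_eq_sum_univ' x]
    refine X.sum_mem fun i _ => X.smul_mem _ ?_
    exact hsingle i
  exact hx k

end Mult

include D h in
/-- The semilinear alternative. -/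
theorem Hyp.semi (hm : 3 ≤ m) (hA : AllReg Q M) {g : (Fin m → K) ≃ₗ[F] (Fin m → K)} (hg : g ∈ M) :
    ∃ τ : K → K, ∀ k x, g (k • x) = τ k • g x := by
  have H : ∀ v : Fin m → K, v ≠ 0 → hermForm m K Q v v = 0 → ∃ σ : K → K, ∀ k : K, g (k • v) = σ k • g v :=
    fun v hv0 hv => (h.line D hm hA hg hv0 hv).2
  choose! σ hσ using H
  exact Mult.semi (σ := σ) ⟨hσ⟩ D (by omega)

end Cfsg.Agent.H930.ExtU
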