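import Cfsg.Agent.H930.ExtUI
import Cfsg.Agent.ClassicalGeometry.HermOrthonormal

/-!
# Overgroups of `SU_m(K)` in the unitary group of the trace form: the dichotomy, and coordinates
-/

set_option autoImplicit false
set_option linter.unusedSectionVars false
set_option linter.unusedSimpArgs false

namespace Cfsg.Agent.H930.ExtU

open Module Cfsg Cfsg.Agent.LieClassical.HermBasic Cfsg.Agent.LieClassical.HermSiegel Cfsg.Agent.H879
open Cfsg.Agent.LieClassical.HermGen

variable {F K : Type*} [Field F] [Fintype F] [Field K] [Fintype K] [Algebra F K] {q Q m : ℕ} {ℓ : K →ₗ[F] F}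

section Dich

variable {M : Subgroup ((Fin m → K) ≃ₗ[F] (Fin m → K))} (D : Data q Q ℓ) (h : Hyp Q ℓ M)

include D h in
theorem Hyp.norml_of_not_allReg (hr : (finrank F K).Prime) (hA : ¬ AllReg Q M) : Norml Q ℓ M := by
  unfold AllReg at hA
  push Not at hA
  obtain ⟨g, hg, a, v, ha, hv, k₀, hk₀, h1, k, hk⟩ := hA
  have hadj := h.adj D hg a v
  have h2 : theta Q g⁻¹ v a ≠ 0 := by
    intro h0
    apply hk
    apply D.eq_zero
    intro l
    have h3 := hadj k (l ^ Q)
    rw [h0, LinearMap.zero_apply, zero_pow_q D.hK, mul_zero, map_zero, pow_q_pow_q D.hK, theta_apply] at h3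
    rw [mul_comm]
    exact h3
  have h3 : LinearMap.range (theta Q g⁻¹ v a) ≠ ⊤ := by
    intro h0
    rw [LinearMap.range_eq_top] at h0
    apply hk₀
    apply D.eq_zero
    intro y
    obtain ⟨l, hl⟩ := h0 (y ^ Q)
    have h4 := hadj k₀ l
    rw [theta_apply, h1, zero_mul, map_zero, hl, pow_q_pow_q D.hK] at h4
    rw [mul_comm]
    exact h4.symm
  exact h.exists_normal D hr ⟨g, hg, a, v, ha, hv, rfl, rfl⟩ h2 h3

include D h in
/-- **The dichotomy.** -/
theorem Hyp.dichotomy (hr : (finrank F K).Prime) (hr3 : 3 ≤ finrank F K) (hm : 3 ≤ m) :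
    (∀ g ∈ M, ∃ τ : K → K, ∀ k x, g (k • x) = τ k • g x) ∨
    (∀ z, ℓ (hermForm m K Q z z) = 0 → ∀ e : F, e + e ^ q = 0 → Has M (FT Q ℓ z e)) := by
  by_cases hA : AllReg Q M
  · left
    intro g hg
    exact h.semi D hm hA hg
  · right
    have hN := h.norml_of_not_allReg D hr hA
    obtain ⟨e, he0, he, hall⟩ : ∃ e : F, e ≠ 0 ∧ e + e ^ q = 0 ∧
        ∀ u, hermForm m K Q u u = 0 → Has M (FT Q ℓ u e) := by
      by_cases hq : 3 ≤ q
      · exact h.exists_e_of_three D (by omega) hq hm hN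
      · have hq2 : q = 2 := by have := two_le D.hF; omega
        subst hq2
        exact h.exists_e_of_two D hr hr3 hm hN
    intro z hz e' he'
    exact h.FT_all D (by omega) (by omega) he0 he hall hz he'

end Dich

/-! ### Existence of the data -/

theorem exists_data (hF : Fintype.card F = q ^ 2) (hodd : Odd (finrank F K)) :
    ∃ ℓ : K →ₗ[F] F, Data q (q ^ finrank F K) ℓ := by
  have : FiniteDimensional F K := Module.Finite.of_finite
  have hK : Fintype.card K = (q ^ finrank F K) ^ 2 := by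
    rw [Module.card_eq_pow_finrank (K := F) (V := K), hF, ← pow_mul, ← pow_mul, mul_comm]
  have hc : ∀ c : F, c ^ (q ^ finrank F K) = c ^ q := by
    obtain ⟨j, hj⟩ := hodd
    intro c
    have h1 : q ^ finrank F K = (q ^ 2) ^ j * q := by rw [hj, pow_succ, pow_mul]
    rw [h1, pow_mul]
    congr 1
    rw [← hF]
    exact FiniteField.pow_card_pow j c
  have halg : ∀ c : F, algebraMap F K c ^ (q ^ finrank F K) = algebraMap F K (c ^ q) := by
    intro c
    rw [← map_pow, hc]
  have hsp : ∀ (c : F) (k : K), (c • k) ^ (q ^ finrank F K) = c ^ q • k ^ (q ^ finrank F K) := by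
    intro c k
    rw [Algebra.smul_def, mul_pow, halg, Algebra.smul_def]
  obtain ⟨ℓ₀, hℓ₀⟩ : ∃ ℓ : K →ₗ[F] F, ℓ ≠ 0 := exists_ne 0
  let mk : (K →ₗ[F] F) → (K →ₗ[F] F) := fun f =>
    { toFun := fun k => f k + (f (k ^ (q ^ finrank F K))) ^ q
      map_add' := fun x y => by
        rw [add_pow_q hK, map_add, map_add, add_pow_q hF]
        ring
      map_smul' := fun c x => by
        rw [hsp, map_smul, map_smul, smul_eq_mul, smul_eq_mul, mul_pow, pow_q_pow_q hF, RingHom.id_apply, smul_eq_mul]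
        ring }
  have hmk : ∀ f k, mk f k = f k + (f (k ^ (q ^ finrank F K))) ^ q := fun _ _ => rfl
  obtain ⟨f, hf⟩ : ∃ f, mk f ≠ 0 := by
    by_contra hcon
    push Not at hcon
    obtain ⟨c, hc⟩ := exists_not_fixed hF
    apply hℓ₀
    ext k
    have h1 := LinearMap.congr_fun (hcon ℓ₀) k
    have h2 := LinearMap.congr_fun (hcon (c • ℓ₀)) k
    rw [hmk, LinearMap.zero_apply] at h1 h2
    rw [LinearMap.smul_apply, LinearMap.smul_apply, smul_eq_mul, smul_eq_mul, mul_pow] at h2
    have h3 : (c - c ^ q) * ℓ₀ k = 0 := by linear_combination h2 - c ^ q * h1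
    rw [LinearMap.zero_apply]
    exact (mul_eq_zero.1 h3).resolve_left (sub_ne_zero.2 (Ne.symm hc))
  refine ⟨mk f, hF, hK, halg, hf, fun k => ?_⟩
  rw [hmk, hmk, pow_q_pow_q hK, add_pow_q hF, pow_q_pow_q hF, add_comm]

/-- The adjoint automorphism is `k ↦ k^Q`. -/
theorem Data.eq_pow (D : Data q Q ℓ) (hodd : Odd (finrank F K)) (τ : K →+* K) (h2 : ∀ k, τ (τ k) = k)
    (hτ : ∀ c : F, τ (algebraMap F K c) = algebraMap F K (c ^ q)) (k : K) : τ k = k ^ Q := by
  have := D.finDim
  let σ : K →ₐ[F] K :=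
    { toRingHom := τ.comp ((conj D.hK : K ≃+* K) : K →+* K)
      commutes' := fun c => by
        change τ (algebraMap F K c ^ Q) = algebraMap F K c
        rw [D.alg, hτ, pow_q_pow_q D.hF] }
  have hσ : ∀ k, σ k = τ (k ^ Q) := fun _ => rfl
  have hσ2 : ∀ k, σ (σ k) = k := by
    intro k
    rw [hσ, hσ, ← map_pow, pow_q_pow_q D.hK, h2]
  let s : K ≃ₐ[F] K := AlgEquiv.ofBijective σ ⟨fun x y hxy => by rw [← hσ2 x, hxy, hσ2], fun y => ⟨σ y, hσ2 y⟩⟩
  have hs2 : s ^ 2 = 1 := by
    ext k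
    rw [pow_two]
    exact hσ2 k
  have hs1 : s = 1 := by
    have h3 : orderOf s ∣ 2 := orderOf_dvd_of_pow_eq_one hs2
    have h4 : orderOf s ∣ finrank F K := by
      rw [← IsGalois.card_aut_eq_finrank F K]
      exact orderOf_dvd_natCard s
    have h5 : Nat.Coprime 2 (finrank F K) := Nat.coprime_two_left.2 hodd
    have h6 : orderOf s ∣ 1 := by
      rw [← h5.gcd_eq_one]
      exact Nat.dvd_gcd h3 h4
    exact orderOf_eq_one_iff.1 (Nat.dvd_one.1 h6)
  have h3 : ∀ k, τ (k ^ Q) = k := by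
    intro k
    have := congrArg (fun t : K ≃ₐ[F] K => t k) hs1
    exact this
  rw [← pow_q_pow_q D.hK k, h3, pow_q_pow_q D.hK]

/-! ### Coordinates -/

theorem exists_coord {V : Type*} [AddCommGroup V] [Module F V] [Module K V] [IsScalarTower F K V] [Finite V]
    (D : Data q Q ℓ) (f : V → V → F) (hadd : ∀ x y z, f (x + y) z = f x z + f y z)
    (hsmul : ∀ (c : F) x y, f (c • x) y = c * f x y) (hswap : ∀ x y, f y x = f x y ^ q)
    (hnd : ∀ x, (∀ y, f x y = 0) → x = 0) (hadj : ∀ (k : K) x y, f (k • x) y = f x (k ^ Q • y)) :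
    ∃ (m : ℕ) (β : (Fin m → K) ≃ₗ[K] V), ∀ x y, f (β x) (β y) = ℓ (hermForm m K Q x y) := by
  have hK := D.hK
  -- the form
  have hex : ∀ x y, ∃ κ : K, ∀ k : K, f (k • x) y = ℓ (k * κ) := by
    intro x y
    let T : K →ₗ[F] F :=
      { toFun := fun k => f (k • x) y
        map_add' := fun a b => by rw [add_smul, hadd]
        map_smul' := fun c a => by rw [smul_assoc, hsmul, RingHom.id_apply, smul_eq_mul] }
    obtain ⟨κ, hκ⟩ := D.exists_rep T
    exact ⟨κ, fun k => by rw [mul_comm, ← hκ]; rfl⟩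
  choose φ hφ using hex
  have hφadd : ∀ x y z, φ (x + y) z = φ x z + φ y z := by
    intro x y z
    apply D.ext
    intro k
    rw [← hφ, smul_add, hadd, hφ, hφ, mul_add, map_add]
  have hφsmul : ∀ (k : K) x y, φ (k • x) y = k * φ x y := by
    intro k x y
    apply D.ext
    intro l
    rw [← hφ, smul_smul, hφ, mul_assoc]
  have hφswap : ∀ x y, φ y x = φ x y ^ Q := by
    intro x y
    apply D.ext
    intro k
    have h1 : k * φ x y ^ Q = (k ^ Q * φ x y) ^ Q := by rw [mul_pow, pow_q_pow_q hK]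
    rw [← hφ, h1, D.lpow, ← hφ, hadj]
    exact hswap _ _
  have hφadd' : ∀ x y z, φ z (x + y) = φ z x + φ z y := by
    intro x y z
    rw [hφswap (x + y) z, hφadd, add_pow_q hK, ← hφswap, ← hφswap]
  have hφsmul' : ∀ (k : K) x y, φ y (k • x) = k ^ Q * φ y x := by
    intro k x y
    rw [hφswap (k • x) y, hφsmul, mul_pow, ← hφswap]
  let B : V →ₛₗ[((conj hK : K ≃+* K) : K →+* K)] V →ₗ[K] K :=
    LinearMap.mk₂'ₛₗ _ _ (fun u v => φ v u) (fun u u' v => hφadd' _ _ _) (fun a u v => hφsmul' _ _ _)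
      (fun u v v' => hφadd _ _ _) (fun a u v => hφsmul _ _ _)
  have hB : ∀ u v, B u v = φ v u := fun u v => rfl
  have hsymm : B.IsSymm := by
    constructor
    intro u v
    show (φ v u) ^ Q = φ u v
    exact (hφswap _ _).symm
  have hsep : B.SeparatingLeft := by
    intro u hu
    apply hnd
    intro y
    have h1 := hφ u y 1
    rw [one_smul, one_mul] at h1
    have h2 : φ u y = 0 := by
      rw [hφswap y u, ← hB, hu, zero_pow_q hK]
    rw [h1, h2, map_zero]
  have hne : ((conj hK : K ≃+* K) : K →+* K) ≠ RingHom.id K := by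
    intro h
    obtain ⟨x, hx⟩ := exists_not_fixed hK
    exact hx (congrArg (fun g : K →+* K => g x) h)
  have : Module.Finite K V := Module.Finite.of_finite
  obtain ⟨e, he⟩ := Cfsg.Agent.ClassicalGeometry.HermOrthonormal.exists_orthonormal_basis hne
    (fun a => pow_q_pow_q hK a) B hsymm hsep
  refine ⟨finrank K V, e.equivFun.symm, fun x y => ?_⟩
  have h1 := hφ (e.equivFun.symm x) (e.equivFun.symm y) 1
  rw [one_smul, one_mul] at h1
  rw [h1]
  congr 1
  have hsum : ∀ (s : Finset (Fin (finrank K V))) (w : Fin (finrank K V) → V) z, φ (∑ i ∈ s, w i) z = ∑ i ∈ s, φ (w i) z := by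
    intro s w z
    show B z _ = ∑ i ∈ s, B z (w i)
    rw [map_sum]
  rw [Basis.equivFun_symm_apply, hsum, herm_def]
  refine Finset.sum_congr rfl fun i _ => ?_
  rw [hφsmul]
  congr 1
  rw [hφswap (e.equivFun.symm y) (e i), Basis.equivFun_symm_apply, hsum]
  congr 1
  rw [Finset.sum_eq_single i]
  · rw [hφsmul, ← hB, he, if_pos rfl, mul_one]
  · intro j _ hji
    rw [hφsmul, ← hB, he, if_neg (Ne.symm hji), mul_zero]
  · intro h
    exact absurd (Finset.mem_univ i) h

end Cfsg.Agent.H930.ExtU
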