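import Cfsg.Agent.H930.ExtUJ

/-!
# The case `m = 2`: hyperbolic pairs in dimension two, isometries with prescribed determinant
-/

set_option autoImplicit false
set_option linter.unusedSectionVars false
set_option linter.unusedSimpArgs false

namespace Cfsg.Agent.H930.ExtU

open Module Cfsg Cfsg.Agent.LieClassical.HermBasic Cfsg.Agent.LieClassical.HermSiegel Cfsg.Agent.H879
open Cfsg.Agent.LieClassical.HermGen

section Pair

variable {K : Type*} [Field K] [Fintype K] {Q : ℕ} (hK : Fintype.card K = Q ^ 2)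

/-- A hyperbolic pair of `K²`. -/
structure HP (Q : ℕ) (a a' : Fin 2 → K) : Prop where
  aa : hermForm 2 K Q a a = 0
  bb : hermForm 2 K Q a' a' = 0
  ab : hermForm 2 K Q a a' = 1

variable {a a' : Fin 2 → K} (P : HP Q a a')

include hK P

theorem HP.ba : hermForm 2 K Q a' a = 1 := by rw [herm_swap hK a a', P.ab, one_pow]

theorem HP.symm : HP Q a' a := ⟨P.bb, P.aa, P.ba hK⟩

theorem HP.indep {x y : K} (h : x • a + y • a' = 0) : x = 0 ∧ y = 0 := by
  have h1 : hermForm 2 K Q (x • a + y • a') a' = 0 := by rw [h, herm_zero_left]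
  have h2 : hermForm 2 K Q (x • a + y • a') a = 0 := by rw [h, herm_zero_left]
  rw [herm_add_left, herm_smul_left, herm_smul_left, P.ab, P.bb, mul_one, mul_zero, add_zero] at h1
  rw [herm_add_left, herm_smul_left, herm_smul_left, P.aa, P.ba hK, mul_one, mul_zero, zero_add] at h2
  exact ⟨h1, h2⟩

theorem HP.exists_basis : ∃ b : Basis (Fin 2) K (Fin 2 → K), b 0 = a ∧ b 1 = a' := by
  have hli : LinearIndependent K ![a, a'] := by
    rw [LinearIndependent.pair_iff]
    intro s t h
    exact P.indep hK h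
  refine ⟨basisOfLinearIndependentOfCardEqFinrank hli (by simp), ?_, ?_⟩
  · rw [coe_basisOfLinearIndependentOfCardEqFinrank]; rfl
  · rw [coe_basisOfLinearIndependentOfCardEqFinrank]; rfl

theorem HP.expand (x : Fin 2 → K) : x = hermForm 2 K Q x a' • a + hermForm 2 K Q x a • a' := by
  obtain ⟨b, hb0, hb1⟩ := P.exists_basis hK
  have h1 := b.sum_repr x
  rw [Fin.sum_univ_two, hb0, hb1] at h1
  have h2 : hermForm 2 K Q x a' = b.repr x 0 := by
    conv_lhs => rw [← h1]
    rw [herm_add_left, herm_smul_left, herm_smul_left, P.ab, P.bb, mul_one, mul_zero, add_zero]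
  have h3 : hermForm 2 K Q x a = b.repr x 1 := by
    conv_lhs => rw [← h1]
    rw [herm_add_left, herm_smul_left, herm_smul_left, P.aa, P.ba hK, mul_one, mul_zero, zero_add]
  rw [h2, h3, h1]

/-- The determinant of a linear map given on a hyperbolic pair. -/
theorem HP.det_eq {T : (Fin 2 → K) →ₗ[K] (Fin 2 → K)} {α β γ δ : K} (h1 : T a = α • a + β • a')
    (h2 : T a' = γ • a + δ • a') : LinearMap.det T = α * δ - γ * β := by
  obtain ⟨b, hb0, hb1⟩ := P.exists_basis hK
  rw [← LinearMap.det_toMatrix b, Matrix.det_fin_two, LinearMap.toMatrix_apply, LinearMap.toMatrix_apply,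
    LinearMap.toMatrix_apply, LinearMap.toMatrix_apply, hb0, hb1, h1, h2, ← hb0, ← hb1]
  simp

/-- The isometry `a ↦ k b`, `a' ↦ k^{-Q} b'`. -/
def HP.map (Q : ℕ) (a a' b b' : Fin 2 → K) (k : K) : (Fin 2 → K) →ₗ[K] (Fin 2 → K) where
  toFun x := (k * hermForm 2 K Q x a') • b + ((k ^ Q)⁻¹ * hermForm 2 K Q x a) • b'
  map_add' x y := by
    rw [herm_add_left, herm_add_left, mul_add, mul_add, add_smul, add_smul]
    abel
  map_smul' c x := by
    rw [herm_smul_left, herm_smul_left, RingHom.id_apply, smul_add, smul_smul, smul_smul]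
    congr 2 <;> ring

omit hK P in
theorem HP.map_apply (a a' b b' : Fin 2 → K) (k : K) (x : Fin 2 → K) : HP.map Q a a' b b' k x =
    (k * hermForm 2 K Q x a') • b + ((k ^ Q)⁻¹ * hermForm 2 K Q x a) • b' := rfl

theorem HP.map_fst (b b' : Fin 2 → K) (k : K) : HP.map Q a a' b b' k a = k • b := by
  rw [HP.map_apply, P.aa, P.ab, mul_one, mul_zero, zero_smul, add_zero]

theorem HP.map_snd (b b' : Fin 2 → K) (k : K) : HP.map Q a a' b b' k a' = (k ^ Q)⁻¹ • b' := by
  rw [HP.map_apply, P.bb, P.ba hK, mul_one, mul_zero, zero_smul, zero_add]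

theorem HP.map_iso {b b' : Fin 2 → K} (P' : HP Q b b') {k : K} (hk : k ≠ 0) (x y : Fin 2 → K) :
    hermForm 2 K Q (HP.map Q a a' b b' k x) (HP.map Q a a' b b' k y) = hermForm 2 K Q x y := by
  have hkQ : k ^ Q ≠ 0 := pow_ne_zero _ hk
  conv_rhs => rw [P.expand hK x, P.expand hK y]
  rw [HP.map_apply, HP.map_apply]
  simp only [herm_add_left, herm_add_right hK, herm_smul_left, herm_smul_right, P.aa, P.bb, P.ab, P.ba hK,
    P'.aa, P'.bb, P'.ab, P'.ba hK, mul_pow, inv_pow, pow_q_pow_q hK]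
  field_simp
  ring

end Pair

end Cfsg.Agent.H930.ExtU
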