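import Cfsg.Agent.H930.ExtVA

/-!
# The case `m = 2`: norms
-/

set_option autoImplicit false
set_option linter.unusedSectionVars false
set_option linter.unusedSimpArgs false

namespace Cfsg.Agent.H930.ExtU

open Module Cfsg Cfsg.Agent.LieClassical.HermBasic Cfsg.Agent.LieClassical.HermSiegel Cfsg.Agent.H879
open Cfsg.Agent.LieClassical.HermGen

variable {F K : Type*} [Field F] [Fintype F] [Field K] [Fintype K] [Algebra F K] {q Q m : ℕ} {ℓ : K →ₗ[F] F}

variable (D : Data q Q ℓ)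
include D

theorem Data.norm_pow (x : K) : Algebra.norm F (x ^ Q) = Algebra.norm F x ^ q := by
  apply (algebraMap F K).injective
  rw [FiniteField.algebraMap_norm_eq_pow, ← D.alg, FiniteField.algebraMap_norm_eq_pow, ← pow_mul, ← pow_mul, mul_comm]

theorem Data.norm_inv (x : K) : Algebra.norm F x⁻¹ = (Algebra.norm F x)⁻¹ := by
  have := D.finDim
  by_cases hx : x = 0
  · rw [hx, inv_zero, Algebra.norm_zero, inv_zero]
  · have h1 : Algebra.norm F x * Algebra.norm F x⁻¹ = 1 := by rw [← map_mul, mul_inv_cancel₀ hx, map_one]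
    exact eq_inv_of_mul_eq_one_right h1

theorem Data.norm_pow_one_sub (x : K) :
    Algebra.norm F (x * (x ^ Q)⁻¹) = Algebra.norm F x * (Algebra.norm F x ^ q)⁻¹ := by
  rw [map_mul, D.norm_inv, D.norm_pow]

theorem Data.Q_eq : Q = q ^ finrank F K := by
  have := D.finDim
  have h1 := Module.card_eq_pow_finrank (K := F) (V := K)
  rw [D.hK, D.hF, ← pow_mul, mul_comm, pow_mul] at h1
  exact Nat.pow_left_injective (n := 2) (by norm_num) h1

/-- An element whose norm is fixed and which is not a product of a scalar and a symmetric element. -/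
theorem Data.exists_a (hr3 : 3 ≤ finrank F K) (hex : ¬ (finrank F K = 3 ∧ q = 2)) : ∃ a : K, a ≠ 0 ∧
    Algebra.norm F a ^ q = Algebra.norm F a ∧ ∀ (c : F) (k : K), k ^ Q = k → a ≠ c • k := by
  have h2 := two_le D.hF
  obtain ⟨g, hg⟩ := IsCyclic.exists_generator (α := Kˣ)
  have hord : orderOf g = Q ^ 2 - 1 := by
    rw [orderOf_eq_card_of_forall_mem_zpowers hg, Nat.card_units, Nat.card_eq_fintype_card, D.hK]
  refine ⟨((g ^ (q + 1) : Kˣ) : K), Units.ne_zero _, ?_, fun c k hk h => ?_⟩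
  · rw [Units.val_pow_eq_pow_val, map_pow, ← pow_mul]
    have h3 : Algebra.norm F (g : K) ^ (q ^ 2) = Algebra.norm F (g : K) := by
      rw [← D.hF, FiniteField.pow_card]
    have h4 : (q + 1) * q = q ^ 2 + q := by ring
    rw [h4, pow_add, h3, pow_succ, mul_comm]
  · have hc0 : c ≠ 0 := by
      rintro rfl
      rw [zero_smul] at h
      exact Units.ne_zero _ h
    have hk0 : k ≠ 0 := by
      rintro rfl
      rw [smul_zero] at h
      exact Units.ne_zero _ h
    have h3 : (((g ^ (q + 1)) ^ Q : Kˣ) : K) = algebraMap F K (c ^ q) * k := by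
      rw [Units.val_pow_eq_pow_val, h, D.smul_pow, hk, Algebra.smul_def]
    -- raise to the power `q ^ 2 - 1`
    have h4 : ((g ^ (q + 1)) ^ Q * (g ^ (q + 1))⁻¹) ^ (q ^ 2 - 1) = (1 : Kˣ) := by
      apply Units.ext
      have h5 : (((g ^ (q + 1)) ^ Q * (g ^ (q + 1))⁻¹ : Kˣ) : K) = algebraMap F K (c ^ q * c⁻¹) := by
        rw [Units.val_mul, h3, Units.val_inv_eq_inv_val, h, Algebra.smul_def, mul_inv, map_mul, map_inv₀]
        field_simp
      rw [Units.val_pow_eq_pow_val, h5, ← map_pow, Units.val_one, ← D.hF, FiniteField.pow_card_sub_one_eq_one, map_one]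
      exact mul_ne_zero (pow_ne_zero _ hc0) (inv_ne_zero hc0)
    have hQ1 : 1 ≤ Q := by
      rw [D.Q_eq]
      exact Nat.one_le_pow _ _ (by omega)
    have h5 : g ^ ((q + 1) * (Q - 1) * (q ^ 2 - 1)) = 1 := by
      rw [← h4, pow_mul]
      congr 1
      rw [eq_mul_inv_iff_mul_eq, ← pow_add, ← pow_mul]
      congr 1
      obtain ⟨s, rfl⟩ := Nat.exists_eq_add_of_le hQ1
      simp only [Nat.add_sub_cancel_left]
      ring
    have h6 := orderOf_dvd_of_pow_eq_one h5
    rw [hord] at h6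
    have hq2 : 1 ≤ q ^ 2 := Nat.one_le_pow _ _ (by omega)
    obtain ⟨s, hs⟩ := Nat.exists_eq_add_of_le hQ1
    obtain ⟨u, hu⟩ := Nat.exists_eq_add_of_le (show 2 ≤ q from h2)
    have hQs : 0 < s := by
      have : 2 ≤ Q := two_le D.hK
      omega
    have h7 : Q + 1 ∣ (q + 1) * (q ^ 2 - 1) := by
      have e1 : Q ^ 2 - 1 = s * (Q + 1) := by
        rw [hs]
        have : (1 + s) ^ 2 = s * (1 + s + 1) + 1 := by ring
        omega
      have e2 : (q + 1) * (Q - 1) * (q ^ 2 - 1) = s * ((q + 1) * (q ^ 2 - 1)) := by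
        rw [hs, Nat.add_sub_cancel_left]
        ring
      rw [e1, e2] at h6
      exact Nat.dvd_of_mul_dvd_mul_left hQs h6
    have hQe := D.Q_eq
    have e3 : (q + 1) * (q ^ 2 - 1) = q ^ 3 + q ^ 2 - q - 1 := by
      rw [hu]
      have a1 : (2 + u) ^ 2 - 1 = u ^ 2 + 4 * u + 3 := by
        have : (2 + u) ^ 2 = u ^ 2 + 4 * u + 4 := by ring
        omega
      have a2 : (2 + u) ^ 3 + (2 + u) ^ 2 - (2 + u) - 1 = u ^ 3 + 7 * u ^ 2 + 15 * u + 9 := by
        have : (2 + u) ^ 3 + (2 + u) ^ 2 = u ^ 3 + 7 * u ^ 2 + 15 * u + 9 + (2 + u) + 1 := by ring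
        omega
      rw [a1, a2]
      ring
    have hqle : 2 * q ≤ q ^ 2 := by nlinarith
    rcases Nat.lt_or_ge 3 (finrank F K) with h8 | h8
    · -- `Q` is large
      have h9 : q ^ 4 ≤ Q := by
        rw [hQe]
        exact Nat.pow_le_pow_right (by omega) h8
      have h10 : q ^ 3 + q ^ 2 ≤ q ^ 4 := by
        have : q ^ 4 = q ^ 2 * (q * q) := by ring
        have : q ^ 3 = q ^ 2 * q := by ring
        have : q ^ 2 * (q * q) ≥ q ^ 2 * (q + 1) := Nat.mul_le_mul_left _ (by nlinarith)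
        nlinarith
      have h11 : 0 < (q + 1) * (q ^ 2 - 1) := by
        apply Nat.mul_pos (by omega)
        omega
      have h12 := Nat.le_of_dvd h11 h7
      rw [e3] at h12
      omega
    · have h9 : finrank F K = 3 := le_antisymm h8 hr3
      rw [h9] at hQe
      have hq3 : 3 ≤ q := by
        by_contra hcon
        exact hex ⟨h9, by omega⟩
      rw [e3, hQe] at h7
      have h10 : q ^ 3 + 1 ∣ q ^ 2 - q - 2 := by
        have h11 : q ^ 3 + q ^ 2 - q - 1 = (q ^ 3 + 1) + (q ^ 2 - q - 2) := by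
          have : 3 * q ≤ q ^ 2 := by nlinarith
          omega
        rw [h11] at h7
        exact (Nat.dvd_add_right (dvd_refl _)).1 h7
      have h11 : 0 < q ^ 2 - q - 2 := by
        have : 3 * q ≤ q ^ 2 := by nlinarith
        omega
      have h12 := Nat.le_of_dvd h11 h10
      have h13 : q ^ 2 ≤ q ^ 3 := Nat.pow_le_pow_right (by omega) (by norm_num)
      omega

/-- An element of skew norm, nonzero under `ℓ`, not a product of a scalar and a skew element. -/
theorem Data.exists_xi (hodd : Odd (finrank F K)) (hr3 : 3 ≤ finrank F K) (hex : ¬ (finrank F K = 3 ∧ q = 2)) :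
    ∃ ξ : K, ξ ≠ 0 ∧ Algebra.norm F ξ ^ q = -Algebra.norm F ξ ∧ ℓ ξ ≠ 0 ∧
      ∀ (c : F) (k : K), k + k ^ Q = 0 → ξ ≠ c • k := by
  obtain ⟨a, ha0, haN, hak⟩ := D.exists_a hr3 hex
  obtain ⟨κ, hκ0, hκ⟩ := exists_trace_zero_ne D.hK
  have hκQ : κ ^ Q = -κ := by linear_combination hκ
  obtain ⟨ω, hω⟩ := D.exists_omega
  obtain ⟨k₀, hk₀, hl⟩ : ∃ k₀ : K, k₀ ^ Q = k₀ ∧ ℓ (k₀ * (κ * a)) ≠ 0 := by
    by_contra hcon
    push Not at hcon
    apply mul_ne_zero hκ0 ha0
    apply D.eq_zero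
    intro k
    obtain ⟨x, y, hx, hy, rfl⟩ := D.exists_decomp hω k
    rw [add_mul, map_add, hcon x hx, smul_mul_assoc, map_smul, hcon y hy, smul_zero, add_zero]
  have hk₀0 : k₀ ≠ 0 := by
    rintro rfl
    rw [zero_mul, map_zero] at hl
    exact hl rfl
  refine ⟨k₀ * (κ * a), mul_ne_zero hk₀0 (mul_ne_zero hκ0 ha0), ?_, hl, fun c k hk h => ?_⟩
  · rw [map_mul, map_mul, mul_pow, mul_pow, ← D.norm_pow, ← D.norm_pow, hk₀, hκQ, haN]
    have : Algebra.norm F (-κ) = -Algebra.norm F κ := by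
      have e1 : (-κ) = algebraMap F K (-1) * κ := by rw [map_neg, map_one, neg_one_mul]
      rw [e1, map_mul, Algebra.norm_algebraMap, hodd.neg_one_pow, neg_one_mul]
    rw [this]
    ring
  · apply hak c (k * (k₀ * κ)⁻¹)
    · have hkQ : k ^ Q = -k := by linear_combination hk
      rw [mul_pow, inv_pow, mul_pow, hkQ, hk₀, hκQ]
      have : k₀ * κ ≠ 0 := mul_ne_zero hk₀0 hκ0
      field_simp
    · have h1 : k₀ * κ ≠ 0 := mul_ne_zero hk₀0 hκ0
      rw [← smul_mul_assoc, ← h]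
      field_simp

end Cfsg.Agent.H930.ExtU
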