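import Cfsg.Agent.H930.ExtVB

/-!
# The case `m = 2`: full vectors, `q ≥ 3`
-/

set_option autoImplicit false
set_option linter.unusedSectionVars false
set_option linter.unusedSimpArgs false

namespace Cfsg.Agent.H930.ExtU

open Module Cfsg Cfsg.Agent.LieClassical.HermBasic Cfsg.Agent.LieClassical.HermSiegel Cfsg.Agent.H879
open Cfsg.Agent.LieClassical.HermGen

variable {F K : Type*} [Field F] [Fintype F] [Field K] [Fintype K] [Algebra F K] {q Q m : ℕ} {ℓ : K →ₗ[F] F}
variable {M : Subgroup ((Fin m → K) ≃ₗ[F] (Fin m → K))} (D : Data q Q ℓ) (h : Hyp Q ℓ M)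

/-- All transvections with centre `z` are in `M`. -/
def Full (q Q : ℕ) (ℓ : K →ₗ[F] F) (M : Subgroup ((Fin m → K) ≃ₗ[F] (Fin m → K))) (z : Fin m → K) : Prop :=
  ∀ e : F, e + e ^ q = 0 → Has M (FT Q ℓ z e)

theorem FT_add {z : Fin m → K} (hz : ℓ (hermForm m K Q z z) = 0) {e e' : F} (h1 : Has M (FT Q ℓ z e))
    (h2 : Has M (FT Q ℓ z e')) : Has M (FT Q ℓ z (e + e')) := by
  refine (h1.comp h2).congr fun x => ?_
  rw [FT_apply, FT_apply, FT_apply]
  have e1 : hermForm m K Q (x + (e' * ℓ (hermForm m K Q x z)) • z) z =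
      hermForm m K Q x z + algebraMap F K (e' * ℓ (hermForm m K Q x z)) * hermForm m K Q z z := by
    rw [herm_add_left, ← algebraMap_smul K (e' * _) z, herm_smul_left]
  rw [e1, map_add, ell_alg', hz, mul_zero, add_zero, add_assoc, ← add_smul]
  congr 2
  ring

theorem FT_neg {z : Fin m → K} (hz : ℓ (hermForm m K Q z z) = 0) {e : F} (h1 : Has M (FT Q ℓ z e)) :
    Has M (FT Q ℓ z (-e)) := by
  refine h1.inv fun x => ?_
  rw [FT_apply, FT_apply]
  have e1 : hermForm m K Q (x + (-e * ℓ (hermForm m K Q x z)) • z) z =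
      hermForm m K Q x z + algebraMap F K (-e * ℓ (hermForm m K Q x z)) * hermForm m K Q z z := by
    rw [herm_add_left, ← algebraMap_smul K (-e * _) z, herm_smul_left]
  rw [e1, map_add, ell_alg', hz, mul_zero, add_zero, add_assoc, ← add_smul]
  have : -e * ℓ (hermForm m K Q x z) + e * ℓ (hermForm m K Q x z) = 0 := by ring
  rw [this, zero_smul, add_zero]

include D in
theorem FT_smul {z : Fin m → K} {e : F} (c : F) (h1 : Has M (FT Q ℓ z (c * c ^ q * e))) :
    Has M (FT Q ℓ (c • z) e) := by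
  refine h1.congr fun x => ?_
  rw [FT_apply, FT_apply, ← algebraMap_smul K c z, herm_smul_right, D.alg, ell_alg', algebraMap_smul, smul_smul]
  congr 2
  ring

include D in
theorem Full.smul {z : Fin m → K} (hz : Full q Q ℓ M z) (c : F) : Full q Q ℓ M (c • z) := by
  intro e he
  apply FT_smul D
  apply hz
  rw [mul_pow, mul_pow, pow_q_pow_q D.hF]
  linear_combination (c * c ^ q) * he

theorem Full.map (h : Hyp Q ℓ M) {z : Fin m → K} (hz : Full q Q ℓ M z) {t : (Fin m → K) ≃ₗ[F] (Fin m → K)} (ht : t ∈ M) :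
    Full q Q ℓ M (t z) := fun e he => FT_conj h ht (hz e he)

theorem Full.has (h : Hyp Q ℓ M) {z : Fin m → K} (hz : Full q Q ℓ M z) {T : (Fin m → K) → (Fin m → K)} (hT : Has M T) :
    Full q Q ℓ M (T z) := by
  obtain ⟨t, ht, hte⟩ := hT
  rw [← hte]
  exact hz.map h ht

include D h in
theorem Full.add {z₁ z₂ : Fin m → K} (h1 : Full q Q ℓ M z₁) (h2 : Full q Q ℓ M z₂)
    (hz1 : ℓ (hermForm m K Q z₁ z₁) = 0) (hz2 : ℓ (hermForm m K Q z₂ z₂) = 0)
    (h0 : ℓ (hermForm m K Q z₂ z₁) ≠ 0) (h12 : ℓ (hermForm m K Q (z₂ + z₁) (z₂ + z₁)) = 0) :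
    Full q Q ℓ M (z₂ + z₁) := by
  have hw : ℓ (hermForm m K Q z₂ z₁) + ℓ (hermForm m K Q z₂ z₁) ^ q = 0 := by
    rw [herm_add_left, herm_add_right D.hK, herm_add_right D.hK, herm_swap D.hK z₂ z₁, map_add, map_add, map_add, hz1,
      hz2, zero_add, add_zero, D.lpow] at h12
    exact h12
  have he : (ℓ (hermForm m K Q z₂ z₁))⁻¹ + (ℓ (hermForm m K Q z₂ z₁))⁻¹ ^ q = 0 := by
    have h3 : ℓ (hermForm m K Q z₂ z₁) ^ q = -ℓ (hermForm m K Q z₂ z₁) := by linear_combination hw
    rw [inv_pow, h3, inv_neg, add_neg_cancel]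
  have h3 := h2.has h (h1 _ he)
  rw [FT_apply, inv_mul_cancel₀ h0, one_smul] at h3
  exact h3

/-! ### The first full vector -/

theorem TA_sub {a : Fin m → K} (ha : hermForm m K Q a a = 0) {A B : K → K} (hA : Has M (TA Q a A)) (hB : Has M (TA Q a B)) :
    Has M (TA Q a fun x => A x - B x) := by
  have hB' : Has M (TA Q a fun x => -B x) := by
    refine hB.inv fun x => ?_
    rw [TA_apply, TA_apply, herm_add_left, herm_smul_left, ha, mul_zero, add_zero, neg_smul]
    abel
  refine (hA.comp hB').congr fun x => ?_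
  rw [TA_apply, TA_apply, TA_apply, herm_add_left, herm_smul_left, ha, mul_zero, add_zero, sub_smul, neg_smul]
  abel

theorem ft_of_TA {lam : K} (hlam : lam + lam ^ Q = 0) {e : F} {a : Fin m → K}
    (hA : Has M (TA Q a fun y => -(algebraMap F K (e * ℓ (lam * y)) * lam))) : Has M (FT Q ℓ (lam • a) e) := by
  have hlQ : lam ^ Q = -lam := by linear_combination hlam
  refine hA.congr fun x => ?_
  rw [TA_apply, FT_apply, herm_smul_right, hlQ, ← algebraMap_smul K (e * _), smul_smul, neg_mul, map_neg, mul_neg, map_neg,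
    neg_mul]

include D h in
/-- `q ≥ 3`: a full isotropic vector. -/
theorem Hyp.exists_full (hr : 2 ≤ finrank F K) (hq : 3 ≤ q) (hN : Norml Q ℓ M) :
    ∃ u : Fin m → K, u ≠ 0 ∧ hermForm m K Q u u = 0 ∧ Full q Q ℓ M u := by
  obtain ⟨g, hg, a, v, ha, hv, h1, h2⟩ := hN
  obtain ⟨κ, hκ, hκ0⟩ := D.exists_skew_ne
  obtain ⟨lam, hlam0, hlam, hll⟩ := D.exists_skew_ker hr
  have ha0 : a ≠ 0 := by
    rintro rfl
    have h3 := h1 κ
    rw [herm_zero_right D.hK] at h3
    exact hκ0 ((map_eq_zero (algebraMap F K)).1 h3.symm)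
  obtain ⟨x, hxq, hx⟩ : ∃ x : F, x ^ q = x ∧ x ^ 2 - x ≠ 0 := by
    by_contra hcon
    push Not at hcon
    have h3 := card_fixed D.hF
    have h4 : Nat.card {x : F // x ^ q = x} ≤ 2 := by
      classical
      let f : {x : F // x ^ q = x} → Fin 2 := fun x => if (x : F) = 0 then 0 else 1
      have hf : Function.Injective f := by
        rintro ⟨x, hx⟩ ⟨y, hy⟩ hxy
        have hx1 : x = 0 ∨ x = 1 := by
          have h5 : x * (x - 1) = 0 := by linear_combination hcon x hx
          rcases mul_eq_zero.1 h5 with h6 | h6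
          · exact Or.inl h6
          · exact Or.inr (sub_eq_zero.1 h6)
        have hy1 : y = 0 ∨ y = 1 := by
          have h5 : y * (y - 1) = 0 := by linear_combination hcon y hy
          rcases mul_eq_zero.1 h5 with h6 | h6
          · exact Or.inl h6
          · exact Or.inr (sub_eq_zero.1 h6)
        rcases hx1 with rfl | rfl <;> rcases hy1 with rfl | rfl <;> simp_all [f]
      have := Nat.card_le_card_of_injective f hf
      simpa using this
    omega
  have hκx : x • κ + (x • κ) ^ Q = 0 := by rw [D.smul_pow, hxq, ← smul_add, hκ, smul_zero]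
  have hcq : ℓ κ ^ q = -ℓ κ := by
    have : κ ^ Q = -κ := by linear_combination hκ
    rw [← D.lpow, this, map_neg]
  obtain ⟨e₁, he₁⟩ : ∃ e₁ : F, e₁ = (x ^ 2 - x) * ℓ κ ^ 3 := ⟨_, rfl⟩
  have he₁0 : e₁ ≠ 0 := by rw [he₁]; exact mul_ne_zero hx (pow_ne_zero _ hκ0)
  have he₁q : e₁ + e₁ ^ q = 0 := by
    rw [he₁, mul_pow, sub_pow_q D.hF, ← pow_mul, mul_comm 2, pow_mul, hxq, ← pow_mul, mul_comm 3, pow_mul, hcq]
    ring
  have hu : hermForm m K Q (lam • a) (lam • a) = 0 := by
    rw [herm_smul_left, herm_smul_right, ha, mul_zero, mul_zero]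
  have hlu : ℓ (hermForm m K Q (lam • a) (lam • a)) = 0 := by rw [hu, map_zero]
  -- multiples by squares
  have hsq : ∀ c : F, c ^ q = c → Has M (FT Q ℓ (lam • a) (c ^ 2 * e₁)) := by
    intro c hc
    by_cases hc0 : c = 0
    · refine (has_id).congr fun y => ?_
      rw [FT_apply, hc0]
      simp
    have hl' : c • lam + (c • lam) ^ Q = 0 := by rw [D.smul_pow, hc, ← smul_add, hlam, smul_zero]
    have hll' : ℓ (c • lam) = 0 := by rw [map_smul, hll, smul_zero]
    have hA1 := h.has_key D hg ha hv h1 h2 hl' hκx hκ hll'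
    have hA2 := h.has_key D hg ha hv h1 h2 hl' hκ hκx hll'
    have hA3 : Has M (FT Q ℓ ((c • lam) • a) e₁) := by
      apply ft_of_TA hl'
      refine (TA_sub ha hA1 hA2).congr fun y => ?_
      rw [TA_apply, TA_apply]
      congr 2
      have e1 : ℓ (x • κ) = x * ℓ κ := by rw [map_smul, smul_eq_mul]
      have e2 : ℓ (x • κ * hermForm m K Q y a) = x * ℓ (κ * hermForm m K Q y a) := by
        rw [smul_mul_assoc, map_smul, smul_eq_mul]
      rw [e1, e2, he₁]
      simp only [Algebra.smul_def, map_mul, map_sub, map_pow]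
      ring
    have hA4 : Has M (FT Q ℓ (c⁻¹ • (c • lam) • a) (c ^ 2 * e₁)) := by
      apply FT_smul D
      refine hA3.congr fun y => ?_
      rw [FT_apply, FT_apply, inv_pow, hc]
      congr 2
      field_simp
    rwa [← smul_assoc, ← smul_assoc, smul_eq_mul, inv_mul_cancel₀ hc0, one_smul] at hA4
  refine ⟨lam • a, smul_ne_zero hlam0 ha0, hu, fun e he => ?_⟩
  obtain ⟨s, hs⟩ : ∃ s : F, s = e / e₁ := ⟨_, rfl⟩
  have hsq' : s ^ q = s := by
    have h3 : e ^ q = -e := by linear_combination he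
    have h4 : e₁ ^ q = -e₁ := by linear_combination he₁q
    rw [hs, div_pow, h3, h4, neg_div_neg_eq]
  have hes : e = s * e₁ := by rw [hs]; field_simp
  by_cases h2F : (2 : F) = 0
  · -- characteristic two: `s` is a square
    have : CharP F 2 := CharTwo.of_one_ne_zero_of_two_eq_zero one_ne_zero h2F
    obtain ⟨c, hc⟩ := FiniteField.isSquare_of_char_two (F := F) (ringChar.eq F 2) s
    have hcq : c ^ q = c := by
      have h3 : (c ^ q - c) * (c ^ q - c) = 0 := by
        have h4 : c ^ q * c ^ q = s := by rw [← mul_pow, ← hc, hsq']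
        linear_combination h4 - hc + (s - c ^ q * c) * h2F
      rcases mul_eq_zero.1 h3 with h4 | h4 <;> exact sub_eq_zero.1 h4
    have := hsq c hcq
    rw [pow_two, ← hc, ← hes] at this
    exact this
  · obtain ⟨c, hc⟩ : ∃ c : F, c = s / 2 := ⟨_, rfl⟩
    have h2q : (2 : F) ^ q = 2 := by
      have h3 := add_pow_q D.hF 1 1
      rw [one_pow] at h3
      rw [← one_add_one_eq_two, h3]
    have hcq : c ^ q = c := by rw [hc, div_pow, hsq', h2q]
    have h3 := hsq (c + 1) (by rw [add_pow_q D.hF, hcq, one_pow])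
    have h4 := hsq c hcq
    have h5 := hsq 1 (one_pow _)
    have h6 := FT_add hlu (FT_add hlu h3 (FT_neg hlu h4)) (FT_neg hlu h5)
    have e1 : (c + 1) ^ 2 * e₁ + -(c ^ 2 * e₁) + -(1 ^ 2 * e₁) = e := by
      rw [hes]
      have : s = 2 * c := by rw [hc]; field_simp
      rw [this]
      ring
    rwa [e1] at h6

end Cfsg.Agent.H930.ExtU
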