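import Cfsg.Agent.H930.ExtVC

/-!
# The case `m = 2`: from one full isotropic vector to all full vectors
-/

set_option autoImplicit false
set_option linter.unusedSectionVars false
set_option linter.unusedSimpArgs false

namespace Cfsg.Agent.H930.ExtU

open Module Cfsg Cfsg.Agent.LieClassical.HermBasic Cfsg.Agent.LieClassical.HermSiegel Cfsg.Agent.H879
open Cfsg.Agent.LieClassical.HermGen

variable {F K : Type*} [Field F] [Fintype F] [Field K] [Fintype K] [Algebra F K] {q Q : ℕ} {ℓ : K →ₗ[F] F}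
variable {M : Subgroup ((Fin 2 → K) ≃ₗ[F] (Fin 2 → K))}

/-- `M` contains all isometries of `K²` with determinant of norm one. -/
def Big (Q : ℕ) (M : Subgroup ((Fin 2 → K) ≃ₗ[F] (Fin 2 → K))) : Prop :=
  ∀ A : (Fin 2 → K) ≃ₗ[K] (Fin 2 → K),
    (∀ x y, hermForm 2 K Q (A x) (A y) = hermForm 2 K Q x y) →
    Algebra.norm F (LinearMap.det (A : (Fin 2 → K) →ₗ[K] (Fin 2 → K))) = 1 → Has M A

variable (D : Data q Q ℓ) (h : Hyp Q ℓ M) (hB : Big Q M)

include D hB in
theorem Big.lin {T : (Fin 2 → K) →ₗ[K] (Fin 2 → K)} (hT : ∀ x y, hermForm 2 K Q (T x) (T y) = hermForm 2 K Q x y)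
    (hd : Algebra.norm F (LinearMap.det T) = 1) : Has M T := by
  have hinj : Function.Injective T := by
    rw [injective_iff_map_eq_zero]
    intro x hx
    apply herm_nondeg D.hK
    intro y
    rw [← hT, hx, herm_zero_left]
  have he : ((LinearEquiv.ofInjectiveEndo T hinj : (Fin 2 → K) ≃ₗ[K] (Fin 2 → K)) : (Fin 2 → K) →ₗ[K] (Fin 2 → K)) = T :=
    LinearMap.ext fun x => rfl
  have h1 := hB (LinearEquiv.ofInjectiveEndo T hinj) (fun x y => hT x y) (by rw [he]; exact hd)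
  exact h1

include D in
theorem exists_hp {u : Fin 2 → K} (hu0 : u ≠ 0) (hu : hermForm 2 K Q u u = 0) : ∃ p, HP Q p u := by
  obtain ⟨p, hp, -, hpu⟩ := GUSub.exists_partner D.hK (w := 0) hu (herm_zero_right D.hK _) (fun c hc => hu0 (by
    rw [hc, smul_zero]))
  exact ⟨p, hp, hu, hpu⟩

include D h hB in
/-- A full vector which is not isotropic over `K`. -/
theorem Hyp.exists_full_ne (hodd : Odd (finrank F K)) (hr3 : 3 ≤ finrank F K) (hex : ¬ (finrank F K = 3 ∧ q = 2))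
    {u : Fin 2 → K} (hu0 : u ≠ 0) (hu : hermForm 2 K Q u u = 0) (hfu : Full q Q ℓ M u) :
    ∃ z, hermForm 2 K Q z z ≠ 0 ∧ ℓ (hermForm 2 K Q z z) = 0 ∧ Full q Q ℓ M z := by
  obtain ⟨ξ, hξ0, hξN, hξl, hξ⟩ := D.exists_xi hodd hr3 hex
  obtain ⟨p, P⟩ := exists_hp D hu0 hu
  have P' := P.symm D.hK
  -- move `u` to `ξ p`
  have hTdet : Algebra.norm F (LinearMap.det (HP.map Q u p p u ξ)) = 1 := by
    have h1 := P'.map_fst D.hK p u ξ
    have h2 := P'.map_snd D.hK p u ξ
    rw [P'.det_eq D.hK (T := HP.map Q u p p u ξ) (α := 0) (β := ξ) (γ := (ξ ^ Q)⁻¹) (δ := 0)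
      (by rw [h1, zero_smul, zero_add]) (by rw [h2, zero_smul, add_zero])]
    have e1 : (0 : K) * 0 - (ξ ^ Q)⁻¹ * ξ = algebraMap F K (-1) * (ξ * (ξ ^ Q)⁻¹) := by
      rw [map_neg, map_one]; ring
    have hN0 : Algebra.norm F ξ ≠ 0 := by
      have := D.finDim
      exact Algebra.norm_ne_zero_iff.2 hξ0
    rw [e1, map_mul, D.norm_pow_one_sub, Algebra.norm_algebraMap, hodd.neg_one_pow, hξN]
    field_simp
  have hT := Big.lin D hB (P'.map_iso D.hK P hξ0) hTdet
  have h1 : Full q Q ℓ M (ξ • p) := by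
    have := hfu.has h hT
    rwa [P'.map_fst D.hK] at this
  -- scale
  obtain ⟨ε, hε0, hε⟩ := exists_trace_zero_ne D.hF
  obtain ⟨c, hc⟩ : ∃ c : F, c = ε / ℓ ξ := ⟨_, rfl⟩
  have hc0 : c ≠ 0 := by rw [hc]; exact div_ne_zero hε0 hξl
  have hlη : ℓ (c • ξ) = ε := by rw [map_smul, smul_eq_mul, hc]; field_simp
  have h2 : Full q Q ℓ M ((c • ξ) • p) := by
    rw [smul_assoc]
    exact h1.smul D c
  have hu' : ℓ (hermForm 2 K Q u u) = 0 := by rw [hu, map_zero]
  have hp' : hermForm 2 K Q ((c • ξ) • p) ((c • ξ) • p) = 0 := by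
    rw [herm_smul_left, herm_smul_right, P.aa, mul_zero, mul_zero]
  have hpu : hermForm 2 K Q ((c • ξ) • p) u = c • ξ := by rw [herm_smul_left, P.ab, mul_one]
  have hup : hermForm 2 K Q u ((c • ξ) • p) = (c • ξ) ^ Q := by rw [herm_swap D.hK ((c • ξ) • p) u, hpu]
  have hnorm : hermForm 2 K Q ((c • ξ) • p + u) ((c • ξ) • p + u) = c • ξ + (c • ξ) ^ Q := by
    rw [herm_add_left, herm_add_right D.hK, herm_add_right D.hK, hp', hpu, hup, hu]
    ring
  have hnl : ℓ (hermForm 2 K Q ((c • ξ) • p + u) ((c • ξ) • p + u)) = 0 := by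
    rw [hnorm, map_add, D.lpow, hlη, hε]
  refine ⟨(c • ξ) • p + u, ?_, hnl, ?_⟩
  · rw [hnorm]
    intro h0
    apply hξ c⁻¹ (c • ξ) h0
    rw [smul_smul, inv_mul_cancel₀ hc0, one_smul]
  · exact Full.add D h hfu h2 hu' (by rw [hp', map_zero]) (by rw [hpu, hlη]; exact hε0) hnl

include D in
/-- A vector of given norm with given product with an isotropic vector. -/
theorem exists_of_norm {u : Fin 2 → K} (hu0 : u ≠ 0) (hu : hermForm 2 K Q u u = 0) {γ w : K} (hγ : γ ^ Q = γ)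
    (hw : w ≠ 0) : ∃ y, hermForm 2 K Q y y = γ ∧ hermForm 2 K Q u y = w := by
  obtain ⟨p, P⟩ := exists_hp D hu0 hu
  obtain ⟨t, ht⟩ := exists_trace_eq D.hK hγ
  have hwQ : w ^ Q ≠ 0 := pow_ne_zero _ hw
  refine ⟨w ^ Q • p + (t / w) • u, ?_, ?_⟩
  · simp only [herm_add_left, herm_add_right D.hK, herm_smul_left, herm_smul_right, P.aa, P.bb, P.ab, P.ba D.hK,
      pow_q_pow_q D.hK, div_pow]
    rw [← ht]
    field_simp
    ring
  · rw [herm_add_right D.hK, herm_smul_right, herm_smul_right, P.ba D.hK, hu, pow_q_pow_q D.hK, mul_one, mul_zero, add_zero]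

include D h in
theorem Hyp.full_of_norm {z z' : Fin 2 → K} (hz : hermForm 2 K Q z z ≠ 0)
    (hzz' : hermForm 2 K Q z z = hermForm 2 K Q z' z') (hf : Full q Q ℓ M z) : Full q Q ℓ M z' := by
  obtain ⟨g, hg⟩ := exists_SU_norm D.hK (m := 2) le_rfl (by omega) hzz' hz
  have := hf.has h (h.su g)
  rwa [hg] at this

include D h in
/-- From one full non-isotropic vector and a full isotropic one to all non-isotropic ones. -/
theorem Hyp.full_all_ne {u z : Fin 2 → K} (hu0 : u ≠ 0) (hu : hermForm 2 K Q u u = 0)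
    (hfu : Full q Q ℓ M u) (hz : hermForm 2 K Q z z ≠ 0) (hlz : ℓ (hermForm 2 K Q z z) = 0) (hfz : Full q Q ℓ M z)
    {z' : Fin 2 → K} (hz' : hermForm 2 K Q z' z' ≠ 0) (hlz' : ℓ (hermForm 2 K Q z' z') = 0) : Full q Q ℓ M z' := by
  -- the product
  obtain ⟨w, hw, hlw⟩ : ∃ w : K, w + w ^ Q = hermForm 2 K Q z' z' - hermForm 2 K Q z z ∧ ℓ w ≠ 0 := by
    obtain ⟨w, hw⟩ := exists_trace_eq D.hK (c := hermForm 2 K Q z' z' - hermForm 2 K Q z z) (by
      rw [sub_pow_q D.hK, herm_self_pow D.hK, herm_self_pow D.hK])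
    by_cases hlw : ℓ w = 0
    · obtain ⟨κ, hκ, hκ0⟩ := D.exists_skew_ne
      refine ⟨w + κ, ?_, by rw [map_add, hlw, zero_add]; exact hκ0⟩
      rw [add_pow_q D.hK]
      linear_combination hw + hκ
    · exact ⟨w, hw, hlw⟩
  have hw0 : w ≠ 0 := by
    rintro rfl
    exact hlw (map_zero _)
  obtain ⟨y, hy, huy⟩ := exists_of_norm D hu0 hu (herm_self_pow D.hK z) hw0
  obtain ⟨g, hg⟩ := exists_SU_norm D.hK (m := 2) le_rfl (by omega) (z := y) (z' := z) hy (by rw [hy]; exact hz)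
  have hfgu := hfu.has h (h.su g)
  have hgu : hermForm 2 K Q (act g u) (act g u) = 0 := by rw [herm_act, hu]
  have hguz : hermForm 2 K Q (act g u) z = w := by rw [← hg, herm_act, huy]
  have hzgu : hermForm 2 K Q z (act g u) = w ^ Q := by rw [herm_swap D.hK (act g u) z, hguz]
  have hnorm : hermForm 2 K Q (act g u + z) (act g u + z) = hermForm 2 K Q z' z' := by
    rw [herm_add_left, herm_add_right D.hK, herm_add_right D.hK, hgu, hguz, hzgu]
    linear_combination hw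
  have hf := Full.add D h hfz hfgu hlz (by rw [hgu, map_zero]) (by rw [hguz]; exact hlw) (by rw [hnorm]; exact hlz')
  exact h.full_of_norm D (by rw [hnorm]; exact hz') hnorm hf

include D h hB in
/-- **All vectors are full.** -/
theorem Hyp.full_all (hodd : Odd (finrank F K)) (hr3 : 3 ≤ finrank F K) (hex : ¬ (finrank F K = 3 ∧ q = 2))
    {u : Fin 2 → K} (hu0 : u ≠ 0) (hu : hermForm 2 K Q u u = 0) (hfu : Full q Q ℓ M u)
    {x : Fin 2 → K} (hx : ℓ (hermForm 2 K Q x x) = 0) : Full q Q ℓ M x := by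
  obtain ⟨z, hz, hlz, hfz⟩ := h.exists_full_ne D hB hodd hr3 hex hu0 hu hfu
  have hall : ∀ z' : Fin 2 → K, hermForm 2 K Q z' z' ≠ 0 → ℓ (hermForm 2 K Q z' z') = 0 → Full q Q ℓ M z' :=
    fun z' hz' hlz' => h.full_all_ne D hu0 hu hfu hz hlz hfz hz' hlz'
  by_cases hxx : hermForm 2 K Q x x = 0
  · by_cases hx0 : x = 0
    · subst hx0
      intro e _
      refine (has_id).congr fun y => ?_
      rw [FT_apply, smul_zero, add_zero]
    · obtain ⟨κ, hκ, hκ0⟩ := D.exists_skew_ne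
      have hκ0' : κ ≠ 0 := by
        rintro rfl
        exact hκ0 (map_zero _)
      obtain ⟨y, hy, hxy⟩ := exists_of_norm D hx0 hxx (herm_self_pow D.hK z) hκ0'
      have hyx : hermForm 2 K Q y x = κ ^ Q := by rw [herm_swap D.hK x y, hxy]
      have hd : hermForm 2 K Q (x - y) (x - y) = hermForm 2 K Q z z := by
        rw [herm_sub_left, herm_sub_right D.hK, herm_sub_right D.hK, hxx, hxy, hyx, hy]
        linear_combination -hκ
      have h1 := hall y (by rw [hy]; exact hz) (by rw [hy]; exact hlz)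
      have h2 := hall (x - y) (by rw [hd]; exact hz) (by rw [hd]; exact hlz)
      have h3 := Full.add D h h1 h2 (by rw [hy]; exact hlz) (by rw [hd]; exact hlz) (by
        rw [herm_sub_left, hxy, hy, map_sub, hlz, sub_zero]
        exact hκ0) (by rw [sub_add_cancel]; exact hx)
      rwa [sub_add_cancel] at h3
  · exact hall x hxx hx

end Cfsg.Agent.H930.ExtU
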