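import Cfsg.Agent.H930.ExtVD

/-!
# The case `m = 2`: transvections over `F`, `q = 2`
-/

set_option autoImplicit false
set_option linter.unusedSectionVars false
set_option linter.unusedSimpArgs false

namespace Cfsg.Agent.H930.ExtU

open Module Cfsg Cfsg.Agent.LieClassical.HermBasic Cfsg.Agent.LieClassical.HermSiegel Cfsg.Agent.H879
open Cfsg.Agent.LieClassical.HermGen

variable {F K : Type*} [Field F] [Fintype F] [Field K] [Fintype K] [Algebra F K] {Q m : ℕ} {ℓ : K →ₗ[F] F}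

section Move

variable {M : Subgroup ((Fin 2 → K) ≃ₗ[F] (Fin 2 → K))} (D : Data 2 Q ℓ) (h : Hyp Q ℓ M) (hB : Big Q M)

include D h hB in
/-- `q = 2`: an `F`-linear generalised transvection can be moved to all isotropic centres. -/
theorem Hyp.inA_of_two (hr : (finrank F K).Prime) (hr3 : finrank F K ≠ 3) {a : Fin 2 → K} (ha0 : a ≠ 0)
    (ha : hermForm 2 K Q a a = 0) {A : K → K} (hlin : ∀ (c : F) x, A (algebraMap F K c * x) = algebraMap F K c * A x)
    (hA : Has M (TA Q a A)) : InA Q M A := by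
  have := D.finDim
  intro b hb0 hb
  obtain ⟨p, P⟩ := exists_hp D ha0 ha
  obtain ⟨p', P'⟩ := exists_hp D hb0 hb
  have P1 := P.symm D.hK
  have P2 := P'.symm D.hK
  -- determinants
  obtain ⟨d, hd⟩ : ∃ d : K, d = hermForm 2 K Q b p * hermForm 2 K Q p' a - hermForm 2 K Q p' p * hermForm 2 K Q b a :=
    ⟨_, rfl⟩
  have hdet : ∀ k : K, LinearMap.det (HP.map Q a p b p' k) = k * (k ^ Q)⁻¹ * d := by
    intro k
    have h1 := P1.map_fst D.hK b p' k
    have h2 := P1.map_snd D.hK b p' k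
    rw [P1.det_eq D.hK (T := HP.map Q a p b p' k) (α := k * hermForm 2 K Q b p) (β := k * hermForm 2 K Q b a)
      (γ := (k ^ Q)⁻¹ * hermForm 2 K Q p' p) (δ := (k ^ Q)⁻¹ * hermForm 2 K Q p' a)
      (by rw [h1]; conv_lhs => rw [P1.expand D.hK b]
          rw [smul_add, smul_smul, smul_smul])
      (by rw [h2]; conv_lhs => rw [P1.expand D.hK p']
          rw [smul_add, smul_smul, smul_smul]), hd]
    ring
  have hd0 : d ≠ 0 := by
    intro h0
    have hinj : Function.Injective (HP.map Q a p b p' 1) := by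
      rw [injective_iff_map_eq_zero]
      intro x hx
      apply herm_nondeg D.hK
      intro y
      rw [← P1.map_iso D.hK P2 one_ne_zero, hx, herm_zero_left]
    have h1 := LinearEquiv.isUnit_det' (LinearEquiv.ofInjectiveEndo (HP.map Q a p b p' 1) hinj)
    have he : ((LinearEquiv.ofInjectiveEndo (HP.map Q a p b p' 1) hinj : (Fin 2 → K) ≃ₗ[K] (Fin 2 → K)) :
        (Fin 2 → K) →ₗ[K] (Fin 2 → K)) = HP.map Q a p b p' 1 := LinearMap.ext fun x => rfl
    rw [he, hdet, h0, mul_zero] at h1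
    exact h1.ne_zero rfl
  have hN0 : Algebra.norm F d ≠ 0 := Algebra.norm_ne_zero_iff.2 hd0
  have hN3 : ∀ x : F, x ≠ 0 → x ^ 3 = 1 := by
    intro x hx
    have h1 := FiniteField.pow_card_sub_one_eq_one x hx
    rw [D.hF] at h1
    exact h1
  -- the scalar
  obtain ⟨c, hc0, hc⟩ : ∃ c : F, c ≠ 0 ∧ c ^ finrank F K = Algebra.norm F d := by
    have h3 : finrank F K % 3 = 1 ∨ finrank F K % 3 = 2 := by
      have : finrank F K % 3 ≠ 0 := by
        intro h0
        exact hr3 ((Nat.prime_dvd_prime_iff_eq Nat.prime_three hr).1 (Nat.dvd_of_mod_eq_zero h0)).symm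
      omega
    have hpow : ∀ x : F, x ≠ 0 → x ^ finrank F K = x ^ (finrank F K % 3) := by
      intro x hx
      conv_lhs => rw [← Nat.div_add_mod (finrank F K) 3, pow_add, pow_mul, hN3 x hx, one_pow, one_mul]
    rcases h3 with h3 | h3
    · exact ⟨Algebra.norm F d, hN0, by rw [hpow _ hN0, h3, pow_one]⟩
    · refine ⟨Algebra.norm F d ^ 2, pow_ne_zero _ hN0, ?_⟩
      rw [hpow _ (pow_ne_zero _ hN0), h3, ← pow_mul]
      have : Algebra.norm F d ^ (2 * 2) = Algebra.norm F d ^ 3 * Algebra.norm F d := by ring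
      rw [this, hN3 _ hN0, one_mul]
  have hk0 : algebraMap F K c ≠ 0 := by
    rw [Ne, map_eq_zero]; exact hc0
  have hT := Big.lin D hB (P1.map_iso D.hK P2 hk0) (by
    rw [hdet, D.alg]
    have e1 : algebraMap F K c * (algebraMap F K (c ^ 2))⁻¹ * d = algebraMap F K c⁻¹ * d := by
      rw [map_pow, map_inv₀]
      field_simp
    rw [e1, map_mul, Algebra.norm_algebraMap, inv_pow, hc, inv_mul_cancel₀ hN0])
  obtain ⟨t, ht, hte⟩ := hT
  have hta : t a = algebraMap F K c • b := by rw [hte, P1.map_fst D.hK]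
  have hti : ∀ x, hermForm 2 K Q (t⁻¹ x) a = hermForm 2 K Q x (t a) := by
    intro x
    have h1 := P1.map_iso D.hK P2 hk0 (t⁻¹ x) a
    rw [← hte, ← hte, apply_inv_apply] at h1
    exact h1.symm
  have htl : ∀ (k : K) x, t (k • x) = k • t x := by
    intro k x
    rw [hte, hte, map_smul]
  refine (hA.conj ht).congr fun x => ?_
  rw [TA_apply, TA_apply, map_add, apply_inv_apply, htl, hti, hta, herm_smul_right, D.alg, hlin, smul_smul]
  congr 2
  have e1 : algebraMap F K (c ^ 2) * algebraMap F K c = 1 := by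
    rw [← map_mul, ← pow_succ, hN3 c hc0, map_one]
  linear_combination (A (hermForm 2 K Q x b)) * e1

/-- The operators obtained from the commutators. -/
def ELam {m : ℕ} (Q : ℕ) (ℓ : K →ₗ[F] F) (M : Subgroup ((Fin m → K) ≃ₗ[F] (Fin m → K))) : Prop :=
  ∀ lam mu : K, lam ^ Q = lam → ℓ lam = 0 → mu ^ Q = mu → ℓ mu = 0 → InA Q M (eop Q ℓ lam mu)

include D h hB in
theorem Hyp.elam_two (hr : (finrank F K).Prime) (hr3 : finrank F K ≠ 3) (hN : Norml Q ℓ M) : ELam Q ℓ M := by
  intro lam mu hlam hll hmu hlm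
  obtain ⟨g, hg, a, v, ha, hv, h1, h2⟩ := hN
  obtain ⟨κ, hκ, hκ0⟩ := D.exists_skew_ne
  have ha0 : a ≠ 0 := by
    rintro rfl
    have h3 := h1 κ
    rw [herm_zero_right D.hK] at h3
    exact hκ0 ((map_eq_zero (algebraMap F K)).1 h3.symm)
  have hneg : ∀ x : K, -x = x := fun x => by rw [neg_eq_iff_add_eq_zero]; exact D.char_two x
  have hκs : κ ^ Q = κ := by
    have : κ ^ Q = -κ := by linear_combination hκ
    rw [this, hneg]
  have hκ1 : ℓ κ = 1 := D.fixed_two (D.ell_sym hκs) hκ0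
  refine h.inA_of_two D hB hr hr3 ha0 ha ?_ ((h.has_key D hg ha hv h1 h2 (by rw [hlam]; exact D.char_two _) hκ
    (by rw [hmu]; exact D.char_two _) hll).congr fun z => ?_)
  · intro c x
    rw [eop_def, eop_def, brk_def, brk_def, brk_def, brk_def, mul_assoc, mul_assoc, ell_alg', ell_alg', map_mul (algebraMap F K),
      map_mul (algebraMap F K)]
    ring
  · rw [TA_apply, TA_apply, hκ1, hlm, eop_def, brk_def, brk_def, hlam, hmu, map_one, mul_comm lam (hermForm 2 K Q z a),
      mul_comm mu (hermForm 2 K Q z a)]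
    congr 2
    simp only [mul_zero, zero_mul, map_zero, one_mul, sub_zero]
    ring

end Move

variable {M : Subgroup ((Fin m → K) ≃ₗ[F] (Fin m → K))} (D : Data 2 Q ℓ) (h : Hyp Q ℓ M)

include D h in
/-- All `eop x (c x)` for symmetric `c`. -/
theorem Hyp.eop_sym' (hr : (finrank F K).Prime) (hr3 : 3 ≤ finrank F K) (hE : ELam Q ℓ M) {c : K} (hc : c ^ Q = c)
    (x : K) : InA Q M (eop Q ℓ x (c * x)) := by
  have := D.finDim
  by_cases hx0 : x = 0
  · subst hx0
    refine (h.inA_zero D).congr fun z => ?_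
    rw [eop_def, brk_def, brk_def, mul_zero, mul_zero, zero_add, mul_zero]
  suffices h1 : InA Q M (eop Q ℓ 1 c) by
    have := inA_eop_conj hx0 h1
    rwa [mul_one, mul_comm x c] at this
  have hneg : ∀ x : K, -x = x := fun x => by rw [neg_eq_iff_add_eq_zero]; exact D.char_two x
  obtain ⟨ω, hω⟩ := D.exists_omega
  obtain ⟨lam, hlam0, hlam, hll⟩ := D.exists_skew_ker (by omega)
  have hlQ : lam ^ Q = lam := by
    have : lam ^ Q = -lam := by linear_combination hlam
    rw [this, hneg]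
  -- quotients
  have hquot : ∀ μ₁ μ₂ : K, μ₁ ≠ 0 → μ₁ ^ Q = μ₁ → ℓ μ₁ = 0 → μ₂ ^ Q = μ₂ → ℓ μ₂ = 0 →
      InA Q M (eop Q ℓ 1 (μ₁⁻¹ * μ₂)) := by
    intro μ₁ μ₂ h0 h1 h2 h3 h4
    have := inA_eop_conj (inv_ne_zero h0) (hE _ _ h1 h2 h3 h4)
    rwa [inv_mul_cancel₀ h0] at this
  by_cases hlc : ℓ (lam * c) = 0
  · have := hquot lam (lam * c) hlam0 hlQ hll (by rw [mul_pow, hlQ, hc]) hlc
    rwa [← mul_assoc, inv_mul_cancel₀ hlam0, one_mul] at this
  have hlc1 : ℓ (lam * c) = 1 := D.fixed_two (D.ell_sym (by rw [mul_pow, hlQ, hc])) hlc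
  -- a second element of the kernel
  obtain ⟨z, hz, hzl⟩ : ∃ z : K, ℓ z = 0 ∧ z ∉ Submodule.span F {lam} := by
    by_contra hcon
    push Not at hcon
    have h2 : LinearMap.ker ℓ ≤ Submodule.span F {lam} := fun z hz => hcon z (LinearMap.mem_ker.1 hz)
    have h3 := Submodule.finrank_mono h2
    have h4 := finrank_span_le_card (R := F) ({lam} : Set K)
    simp only [Set.toFinset_singleton, Finset.card_singleton] at h4
    have h5 := LinearMap.finrank_range_add_finrank_ker ℓ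
    have h6 : finrank F (LinearMap.range ℓ) ≤ 1 := by
      have := Submodule.finrank_le (LinearMap.range ℓ)
      rwa [finrank_self] at this
    omega
  obtain ⟨lam₂, hl₂Q, hl₂l, hl₂s⟩ : ∃ lam₂ : K, lam₂ ^ Q = lam₂ ∧ ℓ lam₂ = 0 ∧ lam₂ ∉ Submodule.span F {lam} := by
    obtain ⟨a, b, ha, hb, rfl⟩ := D.exists_decomp hω z
    obtain ⟨hla, hlb⟩ := D.ell_decomp hω ha hb hz
    by_contra hcon
    push Not at hcon
    exact hzl (Submodule.add_mem _ (hcon a ha hla) (Submodule.smul_mem _ _ (hcon b hb hlb)))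
  have hl₂0 : lam₂ ≠ 0 := by
    rintro rfl
    exact hl₂s (Submodule.zero_mem _)
  -- an element moved by the quotient
  obtain ⟨y, hyQ, hyl, hy1⟩ : ∃ y : K, y ^ Q = y ∧ ℓ y = 0 ∧ ℓ (lam * lam₂⁻¹ * y) = 1 := by
    by_contra hcon
    push Not at hcon
    have hker0 : LinearMap.ker ℓ ≠ ⊥ := by
      intro h0
      have : lam ∈ LinearMap.ker ℓ := LinearMap.mem_ker.2 hll
      rw [h0, Submodule.mem_bot] at this
      exact hlam0 this
    have hker1 : LinearMap.ker ℓ ≠ ⊤ := by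
      intro h0
      apply D.lne
      rwa [LinearMap.ker_eq_top] at h0
    have hsymm : ∀ y : K, y ^ Q = y → ℓ y = 0 → ℓ (lam * lam₂⁻¹ * y) = 0 := by
      intro y hy hyl
      by_contra h0
      exact hcon y hy hyl (D.fixed_two (D.ell_sym (by rw [mul_pow, mul_pow, inv_pow, hlQ, hl₂Q, hy])) h0)
    obtain ⟨c, hc⟩ := D.stab_eq hr hker0 hker1 (k := lam * lam₂⁻¹) (by
      intro y hy
      rw [LinearMap.mem_ker] at hy ⊢
      obtain ⟨a, b, ha, hb, rfl⟩ := D.exists_decomp hω y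
      obtain ⟨hla, hlb⟩ := D.ell_decomp hω ha hb hy
      rw [mul_add, mul_smul_comm, map_add, map_smul, hsymm a ha hla, hsymm b hb hlb, smul_zero, add_zero])
    apply hl₂s
    rw [Submodule.mem_span_singleton]
    have hc0 : c ≠ 0 := by
      rintro rfl
      rw [map_zero] at hc
      exact mul_ne_zero hlam0 (inv_ne_zero hl₂0) hc
    refine ⟨c⁻¹, ?_⟩
    have h3 : lam = algebraMap F K c * lam₂ := by rw [← hc, mul_assoc, inv_mul_cancel₀ hl₂0, mul_one]
    rw [h3, ← Algebra.smul_def, smul_smul, inv_mul_cancel₀ hc0, one_smul]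
  -- write `c` as a sum
  have hA1 := hquot lam (lam * c + lam * lam₂⁻¹ * y) hlam0 hlQ hll (by
    rw [add_pow_q D.hK, mul_pow, mul_pow, mul_pow, inv_pow, hlQ, hl₂Q, hc, hyQ]) (by
    rw [map_add, hlc1, hy1]
    have h3 := congrArg (fun z : K => z) (D.char_two 1)
    apply (algebraMap F K).injective
    rw [map_add, map_one, map_zero]
    exact D.char_two 1)
  have hA2 := hquot lam₂ y hl₂0 hl₂Q hl₂l hyQ hyl
  refine (hA1.add hA2).congr fun z => ?_
  have e1 : lam⁻¹ * (lam * c + lam * lam₂⁻¹ * y) = c + lam₂⁻¹ * y := by field_simp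
  rw [e1, eop_def, eop_def, eop_def, brk_add_left, brk_add_right D.hK]
  have e2 := D.char_two (brk Q ℓ 1 (lam₂⁻¹ * y) z)
  have e3 := D.char_two (brk Q ℓ (lam₂⁻¹ * y) 1 z)
  linear_combination e2 + e3

include D h in
theorem Hyp.eop_pol' (hr : (finrank F K).Prime) (hr3 : 3 ≤ finrank F K) (hE : ELam Q ℓ M) {c : K}
    (hc : c ^ Q = c) (x y : K) : InA Q M (fun z => eop Q ℓ x (c * y) z + eop Q ℓ y (c * x) z) := by
  refine (((h.eop_sym' D hr hr3 hE hc (x + y)).sub (h.eop_sym' D hr hr3 hE hc x)).sub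
    (h.eop_sym' D hr hr3 hE hc y)).congr fun z => ?_
  rw [mul_add, eop_add_left D.hK, eop_add_right D.hK, eop_add_right D.hK]
  ring

include D h in
/-- The relation `G(cd, 1) + G(d, c)`. -/
theorem Hyp.gop_rel' (hr : (finrank F K).Prime) (hr3 : 3 ≤ finrank F K) (hE : ELam Q ℓ M) (ε : F) {c : K}
    (hc : c ^ Q = c) (d : K) :
    InA Q M (fun z => eop Q ℓ (algebraMap F K ε * (c * d)) 1 z + eop Q ℓ (algebraMap F K ε * d) c z) := by
  refine (h.eop_pol' D hr hr3 hE hc 1 (algebraMap F K ε * d)).congr fun z => ?_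
  rw [mul_one, eop_comm 1, mul_left_comm]

include D h in
/-- `q = 2`: an operator of rank one. -/
theorem Hyp.exists_brk' (hr : (finrank F K).Prime) (hr3 : 3 ≤ finrank F K) (hE : ELam Q ℓ M) :
    ∃ u : K, u ≠ 0 ∧ u ^ Q = u ∧ InA Q M (brk Q ℓ u u) := by
  obtain ⟨ε, hε⟩ := D.exists_eps
  have hε' : algebraMap F K (ε ^ 2) + algebraMap F K ε = 1 := by rw [← map_add, hε, map_one]
  obtain ⟨Y, _, b, κ, hb, hκ, h1, h2, ht0⟩ := D.exists_dual_basis
  obtain ⟨t, ht⟩ : ∃ t, t = ∑ y, b y * κ y := ⟨_, rfl⟩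
  rw [← ht] at ht0
  have htQ : t ^ Q = t := by
    rw [ht, sum_pow_q D.hK]
    exact Finset.sum_congr rfl fun y _ => by rw [mul_pow, hb, hκ]
  -- the sum of the relations
  have hsum := h.inA_sum D Finset.univ _ (fun y : Y => h.gop_rel' D hr hr3 hE ε (hb y) (κ y))
  have hA : InA Q M (eop Q ℓ (algebraMap F K ε * t) 1) := by
    refine (hsum.sub (h.inA_id D)).congr fun z => ?_
    rw [Finset.sum_add_distrib]
    have e1 : ∑ y, eop Q ℓ (algebraMap F K ε * (b y * κ y)) 1 z = eop Q ℓ (algebraMap F K ε * t) 1 z := by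
      rw [D.gop_eq, ht]
      have e2 : ∀ y, eop Q ℓ (algebraMap F K ε * (b y * κ y)) 1 z = algebraMap F K ε * brk Q ℓ (b y * κ y) 1 z +
          algebraMap F K (ε ^ 2) * brk Q ℓ 1 (b y * κ y) z := fun y => D.gop_eq _ _ _ _
      rw [Finset.sum_congr rfl fun y _ => e2 y, Finset.sum_add_distrib, ← Finset.mul_sum, ← Finset.mul_sum]
      congr 2
      · simp only [brk_def]
        rw [Finset.mul_sum]
      · simp only [brk_def]
        rw [← Finset.sum_mul, ← map_sum, ← map_sum, sum_pow_q D.hK, Finset.mul_sum]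
    have e3 : ∑ y, eop Q ℓ (algebraMap F K ε * κ y) (b y) z = z := by
      rw [Finset.sum_congr rfl fun y _ => D.gop_eq ε (κ y) (b y) z, Finset.sum_add_distrib, ← Finset.mul_sum,
        ← Finset.mul_sum]
      have e4 : ∑ y, brk Q ℓ (κ y) (b y) z = z := by
        conv_rhs => rw [← h2 z]
        refine Finset.sum_congr rfl fun y _ => ?_
        rw [brk_def, hb, Algebra.smul_def]
      have e5 : ∑ y, brk Q ℓ (b y) (κ y) z = z := by
        conv_rhs => rw [← h1 z]
        refine Finset.sum_congr rfl fun y _ => ?_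
        rw [brk_def, hκ, Algebra.smul_def, mul_comm z]
      rw [e4, e5]
      linear_combination z * hε'
    rw [e1, e3, add_sub_cancel_right]
  -- the square root
  have h2K : CharP K 2 := by
    have h3 : (2 : K) = 0 := by
      have := D.char_two 1
      rw [← one_add_one_eq_two]; exact this
    exact CharTwo.of_one_ne_zero_of_two_eq_zero one_ne_zero h3
  obtain ⟨u, hu⟩ := FiniteField.isSquare_of_char_two (F := K) (ringChar.eq K 2) t
  have hu0 : u ≠ 0 := by
    rintro rfl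
    rw [mul_zero] at hu
    exact ht0 hu
  have huQ : u ^ Q = u := by
    have h3 : (u ^ Q - u) * (u ^ Q - u) = 0 := by
      have h4 : u ^ Q * u ^ Q = t := by rw [← mul_pow, ← hu, htQ]
      have h5 := D.char_two (u ^ Q * u)
      linear_combination h4 + hu - h5 + D.char_two (u * u)
    rcases mul_eq_zero.1 h3 with h4 | h4 <;> exact sub_eq_zero.1 h4
  refine ⟨u, hu0, huQ, ?_⟩
  have hB := h.gop_rel' D hr hr3 hE ε huQ u
  rw [← hu] at hB
  refine (hB.sub hA).congr fun z => ?_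
  rw [D.gop_eq ε u u]
  linear_combination (brk Q ℓ u u z) * hε'

include D h in
/-- `q = 2`: some transvection over `F`. -/
theorem Hyp.exists_e_of_two' (hr : (finrank F K).Prime) (hr3 : 3 ≤ finrank F K) (hE : ELam Q ℓ M) :
    ∃ e : F, e ≠ 0 ∧ e + e ^ 2 = 0 ∧ ∀ u, hermForm m K Q u u = 0 → Has M (FT Q ℓ u e) := by
  obtain ⟨u, hu0, huQ, hA⟩ := h.exists_brk' D hr hr3 hE
  have h2 : (1 : F) + 1 = 0 := by
    apply (algebraMap F K).injective
    rw [map_add, map_zero, map_one]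
    exact D.char_two 1
  refine ⟨1, one_ne_zero, by rw [one_pow]; exact h2, fun x hx => ?_⟩
  refine h.ft_of_inA D hu0 (by rw [huQ]; exact D.char_two u) (hA.congr fun z => ?_) hx
  rw [brk_def, huQ, one_mul, mul_comm u z]
  exact (neg_eq_of_add_eq_zero_left (D.char_two _)).symm

end Cfsg.Agent.H930.ExtU
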