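import Cfsg.Agent.H930.HS
import Cfsg.Agent.H930.SpInSU

/-!
# The unitary subfield subgroups of `SU_n(q)`: rational transvections and their parameters

`F₀` a subfield of odd prime index `r` in the field `F` with `q²` elements, `|F₀| = q₀²`. `M` a subgroup of `GL_n(F)`
containing `SU_n(q₀)`. Either `M` contains `SU_n(q)` or all parameters of transvections in `M` with rational centres
are rational.
-/

set_option autoImplicit false
set_option linter.unusedSectionVars false

namespace Cfsg.Agent.H930.GUSub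

open Cfsg Cfsg.Geo Cfsg.Agent.H918 Cfsg.Agent.LieClassical.HermBasic Cfsg.Agent.LieClassical.HermSiegel
open Cfsg.Agent.LieClassical.HermGen Cfsg.Agent.H930 Cfsg.Agent.H873.Sub
open scoped Matrix MatrixGroups

variable {F : Type*} [Field F] [Fintype F] {n q : ℕ} {F₀ : Subfield F} [Fintype F₀] {q₀ : ℕ}

/-- The data: `|F| = q²`, `|F₀| = q₀²` and `x ↦ x^q` restricts to `x ↦ x^q₀`. -/
structure Setup (F₀ : Subfield F) [Fintype F₀] (q q₀ : ℕ) : Prop where
  hF : Fintype.card F = q ^ 2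
  hF₀ : Fintype.card F₀ = q₀ ^ 2
  pow_eq : ∀ x : F₀, (x : F) ^ q = ((x ^ q₀ : F₀) : F)

variable (S : Setup F₀ q q₀)

include S

theorem herm_cv (u v : Fin n → F₀) :
    hermForm n F q (cv F₀ u) (cv F₀ v) = ((hermForm n F₀ q₀ u v : F₀) : F) := by
  simp only [herm_def, cv_apply, S.pow_eq]
  push_cast
  rfl

theorem herm_cv_eq_zero {u v : Fin n → F₀} (h : hermForm n F₀ q₀ u v = 0) :
    hermForm n F q (cv F₀ u) (cv F₀ v) = 0 := by
  rw [herm_cv S, h]; rfl

theorem isSiegel_cv {u w : Fin n → F₀} {μ : F₀} (h : IsSiegel q₀ u w μ) :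
    IsSiegel q (cv F₀ u) (cv F₀ w) (μ : F) := by
  refine ⟨herm_cv_eq_zero S h.iso, herm_cv_eq_zero S h.orth, ?_⟩
  rw [herm_cv S, S.pow_eq]
  have := congrArg (fun z : F₀ => (z : F)) h.tr
  simpa using this

variable {M : Subgroup (GL (Fin n) F)} (hM : subfieldSubgroup F₀ (1 : GL (Fin n) F) ⊓ SUg n F q ≤ M)

omit [Fintype F] [Fintype F₀] S in
theorem rv_one (u : Fin n → F₀) : rv F₀ (1 : GL (Fin n) F) u = cv F₀ u := by
  simp [rv]

include hM

/-- Rational Siegel transformations are in `M`. -/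
theorem hasS_rat {u w : Fin n → F₀} {μ : F₀} (h : IsSiegel q₀ u w μ) :
    HasS q M (cv F₀ u) (cv F₀ w) (μ : F) := by
  have hs := isSiegel_cv S h
  apply hasS_of_mem S.hF hs
  apply hM
  refine ⟨?_, suHom_mem _⟩
  apply mem_subfieldSubgroup_of_rat
  intro x
  rw [rv_one, coe_suHom]
  refine ⟨x + hermForm n F₀ q₀ x u • w + (μ * hermForm n F₀ q₀ x u - hermForm n F₀ q₀ x w) • u, ?_⟩
  rw [rv_one, cv_add, cv_add, cv_smul, cv_smul]
  have := siegelMat_mulVec (q := q) (cv F₀ u) (cv F₀ w) (μ : F) (cv F₀ x)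
  rw [herm_cv S, herm_cv S] at this
  push_cast
  exact this

/-- The elements of the group generated by the Siegel transformations over `F₀` lift to `M`. -/
theorem exists_lift {g : SU n F₀ q₀} (hg : g ∈ siegelGroup S.hF₀ n) :
    ∃ t ∈ M, (∀ x y, hermForm n F q ((t : Matrix (Fin n) (Fin n) F) *ᵥ x) ((t : Matrix (Fin n) (Fin n) F) *ᵥ y) =
      hermForm n F q x y) ∧ ∀ x : Fin n → F₀, (t : Matrix (Fin n) (Fin n) F) *ᵥ cv F₀ x = cv F₀ (act g x) := by
  induction hg using Subgroup.closure_induction with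
  | mem g hg =>
    obtain ⟨u, w, μ, h, rfl⟩ := hg
    obtain ⟨hs, -⟩ := hasS_rat S hM h
    refine ⟨_, (hasS_rat S hM h).mem_of S.hF hs, (suHom_mem (siegel S.hF _ _ _ hs)).1, fun x => ?_⟩
    rw [coe_suHom, act_siegel, cv_add, cv_add, cv_smul, cv_smul]
    have := siegelMat_mulVec (q := q) (cv F₀ u) (cv F₀ w) (μ : F) (cv F₀ x)
    rw [herm_cv S, herm_cv S] at this
    push_cast
    exact this
  | one => exact ⟨1, M.one_mem, fun x y => by simp, fun x => by simp [act_one]⟩
  | mul a b _ _ ha hb =>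
    obtain ⟨s, hs, hsu, hsx⟩ := ha
    obtain ⟨t, ht, htu, htx⟩ := hb
    refine ⟨s * t, M.mul_mem hs ht, fun x y => ?_, fun x => ?_⟩
    · rw [Units.val_mul, ← Matrix.mulVec_mulVec, ← Matrix.mulVec_mulVec, hsu, htu]
    · rw [Units.val_mul, ← Matrix.mulVec_mulVec, htx, hsx, act_mul]
  | inv a _ ha =>
    obtain ⟨s, hs, hsu, hsx⟩ := ha
    refine ⟨s⁻¹, M.inv_mem hs, fun x y => ?_, fun x => ?_⟩
    · rw [← hsu, mulVec_inv, mulVec_inv]
    · have := hsx (act a⁻¹ x)
      rw [act_act_inv] at this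
      rw [← this, inv_mulVec]

/-- Transitivity of `M` on rational isotropic vectors. -/
theorem exists_move (hn : 3 ≤ n) {u u' : Fin n → F₀} (h0 : u ≠ 0) (h0' : u' ≠ 0)
    (hu : hermForm n F₀ q₀ u u = 0) (hu' : hermForm n F₀ q₀ u' u' = 0) :
    ∃ t ∈ M, (∀ x y, hermForm n F q ((t : Matrix (Fin n) (Fin n) F) *ᵥ x) ((t : Matrix (Fin n) (Fin n) F) *ᵥ y) =
      hermForm n F q x y) ∧ (t : Matrix (Fin n) (Fin n) F) *ᵥ cv F₀ u = cv F₀ u' ∧
      ∀ x : Fin n → F₀, ∃ y, (t : Matrix (Fin n) (Fin n) F) *ᵥ cv F₀ x = cv F₀ y := by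
  obtain ⟨g, hg, hgu⟩ := exists_map_iso S.hF₀ hn le_rfl (mem_coordSub_top u) (mem_coordSub_top u') h0 h0' hu hu'
  obtain ⟨t, ht, htu, htx⟩ := exists_lift S hM hg.1
  exact ⟨t, ht, htu, by rw [htx, hgu], fun x => ⟨_, htx x⟩⟩

/-- One rational centre, all rational centres. -/
theorem one_all (hn : 3 ≤ n) {u u' : Fin n → F₀} (h0 : u ≠ 0) (h0' : u' ≠ 0)
    (hu : hermForm n F₀ q₀ u u = 0) (hu' : hermForm n F₀ q₀ u' u' = 0) {d : F}
    (h : HasS q M (cv F₀ u) 0 d) : HasS q M (cv F₀ u') 0 d := by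
  obtain ⟨t, ht, htu, htuu, -⟩ := exists_move S hM hn h0 h0' hu hu'
  have := h.conj ht htu
  rwa [htuu, Matrix.mulVec_zero] at this

/-- Scaling by norms. -/
theorem norm_scale {u : Fin n → F₀} (h : ∀ c : F₀, c ≠ 0 → ∀ d : F, HasS q M (cv F₀ u) 0 d → HasS q M (cv F₀ (c • u)) 0 d)
    {d : F} (hd : HasS q M (cv F₀ u) 0 d) {s : F₀} (hs : s ^ q₀ = s) : HasS q M (cv F₀ u) 0 (s * d) := by
  by_cases hs0 : s = 0
  · subst hs0
    have : HasS q M (cv F₀ u) 0 ((0 : F₀) : F) := by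
      have h1 := hd.cancel S.hF hd
      rw [sub_self] at h1
      exact h1
    simpa using this
  obtain ⟨c, hc0, hc⟩ := exists_norm_eq_ne S.hF₀ hs hs0
  have h1 := h c hc0 d hd
  rw [cv_smul] at h1
  have h2 := h1.smul_center S.hF (by simpa using hc0)
  refine h2.congr (smul_zero _) ?_
  rw [S.pow_eq]
  have := congrArg (fun z : F₀ => (z : F)) hc
  simp only [MulMemClass.coe_mul] at this
  rw [this]

omit M hM

/-! ### Existence of vectors over `F₀` -/

omit S in
/-- A vector orthogonal to `w` but not to `v`. -/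
theorem exists_dual {K : Type*} [Field K] [Fintype K] {q₀ : ℕ} (hK : Fintype.card K = q₀ ^ 2) {w v : Fin n → K}
    (hind : ∀ c : K, v ≠ c • w) : ∃ x : Fin n → K, hermForm n K q₀ x w = 0 ∧ hermForm n K q₀ x v ≠ 0 := by
  by_contra hcon
  push Not at hcon
  by_cases hw : w = 0
  · subst hw
    have hv0 : v ≠ 0 := by
      intro h
      exact hind 0 (by rw [h, smul_zero])
    obtain ⟨y, hy⟩ := exists_herm_ne_zero hK hv0
    apply hy
    apply herm_eq_zero_swap hK
    exact hcon y (herm_zero_right hK y)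
  · obtain ⟨y, hy⟩ := exists_herm_ne_zero hK hw
    have hy' : hermForm n K q₀ y w ≠ 0 := by
      intro h
      exact hy (herm_eq_zero_swap hK h)
    set c : K := (hermForm n K q₀ y v / hermForm n K q₀ y w) with hc
    apply hind (c ^ q₀)
    have h0 : v - c ^ q₀ • w = 0 := by
      apply herm_nondeg hK
      intro x
      have h1 := hcon (x - (hermForm n K q₀ x w / hermForm n K q₀ y w) • y) (by
        rw [herm_sub_left, herm_smul_left]
        field_simp
        ring)
      rw [herm_sub_left, herm_smul_left] at h1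
      have h2 : hermForm n K q₀ x (v - c ^ q₀ • w) = 0 := by
        rw [herm_sub_right hK, herm_smul_right, pow_q_pow_q hK, hc]
        field_simp at h1 ⊢
        linear_combination h1
      exact herm_eq_zero_swap hK h2
    exact sub_eq_zero.1 h0

omit S in
/-- A hyperbolic partner of `v` inside the orthogonal space of `w`. -/
theorem exists_partner {K : Type*} [Field K] [Fintype K] {q₀ : ℕ} (hK : Fintype.card K = q₀ ^ 2) {w v : Fin n → K}
    (hv : hermForm n K q₀ v v = 0) (hvw : hermForm n K q₀ v w = 0) (hind : ∀ c : K, v ≠ c • w) :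
    ∃ z : Fin n → K, hermForm n K q₀ z z = 0 ∧ hermForm n K q₀ z w = 0 ∧ hermForm n K q₀ z v = 1 := by
  -- first without isotropy
  obtain ⟨x, hxw, hxv⟩ := exists_dual hK hind
  -- scale and correct
  obtain ⟨x', h1, h2⟩ : ∃ x', hermForm n K q₀ x' v = 1 ∧ hermForm n K q₀ x' w = 0 := by
    refine ⟨(hermForm n K q₀ x v)⁻¹ • x, ?_, ?_⟩
    · rw [herm_smul_left, inv_mul_cancel₀ hxv]
    · rw [herm_smul_left, hxw, mul_zero]
  have h3 : hermForm n K q₀ v x' = 1 := by rw [herm_swap hK x' v, h1, one_pow]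
  obtain ⟨t, ht⟩ := exists_trace_eq hK (c := -hermForm n K q₀ x' x') (by rw [neg_pow_q hK, herm_self_pow hK])
  refine ⟨x' + t • v, ?_, ?_, ?_⟩
  · rw [herm_add_left, herm_add_right hK, herm_add_right hK, herm_smul_left, herm_smul_right, herm_smul_left,
      herm_smul_right, h1, h3, hv]
    linear_combination ht
  · rw [herm_add_left, herm_smul_left, h2, hvw, mul_zero, add_zero]
  · rw [herm_add_left, herm_smul_left, h1, hv, mul_zero, add_zero]

omit S in
/-- An isotropic vector orthogonal to and independent of a given one, `n ≥ 4`. -/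
theorem exists_second {K : Type*} [Field K] [Fintype K] {q₀ : ℕ} (hK : Fintype.card K = q₀ ^ 2) (hn : 4 ≤ n)
    {w : Fin n → K} (hw0 : w ≠ 0) (hw : hermForm n K q₀ w w = 0) :
    ∃ v : Fin n → K, v ≠ 0 ∧ hermForm n K q₀ v v = 0 ∧ hermForm n K q₀ v w = 0 ∧ ∀ c : K, v ≠ c • w := by
  let i0 : Fin n := ⟨0, by omega⟩
  let i1 : Fin n := ⟨1, by omega⟩
  let i2 : Fin n := ⟨2, by omega⟩
  let i3 : Fin n := ⟨3, by omega⟩
  have h01 : i0 ≠ i1 := by simp [i0, i1]
  have h23 : i2 ≠ i3 := by simp [i2, i3]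
  obtain ⟨p, p', a, b, ha, hp, -, hpp, -, hpp'⟩ := exists_hyp_pair (q := q₀) hK h01
  obtain ⟨s, s', c, d, hc, hs, -, hss, -, hss'⟩ := exists_hyp_pair (q := q₀) hK h23
  have hp0 : p ≠ 0 := by
    rintro rfl
    rw [herm_zero_left] at hpp'
    exact zero_ne_one hpp'
  obtain ⟨g, -, hg⟩ := exists_map_iso hK (by omega : 3 ≤ n) le_rfl (mem_coordSub_top p) (mem_coordSub_top w) hp0 hw0 hpp hw
  have hsp : hermForm n K q₀ s p = 0 := by
    rw [hs, hp]
    simp only [herm_add_left, herm_add_right hK, herm_smul_left, herm_smul_right, herm_single_left, one_mul]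
    simp [i0, i1, i2, i3, zero_pow_q hK]
  refine ⟨act g s, ?_, ?_, ?_, ?_⟩
  · intro h
    rw [act_eq_zero] at h
    rw [h, herm_zero_left] at hss'
    exact zero_ne_one hss'
  · rw [herm_act, hss]
  · rw [← hg, herm_act, hsp]
  · intro c h
    rw [← hg, ← act_smul] at h
    have h1 := act_injective g h
    have h2 := congrFun h1 i2
    rw [hs, hp] at h2
    simp [i0, i1, i2, i3] at h2

end Cfsg.Agent.H930.GUSub
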