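import Cfsg.Agent.H930.GUSubA

/-!
# The unitary subfield subgroups of `SU_n(q)`: the algebra of parameters
-/

set_option autoImplicit false
set_option linter.unusedSectionVars false

namespace Cfsg.Agent.H930.GUSub

open Cfsg Cfsg.Geo Cfsg.Agent.H918 Cfsg.Agent.LieClassical.HermBasic Cfsg.Agent.LieClassical.HermSiegel
open Cfsg.Agent.LieClassical.HermGen Cfsg.Agent.H930 Cfsg.Agent.H873.Sub
open scoped Matrix MatrixGroups

variable {F : Type*} [Field F] [Fintype F] {n q : ℕ} {F₀ : Subfield F} [Fintype F₀] {q₀ : ℕ}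

/-- Parameters of transvections with rational centres. -/
def AA (F₀ : Subfield F) [Fintype F₀] (n q q₀ : ℕ) (M : Subgroup (GL (Fin n) F)) (d : F) : Prop :=
  ∀ u : Fin n → F₀, u ≠ 0 → hermForm n F₀ q₀ u u = 0 → HasS q M (cv F₀ u) 0 d

/-- Parameters of Siegel transformations with rational isotropic vectors. -/
def CC (F₀ : Subfield F) [Fintype F₀] (n q q₀ : ℕ) (M : Subgroup (GL (Fin n) F)) (c : F) : Prop :=
  ∀ w v : Fin n → F₀, w ≠ 0 → hermForm n F₀ q₀ w w = 0 → hermForm n F₀ q₀ v v = 0 →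
    hermForm n F₀ q₀ v w = 0 → ∃ μ, HasS q M (cv F₀ w) (c • cv F₀ v) μ

variable (S : Setup F₀ q q₀)
variable {M : Subgroup (GL (Fin n) F)} (hM : subfieldSubgroup F₀ (1 : GL (Fin n) F) ⊓ SUg n F q ≤ M)

include S in
theorem AA.add {d d' : F} (h : AA F₀ n q q₀ M d) (h' : AA F₀ n q q₀ M d') : AA F₀ n q q₀ M (d + d') :=
  fun u h0 hu => (h u h0 hu).add_tv S.hF (h' u h0 hu)

include S in
theorem AA.sub {d d' : F} (h : AA F₀ n q q₀ M d) (h' : AA F₀ n q q₀ M d') : AA F₀ n q q₀ M (d - d') :=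
  fun u h0 hu => (h u h0 hu).cancel S.hF (h' u h0 hu)

include S hM

theorem AA_of (hn : 3 ≤ n) {u : Fin n → F₀} (h0 : u ≠ 0) (hu : hermForm n F₀ q₀ u u = 0) {d : F}
    (h : HasS q M (cv F₀ u) 0 d) : AA F₀ n q q₀ M d :=
  fun _ h0' hu' => one_all S hM hn h0 h0' hu hu' h

omit hM in
theorem cv_ne_zero {u : Fin n → F₀} (h : u ≠ 0) : cv F₀ u ≠ 0 := by
  intro h0
  apply h
  apply cv_injective (F₀ := F₀)
  rw [h0, cv_zero]

theorem CC_rat (c : F₀) : CC F₀ n q q₀ M (c : F) := by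
  intro w v hw0 hw hv hvw
  refine ⟨((0 : F₀) : F), ?_⟩
  rw [← cv_smul]
  apply hasS_rat S hM
  refine ⟨hw, ?_, ?_⟩
  · rw [herm_smul_left, hvw, mul_zero]
  · rw [herm_smul_left, herm_smul_right, hv, mul_zero, mul_zero, zero_pow_q S.hF₀]
    simp

omit hM in
theorem CC.add {c c' : F} (h : CC F₀ n q q₀ M c) (h' : CC F₀ n q q₀ M c') : CC F₀ n q q₀ M (c + c') := by
  intro w v hw0 hw hv hvw
  obtain ⟨μ, hμ⟩ := h w v hw0 hw hv hvw
  obtain ⟨μ', hμ'⟩ := h' w v hw0 hw hv hvw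
  exact ⟨_, (hμ.mul S.hF hμ').congr (add_smul _ _ _).symm rfl⟩

omit hM in
theorem CC.smul {c : F} (h : CC F₀ n q q₀ M c) (s : F₀) : CC F₀ n q q₀ M (s * c) := by
  intro w v hw0 hw hv hvw
  obtain ⟨μ, hμ⟩ := h w (s • v) hw0 hw (by rw [herm_smul_left, herm_smul_right, hv, mul_zero, mul_zero])
    (by rw [herm_smul_left, hvw, mul_zero])
  refine ⟨μ, hμ.congr ?_ rfl⟩
  rw [cv_smul, smul_smul, mul_comm]

theorem CC.toAA (hn : 4 ≤ n) {c : F} (h : CC F₀ n q q₀ M c) (s : F₀) :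
    AA F₀ n q q₀ M (c * s - (c * s) ^ q) := by
  -- some isotropic vector
  obtain ⟨w, w', a, b, ha, hw, -, hww, -, hww'⟩ := exists_hyp_pair (q := q₀) (n := n) S.hF₀
    (show (⟨0, by omega⟩ : Fin n) ≠ ⟨1, by omega⟩ by simp)
  have hw0 : w ≠ 0 := by
    rintro rfl
    rw [herm_zero_left] at hww'
    exact zero_ne_one hww'
  obtain ⟨v, hv0, hv, hvw, hind⟩ := exists_second S.hF₀ hn hw0 hww
  obtain ⟨z, hz, hzw, hzv⟩ := exists_partner S.hF₀ hv hvw hind
  obtain ⟨μ, hμ⟩ := h w v hw0 hww hv hvw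
  have h1 : HasS q M (cv F₀ w) (cv F₀ (s ^ q₀ • z)) ((0 : F₀) : F) := by
    apply hasS_rat S hM
    refine ⟨hww, ?_, ?_⟩
    · rw [herm_smul_left, hzw, mul_zero]
    · rw [herm_smul_left, herm_smul_right, hz, mul_zero, mul_zero, zero_pow_q S.hF₀]
      simp
  have h2 := hμ.comm S.hF h1
  apply AA_of S hM (by omega) hw0 hww
  refine h2.congr rfl ?_
  rw [cv_smul, herm_smul_left, herm_smul_right, herm_smul_left, herm_smul_right, herm_cv S, herm_cv S,
    hzv, herm_swap S.hF₀ z v, hzv, one_pow, mul_pow, S.pow_eq, S.pow_eq, pow_q_pow_q S.hF₀]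
  push_cast
  ring

theorem AA.mulCC {d c : F} (h : AA F₀ n q q₀ M d) (h' : CC F₀ n q q₀ M c) : CC F₀ n q q₀ M (d * c) := by
  intro w v hw0 hw hv hvw
  by_cases hind : ∀ c : F₀, v ≠ c • w
  · obtain ⟨z, hz, hzw, hzv⟩ := exists_partner S.hF₀ hv hvw hind
    obtain ⟨μ, hμ⟩ := h' w z hw0 hw hz hzw
    have hv0 : v ≠ 0 := by
      intro h0
      exact hind 0 (by rw [h0, zero_smul])
    have h1 := hμ.act S.hF (h v hv0 hv) (herm_cv_eq_zero S hvw)
    refine ⟨_, h1.congr ?_ rfl⟩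
    rw [herm_smul_left, herm_cv S, hzv]
    simp
  · push Not at hind
    obtain ⟨s, rfl⟩ := hind
    have h1 : HasS q M (cv F₀ w) 0 (((0 : F₀) : F)) := by
      have := hasS_rat S hM (u := w) (w := 0) (μ := 0) ⟨hw, herm_zero_left _, by
        rw [herm_zero_left, zero_pow_q S.hF₀]; simp⟩
      rwa [cv_zero] at this
    have h2 := h1.unshift S.hF (d * c * s)
    refine ⟨_, h2.congr ?_ rfl⟩
    rw [cv_smul, smul_smul, zero_add]

omit M hM in
/-- An element of `F₀` moved by the conjugation. -/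
theorem exists_moved : ∃ ω : F₀, ω ^ q₀ ≠ ω := exists_not_fixed S.hF₀

theorem CC.mul (hn : 4 ≤ n) {c c' : F} (h : CC F₀ n q q₀ M c) (h' : CC F₀ n q q₀ M c') :
    CC F₀ n q q₀ M (c * c') := by
  obtain ⟨ω, hω⟩ := exists_moved S
  have h1 := h.toAA S hM hn 1
  have h2 := h.toAA S hM hn ω
  have h3 := (h1.mulCC S hM h').smul S (ω ^ q₀)
  have h4 := (h2.mulCC S hM h').smul S (-1)
  have h5 := (h3.add S h4).smul S (ω ^ q₀ - ω)⁻¹
  have hne : (ω : F) ^ q₀ - ω ≠ 0 := by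
    intro h0
    apply hω
    rw [sub_eq_zero] at h0
    exact_mod_cast h0
  convert h5 using 1
  rw [mul_pow, mul_pow, S.pow_eq, S.pow_eq]
  push_cast
  field_simp
  ring

/-- The subalgebra of parameters. -/
def paramAlg (hn : 4 ≤ n) : Subalgebra F₀ F where
  carrier := {c | CC F₀ n q q₀ M c}
  mul_mem' h h' := CC.mul S hM hn h h'
  add_mem' h h' := CC.add S h h'
  algebraMap_mem' c := CC_rat S hM c

/-- Either all parameters occur or only the rational ones. -/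
theorem all_or_rat (hn : 4 ≤ n) {r : ℕ} (hr : r.Prime) (hcard : Fintype.card F = Nat.card F₀ ^ r) :
    (∀ c, CC F₀ n q q₀ M c) ∨ (∀ c, CC F₀ n q q₀ M c → c ∈ F₀) := by
  have hfin : Module.finrank F₀ F = r := by
    have h1 := Module.natCard_eq_pow_finrank (K := F₀) (V := F)
    rw [Nat.card_eq_fintype_card, hcard] at h1
    have h2 : 1 < Nat.card F₀ := Finite.one_lt_card
    exact (Nat.pow_right_injective h2 h1).symm
  have hs : IsSimpleOrder (Subalgebra F₀ F) :=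
    Subalgebra.isSimpleOrder_of_finrank_prime F₀ F (by rw [hfin]; exact hr)
  rcases hs.eq_bot_or_eq_top (paramAlg S hM hn) with h | h
  · right
    intro c hc
    have h1 : c ∈ paramAlg S hM hn := hc
    rw [h, Algebra.mem_bot] at h1
    obtain ⟨s, hs⟩ := h1
    rw [← hs]
    exact s.2
  · left
    intro c
    have h1 : c ∈ paramAlg S hM hn := by rw [h]; trivial
    exact h1

end Cfsg.Agent.H930.GUSub
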