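import Cfsg.Agent.H930.GUSubC

/-!
# The unitary subfield subgroups of `SU_n(q)`: transvections with centres orthogonal to rational vectors
-/

set_option autoImplicit false
set_option linter.unusedSectionVars false
set_option linter.unusedSimpArgs false

namespace Cfsg.Agent.H930.GUSub

open Cfsg Cfsg.Geo Cfsg.Agent.H918 Cfsg.Agent.LieClassical.HermBasic Cfsg.Agent.LieClassical.HermSiegel
open Cfsg.Agent.LieClassical.HermGen Cfsg.Agent.H930 Cfsg.Agent.H873.Sub
open scoped Matrix MatrixGroups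

variable {F : Type*} [Field F] [Fintype F] {n q : ℕ} {F₀ : Subfield F} [Fintype F₀] {q₀ : ℕ}
variable (S : Setup F₀ q q₀)

include S in
theorem pow_mem {x : F} (h : x ∈ F₀) : x ^ q ∈ F₀ := F₀.pow_mem h q

include S in
theorem mem_of_pow_mem {x : F} (h : x ^ q ∈ F₀) : x ∈ F₀ := by
  have := F₀.pow_mem h q
  rwa [pow_q_pow_q S.hF] at this

include S in
theorem mem_of_forall {c : F} (h : ∀ s : F₀, c * s - (c * s) ^ q ∈ F₀) : c ∈ F₀ := by
  obtain ⟨ω, hω⟩ := exists_moved S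
  have h1 := h 1
  have h2 := h ω
  have hne : ((ω ^ q₀ - ω : F₀) : F) ≠ 0 := by
    intro h0
    apply hω
    have : (ω ^ q₀ - ω : F₀) = 0 := by exact_mod_cast h0
    exact sub_eq_zero.1 this
  have h3 : ((ω ^ q₀ : F₀) : F) * (c * ((1 : F₀) : F) - (c * ((1 : F₀) : F)) ^ q) - (c * (ω : F) - (c * (ω : F)) ^ q) ∈ F₀ :=
    F₀.sub_mem (F₀.mul_mem (ω ^ q₀).2 h1) h2
  have h4 : ((ω ^ q₀ : F₀) : F) * (c * ((1 : F₀) : F) - (c * ((1 : F₀) : F)) ^ q) - (c * (ω : F) - (c * (ω : F)) ^ q) =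
      c * ((ω ^ q₀ - ω : F₀) : F) := by
    rw [mul_pow, mul_pow, S.pow_eq, S.pow_eq]
    push_cast
    ring
  rw [h4] at h3
  have h5 := F₀.div_mem h3 (ω ^ q₀ - ω).2
  rwa [mul_div_cancel_right₀ _ hne] at h5

variable {M : Subgroup (GL (Fin n) F)} (hM : subfieldSubgroup F₀ (1 : GL (Fin n) F) ⊓ SUg n F q ≤ M)

include S hM

/-- Rational Siegel transformations with suitable parameter. -/
theorem hasS_rat' {u w : Fin n → F₀} (hu : hermForm n F₀ q₀ u u = 0) (hw : hermForm n F₀ q₀ w u = 0) :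
    ∃ μ : F₀, HasS q M (cv F₀ u) (cv F₀ w) (μ : F) := by
  obtain ⟨μ, hμ⟩ := exists_trace_eq S.hF₀ (c := -hermForm n F₀ q₀ w w) (by rw [neg_pow_q S.hF₀, herm_self_pow S.hF₀])
  exact ⟨μ, hasS_rat S hM ⟨hu, hw, by rw [hμ, neg_add_cancel]⟩⟩

theorem ratA (hn : 4 ≤ n) (hB : ∀ c, CC F₀ n q q₀ M c → c ∈ F₀) {u : Fin n → F₀} (h0 : u ≠ 0)
    (hu : hermForm n F₀ q₀ u u = 0) {d : F} (h : HasS q M (cv F₀ u) 0 d) : d ∈ F₀ := by
  have h1 := AA_of S hM (by omega) h0 hu h
  have h2 := h1.mulCC S hM (CC_rat S hM 1)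
  have := hB _ h2
  simpa using this

/-- A transvection of `M` whose centre is orthogonal to the rational isotropic vector `p`. -/
theorem rat_of_orth_p (hn : 4 ≤ n) (hB : ∀ c, CC F₀ n q q₀ M c → c ∈ F₀) {p : Fin n → F₀} {i0 i1 : Fin n}
    (h01 : i0 ≠ i1) {a : F₀} (hp : p = Pi.single i0 1 + a • Pi.single i1 1) (hpp : hermForm n F₀ q₀ p p = 0)
    {v : Fin n → F} {d : F} (hd : d ≠ 0) (h : HasS q M v 0 d)
    (hvp : hermForm n F q v (cv F₀ p) = 0) : ∃ (l : F) (b : Fin n → F₀), v = l • cv F₀ b := by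
  have hp0 : p ≠ 0 := by
    intro h0
    rw [h0] at hp
    have := congrFun hp i0
    simp [h01] at this
  have haa : (a : F) * (a : F) ^ q = -1 := by
    rw [hp] at hpp
    simp only [herm_add_left, herm_add_right S.hF₀, herm_smul_left, herm_smul_right,
          herm_single_right S.hF₀, Pi.single_eq_same, one_pow] at hpp
    simp [h01, h01.symm] at hpp
    have h1 : a * a ^ q₀ = -1 := by linear_combination hpp
    have h2 := congrArg (fun z : F₀ => (z : F)) h1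
    push_cast at h2
    rw [S.pow_eq]
    push_cast
    exact h2
  -- form of vectors orthogonal to p
  have hform : ∀ y : Fin n → F, hermForm n F q y (cv F₀ p) = 0 → y i1 = y i0 * a := by
    intro y hy
    have hw' : y i0 + (a : F) ^ q * y i1 = 0 := by
      rw [hp, cv_add, cv_smul, cv_single, cv_single, herm_add_right S.hF, herm_smul_right,
        herm_single_right S.hF, herm_single_right S.hF] at hy
      simpa using hy
    linear_combination (-(a : F)) * hw' + y i1 * haa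
  have heP : ∀ k, k ≠ i0 → k ≠ i1 → hermForm n F₀ q₀ (Pi.single k 1) p = 0 := by
    intro k hk0 hk1
    rw [hp]
    simp only [herm_add_left, herm_add_right S.hF₀, herm_smul_left, herm_smul_right,
      herm_single_right S.hF₀, one_pow]
    simp [hk0, hk1, hk0.symm, hk1.symm]
  -- the main relation
  have hrel : ∀ j k, j ≠ i0 → j ≠ i1 → k ≠ i0 → k ≠ i1 → d * (v j) ^ q * v k ∈ F₀ := by
    intro j k hj0 hj1 hk0 hk1
    apply mem_of_forall S
    intro s
    obtain ⟨μ, hμ⟩ := hasS_rat' S hM hpp (heP j hj0 hj1)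
    have h1 := hμ.act S.hF h hvp
    obtain ⟨μ', hμ'⟩ := hasS_rat' S hM (w := s ^ q₀ • (Pi.single k 1 : Fin n → F₀)) hpp
      (by rw [herm_smul_left, heP k hk0 hk1, mul_zero])
    have h2 := h1.comm S.hF hμ'
    have h3 := ratA S hM hn hB hp0 hpp h2
    convert h3 using 1
    rw [cv_smul, cv_single, cv_single, herm_smul_left, herm_smul_right, herm_smul_left, herm_smul_right,
      herm_single_left, herm_single_left, herm_single_right S.hF, S.pow_eq]
    simp only [one_mul, one_pow, mul_one, mul_pow, pow_q_pow_q S.hF, pow_q_pow_q S.hF₀, S.pow_eq]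
    push_cast
    ring
  by_cases hall : ∀ k, k ≠ i0 → k ≠ i1 → v k = 0
  · refine ⟨v i0, p, ?_⟩
    rw [hp, cv_add, cv_smul, cv_single, cv_single]
    ext k
    simp only [Pi.smul_apply, Pi.add_apply, smul_eq_mul]
    by_cases hk0 : k = i0
    · subst hk0
      simp [h01]
    · by_cases hk1 : k = i1
      · subst hk1
        simp [hk0, hform v hvp]
      · simp [hk0, hk1, hall k hk0 hk1]
  push Not at hall
  obtain ⟨k, hk0, hk1, hvk⟩ := hall
  -- normalise
  have hvk' : v k ^ q ≠ 0 := pow_ne_zero _ hvk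
  obtain ⟨v₁, hv₁⟩ : ∃ v₁ : Fin n → F, v = v k • v₁ :=
    ⟨(v k)⁻¹ • v, by rw [smul_smul, mul_inv_cancel₀ hvk, one_smul]⟩
  have hv₁j : ∀ j, v j = v k * v₁ j := fun j => congrFun hv₁ j
  have hv₁k : v₁ k = 1 := by
    have := hv₁j k
    exact (mul_right_eq_self₀.1 this.symm).resolve_right hvk
  obtain ⟨d₁, hd₁⟩ : ∃ d₁ : F₀, (d₁ : F) = v k * v k ^ q * d := by
    have := hrel k k hk0 hk1 hk0 hk1
    exact ⟨⟨_, this⟩, by ring⟩
  have hd₁0 : (d₁ : F) ≠ 0 := by
    rw [hd₁]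
    exact mul_ne_zero (mul_ne_zero hvk hvk') hd
  have h1 : HasS q M v₁ 0 (d₁ : F) := by
    have h' : HasS q M (v k • v₁) 0 d := by rw [← hv₁]; exact h
    exact (h'.smul_center S.hF hvk).congr (smul_zero _) hd₁.symm
  have hrat : ∀ j, j ≠ i0 → j ≠ i1 → v₁ j ∈ F₀ := by
    intro j hj0 hj1
    have h2 := F₀.div_mem (hrel k j hk0 hk1 hj0 hj1) d₁.2
    have h3 : d * v k ^ q * v j / (d₁ : F) = v₁ j := by
      rw [hd₁, hv₁j j]
      field_simp
    rwa [h3] at h2
  have hv₁p : hermForm n F q v₁ (cv F₀ p) = 0 := by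
    rw [hv₁, herm_smul_left] at hvp
    exact (mul_eq_zero.1 hvp).resolve_left hvk
  -- the rational part
  set v₀ : Fin n → F₀ := fun j => if hj : j ≠ i0 ∧ j ≠ i1 then ⟨v₁ j, hrat j hj.1 hj.2⟩ else 0 with hv₀
  have hdec : v₁ = cv F₀ v₀ + v₁ i0 • cv F₀ p := by
    rw [hp, cv_add, cv_smul, cv_single, cv_single]
    ext j
    simp only [Pi.smul_apply, Pi.add_apply, smul_eq_mul, cv_apply, hv₀]
    by_cases hj0 : j = i0
    · subst hj0
      simp [h01]
    · by_cases hj1 : j = i1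
      · subst hj1
        simp [hj0, hform v₁ hv₁p]
      · simp [hj0, hj1]
  have hPP : hermForm n F q (cv F₀ p) (cv F₀ p) = 0 := herm_cv_eq_zero S hpp
  have hv₀p : hermForm n F₀ q₀ v₀ p = 0 := by
    have h2 := hv₁p
    rw [hdec, herm_add_left, herm_smul_left, hPP, mul_zero, add_zero, herm_cv S] at h2
    exact_mod_cast h2
  have hv₀v₀ : hermForm n F₀ q₀ v₀ v₀ = 0 := by
    have h2 := h1.1.iso
    have h3 : hermForm n F q (cv F₀ v₀) (cv F₀ p) = 0 := herm_cv_eq_zero S hv₀p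
    have h4 := herm_eq_zero_swap S.hF h3
    rw [hdec, herm_add_left, herm_add_right S.hF, herm_add_right S.hF, herm_smul_left, herm_smul_left,
      herm_smul_right, herm_smul_right, hPP, h3, h4, mul_zero, mul_zero, add_zero, add_zero,
      add_zero, herm_cv S] at h2
    exact_mod_cast h2
  -- rationality of the coefficient
  have hμ₀ : (d₁ : F) * v₁ i0 ∈ F₀ := by
    apply mem_of_forall S
    intro s
    obtain ⟨μ, hμ⟩ := hasS_rat' S hM (w := s • (Pi.single k 1 : Fin n → F₀)) hpp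
      (by rw [herm_smul_left, heP k hk0 hk1, mul_zero])
    have h2 := hμ.act S.hF h1 hv₁p
    have h3 : hermForm n F q (cv F₀ (s • Pi.single k 1)) v₁ = s := by
      rw [cv_smul, cv_single, herm_smul_left, herm_single_left, hv₁k, one_pow, mul_one, mul_one]
    rw [h3] at h2
    have h4 : ((d₁ : F) * (s : F)) • v₁ = cv F₀ ((d₁ * s) • v₀) + ((d₁ : F) * (s : F) * v₁ i0) • cv F₀ p := by
      conv_lhs => rw [hdec]
      rw [cv_smul, smul_add, smul_smul]
      push_cast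
      rfl
    have h5 := (h2.congr h4 rfl).shift S.hF
    have h6 := hasS_rat S hM (u := p) (w := (d₁ * s) • v₀) (μ := 0) ⟨hpp, by
      rw [herm_smul_left, hv₀p, mul_zero], by
      rw [herm_smul_left, herm_smul_right, hv₀v₀, zero_pow_q S.hF₀]; simp⟩
    have h7 := ratA S hM hn hB hp0 hpp (h5.cancel S.hF h6)
    have h8 : ((d₁ : F) * (s : F)) ^ q * (s : F) ∈ F₀ :=
      F₀.mul_mem (F₀.pow_mem (F₀.mul_mem d₁.2 s.2) q) s.2
    have h9 := F₀.sub_mem h7 h8
    convert h9 using 1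
    push_cast
    ring
  have hμ₁ : v₁ i0 ∈ F₀ := by
    have := F₀.div_mem hμ₀ d₁.2
    rwa [mul_div_cancel_left₀ _ hd₁0] at this
  refine ⟨v k, v₀ + (⟨v₁ i0, hμ₁⟩ : F₀) • p, ?_⟩
  rw [cv_add, cv_smul]
  change v = v k • (cv F₀ v₀ + v₁ i0 • cv F₀ p)
  rw [← hdec, ← hv₁]

/-- A transvection of `M` whose centre is orthogonal to a rational isotropic vector has rational centre. -/
theorem rat_of_orth (hn : 4 ≤ n) (hB : ∀ c, CC F₀ n q q₀ M c → c ∈ F₀) {v : Fin n → F} {d : F} (hd : d ≠ 0)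
    (h : HasS q M v 0 d) {w : Fin n → F₀} (hw0 : w ≠ 0) (hw : hermForm n F₀ q₀ w w = 0)
    (hvw : hermForm n F q v (cv F₀ w) = 0) : ∃ (l : F) (b : Fin n → F₀), v = l • cv F₀ b := by
  have h01 : (⟨0, by omega⟩ : Fin n) ≠ ⟨1, by omega⟩ := by simp
  obtain ⟨p, p', a, b, ha, hp, hp', hpp, hpp', hppp⟩ := exists_hyp_pair (q := q₀) (n := n) S.hF₀ h01
  have hp0 : p ≠ 0 := by
    rintro rfl
    rw [herm_zero_left] at hppp
    exact zero_ne_one hppp
  obtain ⟨t, ht, htu, htp, htr⟩ := exists_move S hM (by omega) hp0 hw0 hpp hw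
  set v₁ := ((t⁻¹ : GL (Fin n) F) : Matrix (Fin n) (Fin n) F) *ᵥ v with hv₁
  have htv : (t : Matrix (Fin n) (Fin n) F) *ᵥ v₁ = v := by rw [hv₁, mulVec_inv]
  have htu' : ∀ x y, hermForm n F q (((t⁻¹ : GL (Fin n) F) : Matrix (Fin n) (Fin n) F) *ᵥ x)
      (((t⁻¹ : GL (Fin n) F) : Matrix (Fin n) (Fin n) F) *ᵥ y) = hermForm n F q x y := by
    intro x y
    rw [← htu, mulVec_inv, mulVec_inv]
  have h1 := h.conj (M.inv_mem ht) htu'
  rw [Matrix.mulVec_zero] at h1
  obtain ⟨l, b, hb⟩ := rat_of_orth_p S hM hn hB h01 hp hpp hd h1 (by rw [← htu, mulVec_inv, htp]; exact hvw)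
  obtain ⟨y, hy⟩ := htr b
  refine ⟨l, y, ?_⟩
  rw [← htv, hv₁, hb, Matrix.mulVec_smul, hy]

end Cfsg.Agent.H930.GUSub
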