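import Cfsg.Agent.H930.GUSubD
import Cfsg.Agent.H873.SubfieldCase

/-!
# The unitary subfield subgroups of `SU_n(q)`: lines and generic vectors, odd characteristic
-/

set_option autoImplicit false
set_option linter.unusedSectionVars false
set_option linter.unusedSimpArgs false

namespace Cfsg.Agent.H930.GUSub

open Cfsg Cfsg.Geo Cfsg.Agent.H918 Cfsg.Agent.LieClassical.HermBasic Cfsg.Agent.LieClassical.HermSiegel
open Cfsg.Agent.LieClassical.HermGen Cfsg.Agent.H930 Cfsg.Agent.H873.Sub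
open scoped Matrix MatrixGroups

variable {F : Type*} [Field F] [Fintype F] {n q : ℕ} {F₀ : Subfield F} [Fintype F₀] {q₀ : ℕ}
variable (S : Setup F₀ q q₀)

include S in
theorem ratio {w w₀ w'' : Fin n → F₀} {l l₀ l'' : F} (hl₀ : l₀ ≠ 0) (hw₀ : w₀ ≠ 0) (hind : ∀ s : F₀, w ≠ s • w₀)
    (h : l • cv F₀ w + l₀ • cv F₀ w₀ = l'' • cv F₀ w'') : ∃ t : F₀, l = l₀ * t := by
  have hind' : ∀ s : F₀, w₀ ≠ s • w := by
    intro s hs
    have hs0 : s ≠ 0 := by
      rintro rfl
      rw [zero_smul] at hs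
      exact hw₀ hs
    apply hind s⁻¹
    rw [hs, smul_smul, inv_mul_cancel₀ hs0, one_smul]
  obtain ⟨x, hx, hx'⟩ := exists_dual S.hF₀ hind
  obtain ⟨y, hy, hy'⟩ := exists_dual S.hF₀ hind'
  have hxs := herm_eq_zero_swap S.hF₀ hx
  have hys := herm_eq_zero_swap S.hF₀ hy
  have hxn : hermForm n F₀ q₀ w x ≠ 0 := fun h0 => hx' (herm_eq_zero_swap S.hF₀ h0)
  have hyn : hermForm n F₀ q₀ w₀ y ≠ 0 := fun h0 => hy' (herm_eq_zero_swap S.hF₀ h0)
  have e1 := congrArg (fun z => hermForm n F q z (cv F₀ x)) h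
  have e2 := congrArg (fun z => hermForm n F q z (cv F₀ y)) h
  simp only [herm_add_left, herm_smul_left, herm_cv S, hxs, hys, ZeroMemClass.coe_zero, mul_zero, add_zero, zero_add] at e1 e2
  have hxn' : ((hermForm n F₀ q₀ w x : F₀) : F) ≠ 0 := by exact_mod_cast hxn
  have hyn' : ((hermForm n F₀ q₀ w₀ y : F₀) : F) ≠ 0 := by exact_mod_cast hyn
  have hz : ((hermForm n F₀ q₀ w'' y : F₀) : F) ≠ 0 := by
    intro h0
    rw [h0, mul_zero] at e2
    exact (mul_ne_zero hl₀ hyn') e2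
  refine ⟨hermForm n F₀ q₀ w₀ y * hermForm n F₀ q₀ w'' x / (hermForm n F₀ q₀ w'' y * hermForm n F₀ q₀ w x), ?_⟩
  push_cast
  have hl'' : l'' = l₀ * hermForm n F₀ q₀ w₀ y / hermForm n F₀ q₀ w'' y := by
    field_simp
    exact e2.symm
  rw [hl''] at e1
  field_simp at e1 ⊢
  linear_combination e1

include S in
/-- Rational isotropic vectors in a plane. -/
theorem exists_iso_comb {u u₀ : Fin n → F₀} (hu : hermForm n F₀ q₀ u u = 0) (hu₀ : hermForm n F₀ q₀ u₀ u₀ = 0) :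
    ∃ c : F₀, c ≠ 0 ∧ hermForm n F₀ q₀ (u + c • u₀) (u + c • u₀) = 0 := by
  by_cases h0 : hermForm n F₀ q₀ u u₀ = 0
  · refine ⟨1, one_ne_zero, ?_⟩
    have h0' := herm_eq_zero_swap S.hF₀ h0
    rw [one_smul, herm_add_left, herm_add_right S.hF₀, herm_add_right S.hF₀, hu, hu₀, h0, h0']
    ring
  · obtain ⟨e, he0, he⟩ := exists_trace_zero_ne S.hF₀
    have h0' : hermForm n F₀ q₀ u₀ u ≠ 0 := fun h => h0 (herm_eq_zero_swap S.hF₀ h)
    refine ⟨e / hermForm n F₀ q₀ u₀ u, div_ne_zero he0 h0', ?_⟩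
    rw [herm_add_left, herm_add_right S.hF₀, herm_add_right S.hF₀, herm_smul_left, herm_smul_left, herm_smul_right,
      herm_smul_right, hu, hu₀, div_pow, ← herm_swap S.hF₀ u₀ u]
    field_simp
    linear_combination (hermForm n F₀ q₀ u u₀ * hermForm n F₀ q₀ u₀ u) * he

include S in
/-- An element mapping the rational isotropic vectors to multiples of rational vectors is in the subfield group. -/
theorem mem_of_iso_lines (hn : 2 ≤ n) {g : GL (Fin n) F}
    (h : ∀ u : Fin n → F₀, u ≠ 0 → hermForm n F₀ q₀ u u = 0 →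
      ∃ (l : F) (w : Fin n → F₀), (g : Matrix (Fin n) (Fin n) F) *ᵥ cv F₀ u = l • cv F₀ w) :
    ∃ d : F, d ≠ 0 ∧ ∀ i j, d * (g : Matrix (Fin n) (Fin n) F) i j ∈ F₀ := by
  have h01 : (⟨0, by omega⟩ : Fin n) ≠ ⟨1, by omega⟩ := by simp
  obtain ⟨u₀, p', a, b, ha, hp, hp', hu₀, hpp', hppp⟩ := exists_hyp_pair (q := q₀) (n := n) S.hF₀ h01
  have hu₀0 : u₀ ≠ 0 := by
    rintro rfl
    rw [herm_zero_left] at hppp
    exact zero_ne_one hppp
  have hg0 : ∀ x : Fin n → F, (g : Matrix (Fin n) (Fin n) F) *ᵥ x = 0 → x = 0 := by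
    intro x hx
    rw [← inv_mulVec g x, hx, Matrix.mulVec_zero]
  obtain ⟨l₀, w₀, hl₀w₀⟩ := h u₀ hu₀0 hu₀
  have hl₀ : l₀ ≠ 0 := by
    rintro rfl
    rw [zero_smul] at hl₀w₀
    exact cv_ne_zero S hu₀0 (hg0 _ hl₀w₀)
  have hw₀ : w₀ ≠ 0 := by
    rintro rfl
    rw [cv_zero, smul_zero] at hl₀w₀
    exact cv_ne_zero S hu₀0 (hg0 _ hl₀w₀)
  -- all multipliers are rational multiples of `l₀`
  have key : ∀ u : Fin n → F₀, u ≠ 0 → hermForm n F₀ q₀ u u = 0 →
      ∃ y : Fin n → F₀, (g : Matrix (Fin n) (Fin n) F) *ᵥ cv F₀ u = l₀ • cv F₀ y := by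
    intro u hu0 hu
    by_cases hdep : ∃ s : F₀, u = s • u₀
    · obtain ⟨s, rfl⟩ := hdep
      refine ⟨s • w₀, ?_⟩
      rw [cv_smul, Matrix.mulVec_smul, hl₀w₀, cv_smul, smul_comm]
    push Not at hdep
    obtain ⟨c, hc0, hc⟩ := exists_iso_comb S hu hu₀
    obtain ⟨l, w, hlw⟩ := h u hu0 hu
    have hne : u + c • u₀ ≠ 0 := by
      intro h0
      apply hdep (-c)
      rw [neg_smul]
      exact eq_neg_of_add_eq_zero_left h0
    obtain ⟨l'', w'', hw''⟩ := h _ hne hc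
    have hind : ∀ s : F₀, w ≠ s • w₀ := by
      intro s hs
      have h1 : (g : Matrix (Fin n) (Fin n) F) *ᵥ (cv F₀ u - (l * s / l₀) • cv F₀ u₀) = 0 := by
        rw [Matrix.mulVec_sub, Matrix.mulVec_smul, hlw, hl₀w₀, hs, cv_smul, smul_smul, smul_smul]
        have : l * s / l₀ * l₀ = l * s := by field_simp
        rw [this, sub_self]
      have h2 := sub_eq_zero.1 (hg0 _ h1)
      obtain ⟨i, hi⟩ : ∃ i, u₀ i ≠ 0 := by
        by_contra hcon
        push Not at hcon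
        exact hu₀0 (funext hcon)
      have hi' : (u₀ i : F) ≠ 0 := by exact_mod_cast hi
      apply hdep (u i / u₀ i)
      apply cv_injective (F₀ := F₀)
      have h3 := congrFun h2 i
      simp only [cv_apply, Pi.smul_apply, smul_eq_mul] at h3
      rw [h2, cv_smul]
      congr 1
      push_cast
      rw [h3]
      field_simp
    rw [cv_add, cv_smul, Matrix.mulVec_add, Matrix.mulVec_smul, hlw, hl₀w₀, smul_smul] at hw''
    have hc0' : (c : F) ≠ 0 := by exact_mod_cast hc0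
    obtain ⟨t, ht⟩ := ratio S (mul_ne_zero hc0' hl₀) hw₀ hind hw''
    refine ⟨(c * t) • w, ?_⟩
    rw [hlw, ht, cv_smul, smul_smul]
    congr 1
    push_cast
    ring
  -- basis vectors
  have hbas : ∀ j, ∃ y : Fin n → F₀, (g : Matrix (Fin n) (Fin n) F) *ᵥ Pi.single j 1 = l₀ • cv F₀ y := by
    intro j
    obtain ⟨i, hij⟩ : ∃ i, i ≠ j := by
      have : Nontrivial (Fin n) := Fin.nontrivial_iff_two_le.2 hn
      exact exists_ne j
    obtain ⟨x, x', hxx, hx, hx'⟩ := exists_two_norm S.hF₀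
    have key' : ∀ b : F₀, b * b ^ q₀ = -1 → (Pi.single i 1 + b • Pi.single j 1 : Fin n → F₀) ≠ 0 ∧
        hermForm n F₀ q₀ (Pi.single i 1 + b • Pi.single j 1) (Pi.single i 1 + b • Pi.single j 1) = 0 := by
      intro b hb
      refine ⟨fun h0 => ?_, ?_⟩
      · have := congrFun h0 i
        simp [hij] at this
      · simp only [herm_add_left, herm_add_right S.hF₀, herm_smul_left, herm_smul_right,
          herm_single_right S.hF₀, Pi.single_eq_same, one_pow]
        simp [hij, hij.symm]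
        linear_combination hb
    have hne : (x : F) - x' ≠ 0 := by
      intro h0
      apply hxx
      rw [sub_eq_zero] at h0
      exact_mod_cast h0
    obtain ⟨y, hy⟩ := key _ (key' x hx).1 (key' x hx).2
    obtain ⟨y', hy'⟩ := key _ (key' x' hx').1 (key' x' hx').2
    refine ⟨(x - x')⁻¹ • (y - y'), ?_⟩
    rw [cv_add, cv_smul, cv_single, cv_single, Matrix.mulVec_add, Matrix.mulVec_smul] at hy hy'
    rw [cv_smul, cv_sub, smul_comm, smul_sub, smul_sub, ← hy, ← hy']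
    push_cast
    ext k
    simp only [Pi.smul_apply, Pi.sub_apply, Pi.add_apply, smul_eq_mul]
    field_simp
    ring
  refine ⟨l₀⁻¹, inv_ne_zero hl₀, fun i j => ?_⟩
  obtain ⟨y, hy⟩ := hbas j
  have h1 := congrFun hy i
  rw [Matrix.mulVec_single_one] at h1
  change (g : Matrix (Fin n) (Fin n) F) i j = _ at h1
  rw [h1]
  simp only [Pi.smul_apply, smul_eq_mul, cv_apply]
  rw [← mul_assoc, inv_mul_cancel₀ hl₀, one_mul]
  exact (y i).2

variable {M : Subgroup (GL (Fin n) F)} (hM : subfieldSubgroup F₀ (1 : GL (Fin n) F) ⊓ SUg n F q ≤ M)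
variable (hMU : ∀ g ∈ M, ∀ x y, hermForm n F q ((g : Matrix (Fin n) (Fin n) F) *ᵥ x)
  ((g : Matrix (Fin n) (Fin n) F) *ᵥ y) = hermForm n F q x y)

omit [Fintype F] [Fintype F₀] in
theorem psi_dot (d : F) (v x : Fin n → F) : (fun i => d * v i ^ q) ⬝ᵥ x = d * hermForm n F q x v := by
  rw [dotProduct, herm_def, Finset.mul_sum]
  exact Finset.sum_congr rfl fun i _ => by ring

theorem hasTv_of_hasS (hF : Fintype.card F = q ^ 2) {v : Fin n → F} {d : F} (h : HasS q M v 0 d) :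
    H873.HasTv M v (fun i => d * v i ^ q) := by
  obtain ⟨h0, g, hg, hgx⟩ := h
  refine ⟨by rw [psi_dot, h0.iso, mul_zero], g, hg, ?_⟩
  apply Matrix.mulVec_injective
  funext x
  rw [H873.one_add_mulVec, psi_dot, hgx, herm_zero_right hF, smul_zero, add_zero, sub_zero]

include S hM hMU

/-- Odd characteristic: the centre of a transvection of `M` is orthogonal to a rational isotropic vector. -/
theorem no_gen_odd (p : ℕ) [Fact p.Prime] [CharP F p] (hp : p ≠ 2) (hn : 4 ≤ n)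
    (hB : ∀ c, CC F₀ n q q₀ M c → c ∈ F₀) {v : Fin n → F} {d : F} (hd : d ≠ 0) (h : HasS q M v 0 d)
    (hgen : ∀ w : Fin n → F₀, w ≠ 0 → hermForm n F₀ q₀ w w = 0 → hermForm n F q v (cv F₀ w) ≠ 0) : False := by
  have h2 : (2 : F) ≠ 0 := by
    intro h0
    have h3 : ((2 : ℕ) : F) = 0 := by exact_mod_cast h0
    rw [CharP.cast_eq_zero_iff F p] at h3
    have h4 := Nat.le_of_dvd (by norm_num) h3
    have h5 := (Fact.out : p.Prime).two_le
    omega
  have h01 : (⟨0, by omega⟩ : Fin n) ≠ ⟨1, by omega⟩ := by simp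
  obtain ⟨w, wp, a, b, ha, -, -, hw, hwp, hwwp⟩ := exists_hyp_pair (q := q₀) (n := n) S.hF₀ h01
  have hw0 : w ≠ 0 := by
    rintro rfl
    rw [herm_zero_left] at hwwp
    exact zero_ne_one hwwp
  obtain ⟨w', hw0', hw', hww', hind⟩ := exists_second S.hF₀ hn hw0 hw
  obtain ⟨κ, hκ0, hκ⟩ := exists_trace_zero_ne S.hF₀
  have hκ0' : (κ : F) ≠ 0 := by exact_mod_cast hκ0
  have htw : ∀ u : Fin n → F₀, hermForm n F₀ q₀ u u = 0 → HasS q M (cv F₀ u) 0 (κ : F) := by
    intro u hu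
    have := hasS_rat S hM (u := u) (w := 0) (μ := κ) ⟨hu, herm_zero_left _, by
      rw [herm_zero_left, add_zero]; exact hκ⟩
    rwa [cv_zero] at this
  have hvw := hgen w hw0 hw
  have hwv : hermForm n F q (cv F₀ w) v ≠ 0 := fun h0 => hvw (herm_eq_zero_swap S.hF h0)
  obtain ⟨z, hz, hzx⟩ := neg_mem p hp (hasTv_of_hasS S.hF h) (hasTv_of_hasS S.hF (htw w hw))
    (by rw [psi_dot]; exact mul_ne_zero hκ0' hvw) (by rw [psi_dot]; exact mul_ne_zero hd hwv)
  simp only [psi_dot] at hzx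
  have hWW' : hermForm n F q (cv F₀ w') (cv F₀ w) = 0 := herm_cv_eq_zero S hww'
  have hWW : hermForm n F q (cv F₀ w) (cv F₀ w) = 0 := herm_cv_eq_zero S hw
  obtain ⟨c, hc⟩ : ∃ c : F, c = hermForm n F q (cv F₀ w') v / hermForm n F q (cv F₀ w) v := ⟨_, rfl⟩
  have hzw' : (z : Matrix (Fin n) (Fin n) F) *ᵥ cv F₀ w' = cv F₀ w' - (2 * c) • cv F₀ w := by
    rw [hzx, hWW']
    simp only [mul_zero, zero_mul, zero_smul, sub_zero]
    congr 2
    rw [hc]
    field_simp
  have h3 := (htw w' hw').conj hz (hMU z hz)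
  rw [Matrix.mulVec_zero] at h3
  obtain ⟨l, e, hle⟩ := rat_of_orth S hM hn hB hκ0' h3 hw0 hw (by
    rw [hzw', herm_sub_left, herm_smul_left, hWW', hWW]; ring)
  rw [hzw'] at hle
  -- `c` is rational
  have hindw : ∀ s : F₀, w ≠ s • w' := by
    intro s hs
    have hs0 : s ≠ 0 := by
      rintro rfl
      rw [zero_smul] at hs
      exact hw0 hs
    apply hind s⁻¹
    rw [hs, smul_smul, inv_mul_cancel₀ hs0, one_smul]
  obtain ⟨y, hy, hy'⟩ := exists_dual S.hF₀ hind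
  obtain ⟨y₁, hy₁, hy₁'⟩ := exists_dual S.hF₀ hindw
  have hys := herm_eq_zero_swap S.hF₀ hy
  have hys₁ := herm_eq_zero_swap S.hF₀ hy₁
  have hyn : ((hermForm n F₀ q₀ w' y : F₀) : F) ≠ 0 := by
    have : hermForm n F₀ q₀ w' y ≠ 0 := fun h0 => hy' (herm_eq_zero_swap S.hF₀ h0)
    exact_mod_cast this
  have hyn₁ : ((hermForm n F₀ q₀ w y₁ : F₀) : F) ≠ 0 := by
    have : hermForm n F₀ q₀ w y₁ ≠ 0 := fun h0 => hy₁' (herm_eq_zero_swap S.hF₀ h0)
    exact_mod_cast this
  have e1 := congrArg (fun z => hermForm n F q z (cv F₀ y)) hle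
  have e2 := congrArg (fun z => hermForm n F q z (cv F₀ y₁)) hle
  simp only [herm_sub_left, herm_smul_left, herm_cv S, hys, hys₁, ZeroMemClass.coe_zero, mul_zero, sub_zero, zero_sub] at e1 e2
  have hey : ((hermForm n F₀ q₀ e y : F₀) : F) ≠ 0 := by
    intro h0
    rw [h0, mul_zero] at e1
    exact hyn e1
  have hcr : c ∈ F₀ := by
    have h4 : c = -(((hermForm n F₀ q₀ w' y / hermForm n F₀ q₀ e y) * hermForm n F₀ q₀ e y₁ /
        (2 * hermForm n F₀ q₀ w y₁) : F₀) : F) := by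
      have hl : l = hermForm n F₀ q₀ w' y / hermForm n F₀ q₀ e y := by
        field_simp
        exact e1.symm
      rw [hl] at e2
      have hc2 : ((2 : F₀) : F) = 2 := by norm_cast
      push_cast
      rw [hc2]
      field_simp at e2 ⊢
      linear_combination -e2
    rw [h4]
    exact F₀.neg_mem (SetLike.coe_mem _)
  -- a rational isotropic vector orthogonal to `v`
  refine hgen (w' - (⟨c, hcr⟩ : F₀) • w) (fun h0 => hind _ (sub_eq_zero.1 h0)) ?_ ?_
  · have hww'' := herm_eq_zero_swap S.hF₀ hww'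
    rw [herm_sub_left, herm_sub_right S.hF₀, herm_sub_right S.hF₀, herm_smul_left, herm_smul_left, herm_smul_right,
      herm_smul_right, hw, hw', hww', hww'']
    ring
  · apply herm_eq_zero_swap S.hF
    rw [cv_sub, cv_smul, herm_sub_left, herm_smul_left]
    change _ - c * _ = 0
    rw [hc]
    field_simp
    ring

end Cfsg.Agent.H930.GUSub
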