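import Cfsg.Agent.H930.TTrans
import Cfsg.Agent.LieClassical.HermGen

/-!
# Siegel transformations in subgroups of the unitary group (calculus)

`HasS q M u w μ`: the Siegel transformation `x ↦ x + h(x,u) w + (μ h(x,u) - h(x,w)) u` lies in `M`.
`u` isotropic, `w ⟂ u`, `μ + μ^q = - h(w,w)`. For `w = 0` these are the transvections with centre `u`.
-/

set_option autoImplicit false
set_option linter.unusedSectionVars false

namespace Cfsg.Agent.H930

open Cfsg Cfsg.Geo Cfsg.Agent.H918 Cfsg.Agent.LieClassical.HermBasic Cfsg.Agent.LieClassical.HermSiegel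
open scoped Matrix MatrixGroups

variable {F : Type*} [Field F] {n q : ℕ}

/-- The Siegel transformation with parameters `u, w, μ` lies in `M`. -/
def HasS (q : ℕ) (M : Subgroup (GL (Fin n) F)) (u w : Fin n → F) (μ : F) : Prop :=
  IsSiegel q u w μ ∧ ∃ g ∈ M, ∀ x, (g : Matrix (Fin n) (Fin n) F) *ᵥ x =
    x + hermForm n F q x u • w + (μ * hermForm n F q x u - hermForm n F q x w) • u

variable {M N : Subgroup (GL (Fin n) F)} {u w w' v x : Fin n → F} {μ μ' c d : F}

theorem HasS.mono (h : M ≤ N) (hs : HasS q M u w μ) : HasS q N u w μ := by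
  obtain ⟨h0, g, hg, hx⟩ := hs
  exact ⟨h0, g, h hg, hx⟩

theorem HasS.congr (hs : HasS q M u w μ) (hw : w = w') (hμ : μ = μ') : HasS q M u w' μ' := by
  subst hw hμ
  exact hs

variable [Fintype F]

theorem HasS.mul (hF : Fintype.card F = q ^ 2) (h : HasS q M u w μ) (h' : HasS q M u w' μ') :
    HasS q M u (w + w') (μ + μ' - hermForm n F q w' w) := by
  obtain ⟨h0, g, hg, hx⟩ := h
  obtain ⟨h0', g', hg', hx'⟩ := h'
  refine ⟨h0.mul hF h0', g * g', M.mul_mem hg hg', fun x => ?_⟩
  rw [Units.val_mul, ← Matrix.mulVec_mulVec, hx', hx]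
  simp only [herm_add_left, herm_add_right hF, herm_smul_left, h0.iso, h0.orth, h0'.orth,
    h0.orth' hF, h0'.orth' hF]
  ext i
  simp only [Pi.add_apply, Pi.smul_apply, smul_eq_mul]
  ring

theorem HasS.inv (hF : Fintype.card F = q ^ 2) (h : HasS q M u w μ) : HasS q M u (-w) (μ ^ q) := by
  obtain ⟨h0, g, hg, hx⟩ := h
  refine ⟨h0.inv hF, g⁻¹, M.inv_mem hg, fun x => ?_⟩
  apply Matrix.mulVec_injective_of_isUnit g.isUnit
  rw [mulVec_inv, hx]
  have htr := h0.tr
  have e : μ ^ q = - μ - hermForm n F q w w := by linear_combination htr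
  simp only [herm_add_left, herm_smul_left, herm_neg_left, herm_neg_right hF, h0.iso, h0.orth,
    h0.orth' hF, e]
  ext i
  simp only [Pi.add_apply, Pi.smul_apply, Pi.neg_apply, smul_eq_mul]
  ring

theorem HasS.conj (h : HasS q M u w μ) {g : GL (Fin n) F} (hg : g ∈ M)
    (hgu : ∀ x y, hermForm n F q ((g : Matrix (Fin n) (Fin n) F) *ᵥ x) ((g : Matrix (Fin n) (Fin n) F) *ᵥ y) =
      hermForm n F q x y) :
    HasS q M ((g : Matrix (Fin n) (Fin n) F) *ᵥ u) ((g : Matrix (Fin n) (Fin n) F) *ᵥ w) μ := by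
  obtain ⟨h0, t, ht, htx⟩ := h
  refine ⟨⟨by rw [hgu]; exact h0.iso, by rw [hgu]; exact h0.orth, by rw [hgu]; exact h0.tr⟩,
    g * t * g⁻¹, M.mul_mem (M.mul_mem hg ht) (M.inv_mem hg), fun x => ?_⟩
  have e : ∀ y, hermForm n F q (((g⁻¹ : GL (Fin n) F) : Matrix (Fin n) (Fin n) F) *ᵥ x) y =
      hermForm n F q x ((g : Matrix (Fin n) (Fin n) F) *ᵥ y) := by
    intro y
    have := hgu (((g⁻¹ : GL (Fin n) F) : Matrix (Fin n) (Fin n) F) *ᵥ x) y
    rw [mulVec_inv] at this
    exact this.symm
  rw [Units.val_mul, Units.val_mul, ← Matrix.mulVec_mulVec, ← Matrix.mulVec_mulVec, htx, e, e,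
    Matrix.mulVec_add, Matrix.mulVec_add, mulVec_inv, Matrix.mulVec_smul, Matrix.mulVec_smul]

/-- Change the second vector by a multiple of the first. -/
theorem HasS.shift (hF : Fintype.card F = q ^ 2) (h : HasS q M u (w + c • u) μ) :
    HasS q M u w (μ + c - c ^ q) := by
  obtain ⟨h0, t, ht, htx⟩ := h
  have ho : hermForm n F q w u = 0 := by
    have := h0.orth
    rw [herm_add_left, herm_smul_left, h0.iso, mul_zero, add_zero] at this
    exact this
  have ho' := herm_eq_zero_swap hF ho
  refine ⟨⟨h0.iso, ho, ?_⟩, t, ht, fun x => ?_⟩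
  · have := h0.tr
    rw [herm_add_left, herm_add_right hF, herm_add_right hF, herm_smul_left, herm_smul_right,
      herm_smul_left, herm_smul_right, ho, ho', h0.iso] at this
    rw [sub_pow_q hF, add_pow_q hF, pow_q_pow_q hF]
    linear_combination this
  · rw [htx, herm_add_right hF, herm_smul_right]
    ext i
    simp only [Pi.add_apply, Pi.smul_apply, smul_eq_mul]
    ring

theorem HasS.unshift (hF : Fintype.card F = q ^ 2) (h : HasS q M u w μ) (c : F) :
    HasS q M u (w + c • u) (μ - c + c ^ q) := by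
  have h1 : HasS q M u ((w + c • u) + (-c) • u) μ := h.congr (by rw [neg_smul, add_neg_cancel_right]) rfl
  have := h1.shift hF
  rw [neg_pow_q hF] at this
  exact this.congr rfl (by ring)

theorem HasS.cancel (hF : Fintype.card F = q ^ 2) (h : HasS q M u w μ) (h' : HasS q M u w μ') :
    HasS q M u 0 (μ - μ') := by
  have := h.mul hF (h'.inv hF)
  refine this.congr (add_neg_cancel w) ?_
  have htr := h'.1.tr
  rw [herm_neg_left]
  linear_combination htr

theorem HasS.add_tv (hF : Fintype.card F = q ^ 2) (h : HasS q M u w μ) (h' : HasS q M u 0 d) :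
    HasS q M u w (μ + d) := by
  refine (h.mul hF h').congr (add_zero w) ?_
  rw [herm_zero_left, sub_zero]

theorem HasS.comm (hF : Fintype.card F = q ^ 2) (h : HasS q M u w μ) (h' : HasS q M u w' μ') :
    HasS q M u 0 (hermForm n F q w w' - hermForm n F q w' w) := by
  have h1 := h.mul hF h'
  have h2 := (h'.mul hF h).congr (add_comm w' w) rfl
  refine (h1.cancel hF h2).congr rfl ?_
  ring

theorem HasS.smul_center (hF : Fintype.card F = q ^ 2) (h : HasS q M (c • u) w μ) (hc : c ≠ 0) :
    HasS q M u (c ^ q • w) (c * c ^ q * μ) := by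
  obtain ⟨h0, t, ht, htx⟩ := h
  have hcq : c ^ q ≠ 0 := pow_ne_zero _ hc
  have hi : hermForm n F q u u = 0 := by
    have := h0.iso
    rw [herm_smul_left, herm_smul_right] at this
    rcases mul_eq_zero.1 this with h | h
    · exact absurd h hc
    · rcases mul_eq_zero.1 h with h | h
      · exact absurd h hcq
      · exact h
  have ho : hermForm n F q w u = 0 := by
    have := h0.orth
    rw [herm_smul_right] at this
    exact (mul_eq_zero.1 this).resolve_left hcq
  refine ⟨⟨hi, by rw [herm_smul_left, ho, mul_zero], ?_⟩, t, ht, fun x => ?_⟩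
  · have := h0.tr
    rw [herm_smul_left, herm_smul_right, mul_pow, norm_pow_q hF, pow_q_pow_q hF]
    linear_combination (c * c ^ q) * this
  · rw [htx, herm_smul_right, herm_smul_right, pow_q_pow_q hF, smul_smul, smul_smul]
    congr 2
    · ring_nf
    · ring

/-- The transvection `t_{v,d}` with `v ⟂ u` moves `S(u, x, ν)`; divide by the original. -/
theorem HasS.act (hF : Fintype.card F = q ^ 2) (h : HasS q M u x μ) (ht : HasS q M v 0 d)
    (hvu : hermForm n F q v u = 0) :
    HasS q M u ((d * hermForm n F q x v) • v) ((d * hermForm n F q x v) ^ q * hermForm n F q x v) := by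
  obtain ⟨ht0, t, htM, htx⟩ := ht
  have huv : hermForm n F q u v = 0 := herm_eq_zero_swap hF hvu
  have htx' : ∀ y, (t : Matrix (Fin n) (Fin n) F) *ᵥ y = y + (d * hermForm n F q y v) • v := by
    intro y
    rw [htx, herm_zero_right hF, smul_zero, add_zero, sub_zero]
  have htr : d + d ^ q = 0 := by
    have := ht0.tr
    rwa [herm_zero_left, add_zero] at this
  have htu : ∀ x y, hermForm n F q ((t : Matrix (Fin n) (Fin n) F) *ᵥ x) ((t : Matrix (Fin n) (Fin n) F) *ᵥ y) =
      hermForm n F q x y := by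
    intro x y
    rw [htx', htx']
    simp only [herm_add_left, herm_add_right hF, herm_smul_left, herm_smul_right, ht0.iso, mul_pow]
    rw [← herm_swap hF y v]
    linear_combination (hermForm n F q x v * hermForm n F q v y) * htr
  have h1 := h.conj htM htu
  rw [htx', huv, mul_zero, zero_smul, add_zero, htx'] at h1
  refine (h1.mul hF (h.inv hF)).congr (by abel) ?_
  have := h.1.tr
  rw [herm_neg_left, herm_add_right hF, herm_smul_right]
  linear_combination this

/-- Transvections and `HasS`. -/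
theorem hasS_zero_iff (hF : Fintype.card F = q ^ 2) : HasS q M v 0 d ↔
    ∃ (hv : hermForm n F q v v = 0) (hd : d + d ^ q = 0), H918.tv hF v d hv hd ∈ M := by
  constructor
  · rintro ⟨h0, t, ht, htx⟩
    have hd : d + d ^ q = 0 := by
      have := h0.tr
      rwa [herm_zero_left, add_zero] at this
    refine ⟨h0.iso, hd, ?_⟩
    have : H918.tv hF v d h0.iso hd = t := by
      apply gl_ext
      intro y
      rw [tv_mulVec, htx, herm_zero_right hF, smul_zero, add_zero, sub_zero]
    rw [this]
    exact ht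
  · rintro ⟨hv, hd, h⟩
    refine ⟨⟨hv, herm_zero_left v, by rw [herm_zero_left, add_zero]; exact hd⟩, _, h, fun y => ?_⟩
    rw [tv_mulVec, herm_zero_right hF, smul_zero, add_zero, sub_zero]

theorem TT_iff_hasS (hF : Fintype.card F = q ^ 2) : TT q M v ↔
    hermForm n F q v v = 0 ∧ ∀ d : F, d + d ^ q = 0 → HasS q M v 0 d := by
  constructor
  · rintro h
    refine ⟨h.1, fun d hd => ?_⟩
    rw [hasS_zero_iff hF]
    exact ⟨h.1, hd, h.tv_mem hF hd⟩
  · rintro ⟨hv, h⟩
    refine tt_of_tv hF hv fun c hc => ?_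
    obtain ⟨_, _, h'⟩ := (hasS_zero_iff hF).1 (h c hc)
    exact h'

/-- Scaling the centre of a transvection. -/
theorem HasS.smul_tv (hF : Fintype.card F = q ^ 2) (h : HasS q M v 0 (c * c ^ q * d)) (hc : c ≠ 0) :
    HasS q M (c • v) 0 d := by
  have hc' : c⁻¹ ≠ 0 := inv_ne_zero hc
  have h1 : HasS q M (c⁻¹ • (c • v)) 0 (c * c ^ q * d) := by
    rw [smul_smul, inv_mul_cancel₀ hc, one_smul]; exact h
  have h2 := h1.smul_center hF hc'
  refine h2.congr (smul_zero _) ?_
  rw [inv_pow]
  have : c ^ q ≠ 0 := pow_ne_zero _ hc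
  field_simp

/-- Elements of `M` that are isometries and all Siegel transformations. -/
theorem HasS.mem_of (hF : Fintype.card F = q ^ 2) (h : HasS q M u w μ) (hs : IsSiegel q u w μ) :
    suHom n F q (siegel hF u w μ hs) ∈ M := by
  obtain ⟨h0, t, ht, htx⟩ := h
  have : suHom n F q (siegel hF u w μ hs) = t := by
    apply gl_ext
    intro y
    rw [htx, coe_suHom]
    exact siegelMat_mulVec u w μ y
  rw [this]
  exact ht

theorem hasS_of_mem (hF : Fintype.card F = q ^ 2) (hs : IsSiegel q u w μ)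
    (h : suHom n F q (siegel hF u w μ hs) ∈ M) : HasS q M u w μ :=
  ⟨hs, _, h, fun y => by rw [coe_suHom]; exact siegelMat_mulVec u w μ y⟩

end Cfsg.Agent.H930
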