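import Mathlib

/-!
# Counting with idempotents in a finite algebra (helper930)

`A` a finite algebra over a field, `π : A → M_ι(F)` surjective, `e` a central idempotent, `π e = 1`, all left ideals
`A f` (`f` an idempotent below `e`) of dimension divisible by `D`, `dim A e ≤ |ι| D`. Then `|ι|` divides `D`.
-/

set_option autoImplicit false
set_option linter.unusedSectionVars false

namespace Cfsg.Agent.H930.Idem

open Matrix

variable {F : Type*} [Field F] {A : Type*} [Ring A] [Algebra F A]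

/-- the subspace `h A f` -/
def bi (F : Type*) [Field F] {A : Type*} [Ring A] [Algebra F A] (h f : A) : Submodule F A where
  carrier := {x | h * x = x ∧ x * f = x}
  add_mem' := by
    rintro a b ⟨h1, h2⟩ ⟨h3, h4⟩
    exact ⟨by rw [mul_add, h1, h3], by rw [add_mul, h2, h4]⟩
  zero_mem' := ⟨mul_zero _, zero_mul _⟩
  smul_mem' := by
    rintro c a ⟨h1, h2⟩
    exact ⟨by rw [mul_smul_comm, h1], by rw [smul_mul_assoc, h2]⟩

theorem mem_bi {h f x : A} : x ∈ bi F h f ↔ h * x = x ∧ x * f = x := Iff.rfl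

variable [Finite A]

theorem exists_pow (x : A) : ∃ k, 0 < k ∧ x ^ k * x ^ k = x ^ k := by
  obtain ⟨a, b, hab, h⟩ : ∃ a b : ℕ, a < b ∧ x ^ a = x ^ b := by
    obtain ⟨a, b, hab, h⟩ := Finite.exists_ne_map_eq_of_infinite (fun n : ℕ => x ^ n)
    rcases lt_or_gt_of_ne hab with h1 | h1
    · exact ⟨a, b, h1, h⟩
    · exact ⟨b, a, h1, h.symm⟩
  obtain ⟨d, hd0, rfl⟩ : ∃ d, 0 < d ∧ b = a + d := ⟨b - a, by omega, by omega⟩
  have h1 : ∀ m j, x ^ (a + m) = x ^ (a + m + d * j) := by
    intro m j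
    induction j with
    | zero => rw [mul_zero, add_zero]
    | succ j ih =>
      rw [ih]
      have e1 : a + m + d * j = a + (m + d * j) := by ring
      have e2 : a + m + d * (j + 1) = (a + d) + (m + d * j) := by ring
      rw [e1, e2, pow_add, pow_add x (a + d), ← h]
  refine ⟨(a + 1) * d, by positivity, ?_⟩
  obtain ⟨m, hm⟩ : ∃ m, (a + 1) * d = a + m := ⟨(a + 1) * d - a, by
    have : a ≤ (a + 1) * d := by nlinarith
    omega⟩
  rw [← pow_add]
  conv_rhs => rw [hm, h1 m (a + 1)]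
  congr 1
  rw [← hm]
  ring

theorem pow_left {h x : A} (hx : h * x = x) : ∀ {k : ℕ}, 0 < k → h * x ^ k = x ^ k := by
  intro k hk
  obtain ⟨k, rfl⟩ : ∃ l, k = l + 1 := ⟨k - 1, by omega⟩
  rw [pow_succ', ← mul_assoc, hx]

theorem pow_right {h x : A} (hx : x * h = x) : ∀ {k : ℕ}, 0 < k → x ^ k * h = x ^ k := by
  intro k hk
  obtain ⟨k, rfl⟩ : ∃ l, k = l + 1 := ⟨k - 1, by omega⟩
  rw [pow_succ, mul_assoc, hx]

theorem idem_pow {R : Type*} [Monoid R] {x : R} (hx : x * x = x) {k : ℕ} (hk : 0 < k) : x ^ k = x := by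
  obtain ⟨k, rfl⟩ : ∃ l, k = l + 1 := ⟨k - 1, by omega⟩
  exact (show IsIdempotentElem x from hx).pow_succ_eq k

/-- lifting of idempotents -/
theorem lift {B : Type*} [Ring B] (π : A →+* B) (hπ : Function.Surjective π) {h : A} (hh : h * h = h) {E : B}
    (hE : E * E = E) (h1 : π h * E = E) (h2 : E * π h = E) :
    ∃ g, g * g = g ∧ h * g = g ∧ g * h = g ∧ π g = E := by
  obtain ⟨x, hx⟩ := hπ E
  obtain ⟨k, hk, hkk⟩ := exists_pow (h * x * h)
  refine ⟨(h * x * h) ^ k, hkk, pow_left ?_ hk, pow_right ?_ hk, ?_⟩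
  · rw [← mul_assoc, ← mul_assoc, hh]
  · rw [mul_assoc, hh]
  · rw [map_pow, map_mul, map_mul, hx, h1, h2, idem_pow hE hk]

instance : Module.Finite F A := Module.Finite.of_finite

theorem finrank_right (f₀ : A) {h g : A} (hh : h * h = h) (hg : g * g = g) (h1 : h * g = g) (h2 : g * h = g) :
    Module.finrank F (bi F h f₀) = Module.finrank F (bi F g f₀) + Module.finrank F (bi F (h - g) f₀) := by
  have hsup : bi F g f₀ ⊔ bi F (h - g) f₀ = bi F h f₀ := by
    apply le_antisymm
    · refine sup_le ?_ ?_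
      · rintro x ⟨hx, hx'⟩
        refine ⟨?_, hx'⟩
        rw [← hx, ← mul_assoc, h1]
      · rintro x ⟨hx, hx'⟩
        refine ⟨?_, hx'⟩
        rw [← hx, ← mul_assoc, mul_sub, hh, h1]
    · rintro x ⟨hx, hx'⟩
      rw [Submodule.mem_sup]
      refine ⟨g * x, ⟨by rw [← mul_assoc, hg], by rw [mul_assoc, hx']⟩, (h - g) * x, ⟨?_, by rw [mul_assoc, hx']⟩, ?_⟩
      · rw [← mul_assoc, sub_mul, mul_sub, mul_sub, hh, h1, h2, hg, sub_self, sub_zero]
      · rw [← add_mul, add_sub_cancel, hx]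
  have hinf : bi F g f₀ ⊓ bi F (h - g) f₀ = ⊥ := by
    rw [eq_bot_iff]
    rintro x ⟨⟨hx, -⟩, hx', -⟩
    rw [Submodule.mem_bot, ← hx, ← hx', ← mul_assoc, mul_sub, h2, hg, sub_self, zero_mul]
  have h3 := Submodule.finrank_sup_add_finrank_inf_eq (bi F g f₀) (bi F (h - g) f₀)
  rw [hsup, hinf, finrank_bot, add_zero] at h3
  exact h3

theorem finrank_left (f₀ : A) {h g : A} (hh : h * h = h) (hg : g * g = g) (h1 : h * g = g) (h2 : g * h = g) :
    Module.finrank F (bi F f₀ h) = Module.finrank F (bi F f₀ g) + Module.finrank F (bi F f₀ (h - g)) := by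
  have hsup : bi F f₀ g ⊔ bi F f₀ (h - g) = bi F f₀ h := by
    apply le_antisymm
    · refine sup_le ?_ ?_
      · rintro x ⟨hx', hx⟩
        refine ⟨hx', ?_⟩
        rw [← hx, mul_assoc, h2]
      · rintro x ⟨hx', hx⟩
        refine ⟨hx', ?_⟩
        rw [← hx, mul_assoc, sub_mul, hh, h2]
    · rintro x ⟨hx', hx⟩
      rw [Submodule.mem_sup]
      refine ⟨x * g, ⟨by rw [← mul_assoc, hx'], by rw [mul_assoc, hg]⟩, x * (h - g),
        ⟨by rw [← mul_assoc, hx'], ?_⟩, ?_⟩
      · have e : (h - g) * (h - g) = h - g := by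
          rw [sub_mul, mul_sub, mul_sub, hh, h1, h2, hg, sub_self, sub_zero]
        rw [mul_assoc, e]
      · rw [← mul_add, add_sub_cancel, hx]
  have hinf : bi F f₀ g ⊓ bi F f₀ (h - g) = ⊥ := by
    rw [eq_bot_iff]
    rintro x ⟨⟨-, hx⟩, -, hx'⟩
    rw [Submodule.mem_bot, ← hx', ← hx, mul_assoc, mul_sub, h2, hg, sub_self, mul_zero]
  have h3 := Submodule.finrank_sup_add_finrank_inf_eq (bi F f₀ g) (bi F f₀ (h - g))
  rw [hsup, hinf, finrank_bot, add_zero] at h3
  exact h3

variable {ι : Type*} [Fintype ι] [DecidableEq ι]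

/-- the diagonal idempotent -/
def dg (F : Type*) [Field F] {ι : Type*} [Fintype ι] [DecidableEq ι] (S : Finset ι) : Matrix ι ι F :=
  Matrix.diagonal fun i => if i ∈ S then 1 else 0

theorem dg_mul (S S' : Finset ι) : dg F S * dg F S' = dg F (S ∩ S') := by
  rw [dg, dg, dg, Matrix.diagonal_mul_diagonal]
  congr 1
  funext i
  by_cases h : i ∈ S <;> by_cases h' : i ∈ S' <;> simp [h, h']

theorem dg_idem (S : Finset ι) : dg F S * dg F S = dg F S := by rw [dg_mul, Finset.inter_self]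

theorem dg_sub {S S' : Finset ι} (h : S' ⊆ S) : dg F S - dg F S' = dg F (S \ S') := by
  rw [dg, dg, dg, Matrix.diagonal_sub]
  congr 1
  funext i
  by_cases h' : i ∈ S'
  · simp [h', h h']
  · by_cases h'' : i ∈ S <;> simp [h', h'']

theorem dg_univ : dg F (Finset.univ : Finset ι) = 1 := by
  rw [dg, ← Matrix.diagonal_one]
  congr 1
  funext i
  simp

theorem dg_ne (i : ι) : dg F ({i} : Finset ι) ≠ 0 := by
  intro h
  have h1 := congrFun (congrFun h i) i
  rw [dg, Matrix.diagonal_apply_eq] at h1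
  simp at h1

/-- an idempotent below `e` lying over the diagonal idempotent `S` -/
structure Ov (π : A →ₐ[F] Matrix ι ι F) (e h : A) (S : Finset ι) : Prop where
  idem : h * h = h
  left : e * h = h
  right : h * e = h
  img : π h = dg F S

variable {π : A →ₐ[F] Matrix ι ι F} {e : A} {D : ℕ}

theorem Ov.exists_sub (hπ : Function.Surjective π) {h : A} {S S' : Finset ι} (hh : Ov π e h S) (hS : S' ⊆ S) :
    ∃ g, Ov π e g S' ∧ h * g = g ∧ g * h = g ∧ Ov π e (h - g) (S \ S') := by
  obtain ⟨g, h1, h2, h3, h4⟩ := lift (π : A →+* Matrix ι ι F) hπ hh.idem (dg_idem (F := F) S')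
    (by change π h * _ = _; rw [hh.img, dg_mul, Finset.inter_eq_right.2 hS])
    (by change _ * π h = _; rw [hh.img, dg_mul, Finset.inter_eq_left.2 hS])
  have h5 : e * g = g := by rw [← h2, ← mul_assoc, hh.left]
  have h6 : g * e = g := by rw [← h3, mul_assoc, hh.right]
  refine ⟨g, ⟨h1, h5, h6, h4⟩, h2, h3, ?_, ?_, ?_, ?_⟩
  · rw [sub_mul, mul_sub, mul_sub, hh.idem, h1, h2, h3, sub_self, sub_zero]
  · rw [mul_sub, hh.left, h5]
  · rw [sub_mul, hh.right, h6]
  · have h7 : π g = dg F S' := h4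
    rw [map_sub, hh.img, h7, dg_sub hS]

/-- the hypotheses -/
structure Hyp (π : A →ₐ[F] Matrix ι ι F) (e : A) (D : ℕ) : Prop where
  surj : Function.Surjective π
  idem : e * e = e
  img : π e = 1
  cen : ∀ x, e * x = x * e
  dvd : ∀ f, f * f = f → e * f = f → D ∣ Module.finrank F (bi F 1 f)
  le : Module.finrank F (bi F 1 e) ≤ Fintype.card ι * D

theorem Hyp.top (H : Hyp π e D) : Ov π e e Finset.univ := ⟨H.idem, H.idem, H.idem, by rw [H.img, dg_univ]⟩

theorem Hyp.ge (H : Hyp π e D) : ∀ (S : Finset ι) (h : A), Ov π e h S → S.card * D ≤ Module.finrank F (bi F 1 h) := by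
  intro S
  induction S using Finset.induction_on with
  | empty => intro h _; rw [Finset.card_empty, zero_mul]; exact Nat.zero_le _
  | insert i S hi ih =>
    intro h hh
    obtain ⟨g, hg, h1, h2, h3⟩ := hh.exists_sub H.surj (S' := {i}) (by simp)
    have h4 : insert i S \ {i} = S := by
      ext x
      simp only [Finset.mem_sdiff, Finset.mem_insert, Finset.mem_singleton]
      constructor
      · rintro ⟨h5 | h5, h6⟩
        · exact absurd h5 h6
        · exact h5
      · intro h5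
        exact ⟨Or.inr h5, fun h6 => hi (h6 ▸ h5)⟩
    rw [h4] at h3
    rw [finrank_left 1 hh.idem hg.idem h1 h2, Finset.card_insert_of_notMem hi, add_mul, one_mul, add_comm]
    refine add_le_add ?_ (ih _ h3)
    refine Nat.le_of_dvd (Nat.pos_of_ne_zero fun h5 => ?_) (H.dvd g hg.idem hg.left)
    rw [Submodule.finrank_eq_zero] at h5
    have h6 : g ∈ bi F 1 g := ⟨one_mul _, hg.idem⟩
    rw [h5, Submodule.mem_bot] at h6
    have h7 := hg.img
    rw [h6, map_zero] at h7
    exact dg_ne i h7.symm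

theorem Hyp.eq (H : Hyp π e D) {S : Finset ι} {h : A} (hh : Ov π e h S) :
    Module.finrank F (bi F 1 h) = S.card * D := by
  apply le_antisymm _ (H.ge S h hh)
  have h1 : Ov π e (e - h) Sᶜ := by
    refine ⟨?_, ?_, ?_, ?_⟩
    · rw [sub_mul, mul_sub, mul_sub, H.idem, hh.left, hh.right, hh.idem, sub_self, sub_zero]
    · rw [mul_sub, H.idem, hh.left]
    · rw [sub_mul, H.idem, hh.right]
    · rw [map_sub, H.img, ← dg_univ, hh.img, dg_sub (Finset.subset_univ _), Finset.compl_eq_univ_sdiff]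
  have h2 := H.ge _ _ h1
  have h3 := finrank_left (F := F) 1 H.idem hh.idem hh.left hh.right
  have h4 := H.le
  have h5 : Sᶜ.card + S.card = Fintype.card ι := by rw [Finset.card_compl]; have := Finset.card_le_univ S; omega
  rw [← h5, add_mul] at h4
  omega

theorem Hyp.eq_zero (H : Hyp π e D) {h : A} (hh : Ov π e h ∅) : h = 0 := by
  have h1 := H.eq hh
  rw [Finset.card_empty, zero_mul, Submodule.finrank_eq_zero] at h1
  have h2 : h ∈ bi F 1 h := ⟨one_mul _, hh.idem⟩
  rw [h1, Submodule.mem_bot] at h2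
  exact h2

theorem dg_single (i : ι) : dg F ({i} : Finset ι) = Matrix.single i i 1 := by
  ext a b
  rw [dg, Matrix.diagonal_apply, Matrix.single_apply]
  by_cases h : a = b
  · subst h
    by_cases h' : i = a
    · subst h'; simp
    · simp [h', Ne.symm h']
  · rw [if_neg h, if_neg]
    rintro ⟨rfl, rfl⟩
    exact h rfl

theorem Hyp.le_of (H : Hyp π e D) (f₀ : A) {f f' : A} {i j : ι} (hf : Ov π e f {i}) (hf' : Ov π e f' {j}) :
    Module.finrank F (bi F f f₀) ≤ Module.finrank F (bi F f' f₀) := by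
  obtain ⟨a₀, ha₀⟩ := H.surj (Matrix.single i j 1)
  obtain ⟨b₀, hb₀⟩ := H.surj (Matrix.single j i 1)
  obtain ⟨a, ha⟩ : ∃ a, a = f * a₀ * f' := ⟨_, rfl⟩
  obtain ⟨b, hb⟩ : ∃ b, b = f' * b₀ * f := ⟨_, rfl⟩
  have hπa : π a = Matrix.single i j 1 := by
    rw [ha, map_mul, map_mul, ha₀, hf.img, hf'.img, dg_single, dg_single, Matrix.single_mul_single_same,
      Matrix.single_mul_single_same, mul_one, mul_one]
  have hπb : π b = Matrix.single j i 1 := by
    rw [hb, map_mul, map_mul, hb₀, hf.img, hf'.img, dg_single, dg_single, Matrix.single_mul_single_same,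
      Matrix.single_mul_single_same, mul_one, mul_one]
  have hfa : f * (a * b) = a * b := by rw [ha, ← mul_assoc, ← mul_assoc, ← mul_assoc, hf.idem]
  have hbf : a * b * f = a * b := by rw [hb, mul_assoc, mul_assoc, hf.idem]
  obtain ⟨k, hk, hkk⟩ := exists_pow (a * b)
  have hl := pow_left hfa hk
  have hr := pow_right hbf hk
  have hπk : π ((a * b) ^ k) = dg F {i} := by
    rw [map_pow, map_mul, hπa, hπb, Matrix.single_mul_single_same, mul_one, ← dg_single, idem_pow (dg_idem _) hk]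
  have hz : f - (a * b) ^ k = 0 := by
    apply H.eq_zero
    refine ⟨?_, ?_, ?_, ?_⟩
    · rw [sub_mul, mul_sub, mul_sub, hf.idem, hl, hr, hkk, sub_self, sub_zero]
    · rw [mul_sub, hf.left, ← hl, ← mul_assoc, hf.left]
    · rw [sub_mul, hf.right, ← hr, mul_assoc, hf.right]
    · rw [map_sub, hπk, hf.img, sub_self]
      ext x y
      rw [dg, Matrix.diagonal_apply, Matrix.zero_apply]
      split_ifs <;> simp_all
  have hfk : f = (a * b) ^ k := sub_eq_zero.1 hz
  -- the map
  let L : bi F f f₀ →ₗ[F] bi F f' f₀ :=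
    { toFun := fun x => ⟨b * x, by rw [hb, ← mul_assoc, ← mul_assoc, ← mul_assoc, hf'.idem], by rw [mul_assoc, x.2.2]⟩
      map_add' := fun x y => Subtype.ext (mul_add b (x : A) y)
      map_smul' := fun c x => Subtype.ext (mul_smul_comm c b (x : A)) }
  have hL : Function.Injective L := by
    rw [← LinearMap.ker_eq_bot, LinearMap.ker_eq_bot']
    intro x hx
    have h1 : b * (x : A) = 0 := congrArg Subtype.val hx
    apply Subtype.ext
    obtain ⟨k, rfl⟩ : ∃ l, k = l + 1 := ⟨k - 1, by omega⟩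
    have h2 : (a * b) ^ (k + 1) * (x : A) = x := by rw [← hfk]; exact x.2.1
    change (x : A) = 0
    rw [← h2, pow_succ, mul_assoc, mul_assoc, h1, mul_zero, mul_zero]
  exact LinearMap.finrank_le_finrank_of_injective hL

theorem Hyp.count (H : Hyp π e D) (f₀ : A) {f : A} {i : ι} (hf : Ov π e f {i}) : ∀ (S : Finset ι) (h : A),
    Ov π e h S → Module.finrank F (bi F h f₀) = S.card * Module.finrank F (bi F f f₀) := by
  intro S
  induction S using Finset.induction_on with
  | empty =>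
    intro h hh
    rw [H.eq_zero hh, Finset.card_empty, zero_mul, Submodule.finrank_eq_zero, eq_bot_iff]
    rintro x ⟨hx, -⟩
    rw [zero_mul] at hx
    exact hx.symm
  | insert j S hj ih =>
    intro h hh
    obtain ⟨g, hg, h1, h2, h3⟩ := hh.exists_sub H.surj (S' := {j}) (by simp)
    have h4 : insert j S \ {j} = S := by
      ext x
      simp only [Finset.mem_sdiff, Finset.mem_insert, Finset.mem_singleton]
      constructor
      · rintro ⟨h5 | h5, h6⟩
        · exact absurd h5 h6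
        · exact h5
      · intro h5
        exact ⟨Or.inr h5, fun h6 => hj (h6 ▸ h5)⟩
    rw [h4] at h3
    rw [finrank_right f₀ hh.idem hg.idem h1 h2, Finset.card_insert_of_notMem hj, ih _ h3,
      le_antisymm (H.le_of f₀ hg hf) (H.le_of f₀ hf hg)]
    ring

/-- **`|ι|` divides `D`.** -/
theorem Hyp.dvd_card (H : Hyp π e D) [Nonempty ι] : Fintype.card ι ∣ D := by
  obtain ⟨i⟩ := ‹Nonempty ι›
  obtain ⟨f, hf, h1, h2, -⟩ := H.top.exists_sub H.surj (S' := {i}) (Finset.subset_univ _)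
  have h3 := H.eq hf
  have h4 := H.count f hf Finset.univ e H.top
  have h5 : bi F e f = bi F 1 f := by
    ext x
    rw [mem_bi, mem_bi]
    refine ⟨fun h => ⟨one_mul _, h.2⟩, fun h => ⟨?_, h.2⟩⟩
    rw [H.cen, ← h.2, mul_assoc, hf.right]
  rw [h5, h3, Finset.card_singleton, one_mul, Finset.card_univ] at h4
  exact ⟨_, h4⟩

end Cfsg.Agent.H930.Idem
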