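import Cfsg.Agent.H926.CcExcl
import Cfsg.Agent.H926.CcNorm
import Cfsg.Agent.H918.UBase
import Cfsg.Agent.LieClassical.HermBasic

/-!
# The unitary torus of prime degree: orders

`E/F` of odd prime degree `n`, `|F| = q²`, `|E| = Q²`, `Q = q^n`; `φ : E → M_n(F)` with `φ(a)^* = φ(a^Q)`.
-/

set_option autoImplicit false

namespace Cfsg.Agent.H930.Prm

open Module Cfsg Cfsg.Geo
open scoped MatrixGroups Matrix
open Cfsg.Agent.LieClassical.HermBasic
open Cfsg.Agent.H918 (SUg mem_SUg mem_GU mem_specialLinear)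
open Cfsg.Agent.H926.Cc

/-! ### Arithmetic -/

section Arith

variable {q n : ℕ}

/-- `(q^n + 1) / (q + 1)`. -/
def tn (q n : ℕ) : ℕ := (q ^ n + 1) / (q + 1)

theorem tn_mul (hn : Odd n) : tn q n * (q + 1) = q ^ n + 1 := by
  apply Nat.div_mul_cancel
  have := Odd.nat_add_dvd_pow_add_pow q 1 hn
  rwa [one_pow] at this

theorem pow_sub_one_eq (hq : 1 ≤ q) : (q ^ n) ^ 2 - 1 = (q ^ n - 1) * (q ^ n + 1) := by
  obtain ⟨s, hs⟩ := Nat.exists_eq_add_of_le (Nat.one_le_pow n q hq)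
  rw [hs, Nat.add_sub_cancel_left]
  have : (1 + s) ^ 2 = s * (1 + s + 1) + 1 := by ring
  omega

/-- The geometric sum. -/
def gs (q n : ℕ) : ℕ := ∑ i ∈ Finset.range n, q ^ i

theorem gs_mul (hq : 2 ≤ q) : gs q n * (q - 1) = q ^ n - 1 := by
  rw [gs, Nat.geomSum_eq hq]
  exact Nat.div_mul_cancel (by simpa using Nat.sub_dvd_pow_sub_pow q 1 n)

theorem gs_mod (hn : Odd n) : gs q n ≡ 1 [MOD (q + 1)] := by
  obtain ⟨m, rfl⟩ := hn
  induction m with
  | zero => simp [gs, Nat.ModEq]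
  | succ m ih =>
    have e : gs q (2 * (m + 1) + 1) = gs q (2 * m + 1) + q ^ (2 * m + 1) * (q + 1) := by
      unfold gs
      rw [show 2 * (m + 1) + 1 = (2 * m + 1) + 1 + 1 by ring, Finset.sum_range_succ, Finset.sum_range_succ]
      ring
    rw [e]
    have h2 : q ^ (2 * m + 1) * (q + 1) ≡ 0 [MOD (q + 1)] := (Nat.modEq_zero_iff_dvd).2 (Dvd.intro_left _ rfl)
    exact (ih.add h2)

theorem gs_coprime (hn : Odd n) : Nat.Coprime (gs q n) (q + 1) := by
  have h := gs_mod (q := q) hn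
  have h1 := h.gcd_eq
  rw [Nat.Coprime, h1, Nat.gcd_one_left]

/-- The exponent of the norm. -/
theorem norm_exp (hq : 2 ≤ q) (hn : Odd n) : ((q ^ n) ^ 2 - 1) / (q ^ 2 - 1) = gs q n * tn q n := by
  have h0 : 0 < q ^ 2 - 1 := by
    have : 2 ^ 2 ≤ q ^ 2 := Nat.pow_le_pow_left hq 2
    omega
  apply Nat.div_eq_of_eq_mul_left h0
  have e1 : q ^ 2 - 1 = (q - 1) * (q + 1) := by
    have := pow_sub_one_eq (q := q) (n := 1) (by omega)
    rwa [pow_one] at this
  rw [pow_sub_one_eq (by omega), e1, ← gs_mul hq, ← tn_mul hn]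
  ring

theorem gcd_exp (hn : Odd n) : Nat.gcd (q ^ n + 1) (gs q n * tn q n) = tn q n := by
  rw [← tn_mul hn, mul_comm (gs q n), Nat.gcd_mul_left]
  have h := gs_coprime (q := q) hn
  rw [Nat.Coprime, Nat.gcd_comm] at h
  rw [h, mul_one]

/-- Reduction modulo `q + 1`. -/
theorem tn_mod (hn : Odd n) : tn q n ≡ n [MOD (q + 1)] := by
  obtain ⟨m, rfl⟩ := hn
  induction m with
  | zero =>
    have h := tn_mul (q := q) (n := 1) (by decide)
    rw [pow_one] at h
    have : tn q 1 = 1 := Nat.eq_of_mul_eq_mul_right (by omega : 0 < q + 1) (by rw [h, one_mul])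
    rw [mul_zero, zero_add, this]
  | succ m ih =>
    have h1 := tn_mul (q := q) (n := 2 * m + 1) ⟨m, rfl⟩
    have h2 := tn_mul (q := q) (n := 2 * (m + 1) + 1) ⟨m + 1, rfl⟩
    have e : tn q (2 * (m + 1) + 1) + q ^ (2 * m + 1) = tn q (2 * m + 1) + q ^ (2 * m + 2) := by
      apply Nat.eq_of_mul_eq_mul_right (by omega : 0 < q + 1)
      rw [add_mul, add_mul, h1, h2]
      ring
    have h3 : q ^ (2 * m + 1) + q ^ (2 * m + 2) ≡ 0 [MOD (q + 1)] := by
      have : q ^ (2 * m + 1) + q ^ (2 * m + 2) = q ^ (2 * m + 1) * (q + 1) := by ring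
      rw [this]
      exact (Nat.modEq_zero_iff_dvd).2 (Dvd.intro_left _ rfl)
    -- `q ^ (2m+1) ≡ -1`
    have h4 : q ^ (2 * m + 1) + 1 ≡ 0 [MOD (q + 1)] := by
      rw [← h1]
      exact (Nat.modEq_zero_iff_dvd).2 (Dvd.intro_left _ rfl)
    have h5 : q ^ (2 * m + 2) ≡ 1 [MOD (q + 1)] := by
      apply Nat.ModEq.add_left_cancel' (q ^ (2 * m + 1))
      exact h3.trans h4.symm
    have h6 : tn q (2 * (m + 1) + 1) + q ^ (2 * m + 1) ≡ (2 * (m + 1) + 1) + q ^ (2 * m + 1) [MOD (q + 1)] := by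
      rw [e]
      have e2 : 2 * (m + 1) + 1 + q ^ (2 * m + 1) = (2 * m + 1) + (1 + (q ^ (2 * m + 1) + 1)) := by ring
      rw [e2]
      apply ih.add
      apply h5.trans
      have := (Nat.ModEq.refl 1).add h4
      exact this.symm
    exact Nat.ModEq.add_right_cancel' _ h6

theorem gcd_tn (hn : Odd n) : Nat.gcd (tn q n) (q + 1) = Nat.gcd n (q + 1) := by
  have h := tn_mod (q := q) hn
  exact h.gcd_eq

end Arith

end Cfsg.Agent.H930.Prm
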