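import Cfsg.Agent.H930.PrmA

/-!
# Fields of odd prime degree: roots of scalars of norm one
-/

set_option autoImplicit false

namespace Cfsg.Agent.H930.Prm

open Module

section Arith

theorem gs_mod_of_mod {k n : ℕ} (h : k ≡ 1 [MOD n]) (i : ℕ) : gs k i ≡ i [MOD n] := by
  induction i with
  | zero => simp [gs, Nat.ModEq]
  | succ i ih =>
    have e : gs k (i + 1) = gs k i + k ^ i := by unfold gs; rw [Finset.sum_range_succ]
    rw [e]
    have h2 : k ^ i ≡ 1 [MOD n] := by
      have := h.pow i
      rwa [one_pow] at this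
    exact ih.add h2

theorem gs_eq_add {k : ℕ} (hk : 2 ≤ k) (n : ℕ) :
    gs k n = n + (k - 1) * ∑ i ∈ Finset.range n, gs k i := by
  rw [Finset.mul_sum]
  have e : n = ∑ _i ∈ Finset.range n, 1 := by simp
  conv_rhs =>
    congr
    · rw [e]
  rw [← Finset.sum_add_distrib, gs]
  refine Finset.sum_congr rfl fun i _ => ?_
  rw [mul_comm, gs_mul hk]
  have := Nat.one_le_pow i k (by omega)
  omega

theorem sum_gs_mod {k n : ℕ} (h : k ≡ 1 [MOD n]) (hn : Odd n) : n ∣ ∑ i ∈ Finset.range n, gs k i := by
  have h1 : ∑ i ∈ Finset.range n, gs k i ≡ ∑ i ∈ Finset.range n, i [MOD n] := by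
    have : ∀ s : Finset ℕ, ∑ i ∈ s, gs k i ≡ ∑ i ∈ s, i [MOD n] := by
      intro s
      classical
      induction s using Finset.induction_on with
      | empty => exact Nat.ModEq.refl _
      | insert a s ha ih =>
        rw [Finset.sum_insert ha, Finset.sum_insert ha]
        exact (gs_mod_of_mod h a).add ih
    exact this _
  have h2 : n ∣ ∑ i ∈ Finset.range n, i := by
    have h3 := Finset.sum_range_id_mul_two n
    have h4 : n ∣ (∑ i ∈ Finset.range n, i) * 2 := by rw [h3]; exact Dvd.intro _ rfl
    exact (Nat.Coprime.dvd_of_dvd_mul_right (Nat.coprime_two_right.2 hn) h4)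
  exact (Nat.modEq_zero_iff_dvd).1 (h1.trans ((Nat.modEq_zero_iff_dvd).2 h2))

end Arith

variable {F : Type*} [Field F] [Fintype F] {E : Type*} [Field E] [Fintype E] [Algebra F E]

omit [Fintype E] in
/-- The elements of `F` in `E`. -/
theorem exists_alg_of_pow {a : E} (h : a ^ Fintype.card F = a) : ∃ c : F, a = algebraMap F E c := by
  classical
  have hk : 1 < Fintype.card F := Fintype.one_lt_card
  have hinj : Function.Injective (algebraMap F E) := (algebraMap F E).injective
  let f : Polynomial E := Polynomial.X ^ Fintype.card F - Polynomial.X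
  have hf : f ≠ 0 := FiniteField.X_pow_card_sub_X_ne_zero E hk
  have hdeg : f.natDegree = Fintype.card F := FiniteField.X_pow_card_sub_X_natDegree_eq E hk
  have hsub : (Finset.univ.image (algebraMap F E)) ⊆ f.roots.toFinset := by
    intro x hx
    obtain ⟨c, -, rfl⟩ := Finset.mem_image.1 hx
    rw [Multiset.mem_toFinset, Polynomial.mem_roots hf]
    simp only [f, Polynomial.IsRoot.def, Polynomial.eval_sub, Polynomial.eval_pow, Polynomial.eval_X]
    rw [← map_pow, FiniteField.pow_card, sub_self]
  have hcard : f.roots.toFinset.card ≤ (Finset.univ.image (algebraMap F E)).card := by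
    rw [Finset.card_image_of_injective _ hinj, Finset.card_univ]
    calc f.roots.toFinset.card ≤ Multiset.card f.roots := Multiset.toFinset_card_le _
      _ ≤ f.natDegree := Polynomial.card_roots' _
      _ = Fintype.card F := hdeg
  have heq := Finset.eq_of_subset_of_card_le hsub hcard
  have ha : a ∈ f.roots.toFinset := by
    rw [Multiset.mem_toFinset, Polynomial.mem_roots hf]
    simp only [f, Polynomial.IsRoot.def, Polynomial.eval_sub, Polynomial.eval_pow, Polynomial.eval_X]
    rw [h, sub_self]
  rw [← heq] at ha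
  obtain ⟨c, -, hc⟩ := Finset.mem_image.1 ha
  exact ⟨c, hc.symm⟩

theorem norm_eq_gs (a : E) : algebraMap F E (Algebra.norm F a) = a ^ gs (Fintype.card F) (finrank F E) := by
  have : Module.Finite F E := Module.Finite.of_finite
  rw [FiniteField.algebraMap_norm_eq_pow, Nat.card_eq_fintype_card, Nat.card_eq_fintype_card,
    Module.card_eq_pow_finrank (K := F) (V := E), ← gs_mul (Fintype.one_lt_card (α := F)), Nat.mul_div_cancel]
  have : 1 < Fintype.card F := Fintype.one_lt_card
  omega

/-- **In odd prime degree, an element of norm one whose `n`-th power is a scalar is a scalar.** -/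
theorem scalar_of_norm_one (hn : (finrank F E).Prime) (hodd : Odd (finrank F E)) {a : E}
    (hN : Algebra.norm F a = 1) (h : ∃ c : F, a ^ finrank F E = algebraMap F E c) : ∃ c : F, a = algebraMap F E c := by
  have : Module.Finite F E := Module.Finite.of_finite
  obtain ⟨c, hc⟩ := h
  obtain ⟨k, hk⟩ : ∃ k, k = Fintype.card F := ⟨_, rfl⟩
  obtain ⟨n, hn'⟩ : ∃ n, n = finrank F E := ⟨_, rfl⟩
  rw [← hn'] at hn hodd hc
  have hk2 : 2 ≤ k := by rw [hk]; exact Fintype.one_lt_card
  have ha0 : a ≠ 0 := by
    rintro rfl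
    rw [Algebra.norm_zero] at hN
    exact zero_ne_one hN
  have hc0 : c ≠ 0 := by
    rintro rfl
    rw [map_zero] at hc
    exact pow_ne_zero _ ha0 hc
  have h1 : a ^ gs k n = 1 := by
    rw [hk, hn', ← norm_eq_gs, hN, map_one]
  have h2 : a ^ (n * (k - 1)) = 1 := by
    rw [pow_mul, hc, ← map_pow, hk, FiniteField.pow_card_sub_one_eq_one c hc0, map_one]
  suffices h3 : a ^ (k - 1) = 1 by
    apply exists_alg_of_pow
    rw [← hk]
    have : k = (k - 1) + 1 := by omega
    rw [this, pow_succ, h3, one_mul]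
  have hfact : Fact n.Prime := ⟨hn⟩
  by_cases hmod : k ≡ 1 [MOD n]
  · obtain ⟨s, hs⟩ := sum_gs_mod hmod hodd
    have h4 : a ^ n = 1 := by
      rw [gs_eq_add hk2, hs, pow_add] at h1
      have h5 : a ^ ((k - 1) * (n * s)) = 1 := by
        have : (k - 1) * (n * s) = (n * (k - 1)) * s := by ring
        rw [this, pow_mul, h2, one_pow]
      rwa [h5, mul_one] at h1
    obtain ⟨t, ht⟩ := (Nat.modEq_iff_dvd' (by omega)).1 hmod.symm
    rw [ht, pow_mul, h4, one_pow]
  · -- `n` does not divide the order
    have h5 : a ^ Nat.gcd (gs k n) (n * (k - 1)) = 1 := pow_gcd_eq_one.2 ⟨h1, h2⟩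
    have h6 : ¬ n ∣ gs k n := by
      intro h7
      apply hmod
      have h8 : n ∣ k ^ n - 1 := by
        rw [← gs_mul hk2]
        exact Dvd.dvd.mul_right h7 _
      have h9 : k ^ n ≡ k [MOD n] := by
        rw [← ZMod.natCast_eq_natCast_iff]
        push_cast
        exact ZMod.pow_card _
      have h10 : k ^ n ≡ 1 [MOD n] := ((Nat.modEq_iff_dvd' (Nat.one_le_pow _ _ (by omega))).2 h8).symm
      exact h9.symm.trans h10
    have h7 : Nat.gcd (gs k n) (n * (k - 1)) ∣ k - 1 := by
      have h8 : Nat.Coprime (Nat.gcd (gs k n) (n * (k - 1))) n := by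
        rw [Nat.coprime_comm, hn.coprime_iff_not_dvd]
        intro h9
        exact h6 (h9.trans (Nat.gcd_dvd_left _ _))
      exact h8.dvd_of_dvd_mul_left (Nat.gcd_dvd_right _ _)
    obtain ⟨t, ht⟩ := h7
    rw [ht, pow_mul, h5, one_pow]

end Cfsg.Agent.H930.Prm
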