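import Cfsg.Agent.H930.PrmB

/-!
# The unitary torus of prime degree: the subgroups
-/

set_option autoImplicit false
set_option linter.unusedSectionVars false

namespace Cfsg.Agent.H930.Prm

open Module Cfsg Cfsg.Geo
open scoped MatrixGroups Matrix
open Cfsg.Agent.LieClassical.HermBasic
open Cfsg.Agent.H918 (SUg mem_SUg mem_GU mem_specialLinear)
open Cfsg.Agent.H926.Cc

variable {F : Type*} [Field F] [Fintype F] {E : Type*} [Field E] [Fintype E] [Algebra F E] {n q : ℕ}

/-- A matrix copy of a field of odd prime degree `n`, closed under adjoints. -/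
structure UT (q : ℕ) (φ : E →ₐ[F] Matrix (Fin n) (Fin n) F) : Prop where
  hF : Fintype.card F = q ^ 2
  hn : n.Prime
  hodd : Odd n
  fr : finrank F E = n
  adj : ∀ (a : E) (u v : Fin n → F), hermForm n F q (φ a *ᵥ u) v = hermForm n F q u (φ (a ^ (q ^ n)) *ᵥ v)

variable {φ : E →ₐ[F] Matrix (Fin n) (Fin n) F} (U : UT q φ)
include U

omit [Fintype E] in
theorem UT.q2 : 2 ≤ q := two_le U.hF

omit [Fintype E] in
theorem UT.fd : FiniteDimensional F E := by
  apply Module.finite_of_finrank_pos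
  rw [U.fr]
  exact U.hn.pos

omit [Fintype E] in
theorem UT.ne : Nonempty (Fin n) := ⟨⟨0, U.hn.pos⟩⟩

theorem UT.cardE : Fintype.card E = (q ^ n) ^ 2 := by
  have := U.fd
  rw [Module.card_eq_pow_finrank (K := F) (V := E), U.fr, U.hF, ← pow_mul, ← pow_mul, mul_comm]

theorem UT.alg_pow (c : F) : algebraMap F E c ^ (q ^ n) = algebraMap F E (c ^ q) := by
  have hc : c ^ (q ^ n) = c ^ q := by
    obtain ⟨j, hj⟩ := U.hodd
    have h1 : q ^ n = (q ^ 2) ^ j * q := by rw [hj, pow_succ, pow_mul]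
    rw [h1, pow_mul]
    congr 1
    rw [← U.hF]
    exact FiniteField.pow_card_pow j c
  rw [← map_pow, hc]

theorem UT.norm (a : E) : algebraMap F E (Algebra.norm F a) = a ^ (gs q n * tn q n) := by
  rw [norm_eq_gs, U.fr, U.hF]
  congr 1
  have h0 : 0 < q ^ 2 - 1 := by
    have : 2 ^ 2 ≤ q ^ 2 := Nat.pow_le_pow_left U.q2 2
    omega
  have h1 := gs_mul (q := q ^ 2) (n := n) (by have : 2 ^ 2 ≤ q ^ 2 := Nat.pow_le_pow_left U.q2 2; omega)
  rw [← norm_exp U.q2 U.hodd]
  symm
  apply Nat.div_eq_of_eq_mul_left h0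
  rw [h1, ← pow_mul, ← pow_mul, mul_comm]

theorem UT.mem_SUg_iff {g : GL (Fin n) F} {a : E} (h : (g : Matrix (Fin n) (Fin n) F) = φ a) :
    g ∈ SUg n F q ↔ a ^ tn q n = 1 := by
  have := U.fd
  have hQ : (∀ u v : Fin n → F, hermForm n F q ((g : Matrix (Fin n) (Fin n) F) *ᵥ u)
      ((g : Matrix (Fin n) (Fin n) F) *ᵥ v) = hermForm n F q u v) ↔ a ^ (q ^ n + 1) = 1 := by
    have h1 : ∀ u v : Fin n → F, hermForm n F q ((g : Matrix (Fin n) (Fin n) F) *ᵥ u)
        ((g : Matrix (Fin n) (Fin n) F) *ᵥ v) = hermForm n F q u (φ (a ^ (q ^ n + 1)) *ᵥ v) := by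
      intro u v
      rw [h, U.adj, Matrix.mulVec_mulVec, ← map_mul, ← pow_succ]
    constructor
    · intro h2
      have h3 : φ (a ^ (q ^ n + 1)) = φ 1 := by
        apply Matrix.mulVec_injective
        funext v
        rw [map_one]
        show _ = (1 : Matrix (Fin n) (Fin n) F) *ᵥ v
        rw [Matrix.one_mulVec, ← sub_eq_zero]
        apply herm_nondeg U.hF
        intro u
        apply herm_eq_zero_swap U.hF
        rw [herm_sub_right U.hF, ← h1, h2, sub_self]
      have := U.ne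
      exact φ.toRingHom.injective h3
    · intro h2 u v
      rw [h1, h2, map_one, Matrix.one_mulVec]
  have hD : (g : Matrix (Fin n) (Fin n) F).det = 1 ↔ a ^ (gs q n * tn q n) = 1 := by
    rw [h, det_phi φ (by rw [U.fr, Fintype.card_fin]) a, ← U.norm]
    constructor
    · intro h2; rw [h2, map_one]
    · intro h2
      apply (algebraMap F E).injective
      rw [h2, map_one]
  rw [mem_SUg, hQ, hD, ← pow_gcd_eq_one, gcd_exp U.hodd]

/-- The overgroups. -/
structure Over (q : ℕ) (φ : E →ₐ[F] Matrix (Fin n) (Fin n) F) (L : Subgroup (GL (Fin n) F)) : Prop where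
  le : subalgebraNormalizer φ.range ⊓ SUg n F q ≤ L
  ge : L ≤ SUg n F q

variable {L : Subgroup (GL (Fin n) F)} (O : Over q φ L)

omit [Fintype F] [Fintype E] U in
theorem phi_mem_normalizer {g : GL (Fin n) F} {a : E} (hn : 0 < n) (h : (g : Matrix (Fin n) (Fin n) F) = φ a) :
    g ∈ subalgebraNormalizer φ.range := by
  have : Nonempty (Fin n) := ⟨⟨0, hn⟩⟩
  have ha := phi_ne_zero φ g h
  have hi := inv_eq_phi φ g h
  intro x
  constructor
  · rintro ⟨b, rfl⟩
    refine ⟨b, ?_⟩
    show φ b = (g : Matrix (Fin n) (Fin n) F) * φ b * ((g⁻¹ : GL (Fin n) F) : Matrix (Fin n) (Fin n) F)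
    rw [h, hi, ← map_mul, ← map_mul]
    congr 1
    field_simp
  · rintro ⟨b, hb⟩
    refine ⟨b, ?_⟩
    change φ b = (g : Matrix (Fin n) (Fin n) F) * x * ((g⁻¹ : GL (Fin n) F) : Matrix (Fin n) (Fin n) F) at hb
    show φ b = x
    have h1 : x = ((g⁻¹ : GL (Fin n) F) : Matrix (Fin n) (Fin n) F) * φ b * (g : Matrix (Fin n) (Fin n) F) := by
      rw [hb]
      have h2 : ((g⁻¹ : GL (Fin n) F) : Matrix (Fin n) (Fin n) F) * (g : Matrix (Fin n) (Fin n) F) = 1 := by
        rw [← Units.val_mul, inv_mul_cancel, Units.val_one]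
      calc x = (((g⁻¹ : GL (Fin n) F) : Matrix (Fin n) (Fin n) F) * (g : Matrix (Fin n) (Fin n) F)) * x *
            (((g⁻¹ : GL (Fin n) F) : Matrix (Fin n) (Fin n) F) * (g : Matrix (Fin n) (Fin n) F)) := by
              rw [h2, one_mul, mul_one]
        _ = _ := by simp only [mul_assoc]
    rw [h1, hi, h, ← map_mul, ← map_mul]
    congr 1
    field_simp

include O in
theorem UT.mem_L_iff {g : GL (Fin n) F} {a : E} (h : (g : Matrix (Fin n) (Fin n) F) = φ a) :
    g ∈ L ↔ a ^ tn q n = 1 := by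
  rw [← U.mem_SUg_iff h]
  exact ⟨fun hg => O.ge hg, fun hg => O.le ⟨phi_mem_normalizer U.hn.pos h, hg⟩⟩

/-- The torus in `L`. -/
noncomputable def UT.theta (O : Over q φ L) : (powMonoidHom (tn q n) : Eˣ →* Eˣ).ker →* L where
  toFun x := ⟨Units.map (φ : E →* Matrix (Fin n) (Fin n) F) x, (U.mem_L_iff O (a := ((x : Eˣ) : E)) rfl).2 (by
    have h1 := MonoidHom.mem_ker.1 x.2
    have h2 := congrArg (fun y : Eˣ => (y : E)) h1
    simpa using h2)⟩
  map_one' := by
    apply Subtype.ext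
    show Units.map _ 1 = 1
    rw [map_one]
  map_mul' x y := by
    apply Subtype.ext
    show Units.map _ ((x : Eˣ) * (y : Eˣ)) = _
    rw [map_mul]
    rfl

theorem UT.theta_val (x : (powMonoidHom (tn q n) : Eˣ →* Eˣ).ker) :
    ((U.theta O x : GL (Fin n) F) : Matrix (Fin n) (Fin n) F) = φ ((x : Eˣ) : E) := rfl

theorem UT.theta_injective : Function.Injective (U.theta O) := by
  intro x y h
  have := U.ne
  have h1 : φ ((x : Eˣ) : E) = φ ((y : Eˣ) : E) := by
    rw [← U.theta_val O, ← U.theta_val O, h]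
  exact Subtype.ext (Units.ext (φ.toRingHom.injective h1))

variable [Nonempty (Fin n)]

theorem UT.range_theta : (U.theta O).range = Cs φ L := by
  ext g
  constructor
  · rintro ⟨x, rfl⟩
    exact ⟨_, rfl⟩
  · rintro ⟨a, ha⟩
    have ha0 : a ≠ 0 := phi_ne_zero φ _ ha
    have h1 := (U.mem_L_iff O ha).1 g.2
    refine ⟨⟨Units.mk0 a ha0, ?_⟩, ?_⟩
    · rw [MonoidHom.mem_ker]
      apply Units.ext
      show ((Units.mk0 a ha0 ^ tn q n : Eˣ) : E) = 1
      rw [Units.val_pow_eq_pow_val, Units.val_mk0, h1]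
    · apply Subtype.ext
      apply Units.ext
      rw [U.theta_val O, ha]
      rfl

include O in
theorem UT.card_Cs : Nat.card (Cs φ L) = tn q n := by
  rw [← U.range_theta O, ← Nat.card_congr (MonoidHom.ofInjective (U.theta_injective O)).toEquiv,
    IsCyclic.card_powMonoidHom_ker, Nat.card_units, Nat.card_eq_fintype_card, U.cardE, pow_sub_one_eq (by have := U.q2; omega)]
  apply Nat.gcd_eq_right
  rw [← tn_mul U.hodd]
  exact Dvd.intro_left ((q ^ n - 1) * (q + 1)) (by ring)

theorem UT.cyclic_Cs (O : Over q φ L) : IsCyclic (Cs φ L) := by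
  rw [← U.range_theta O]
  exact isCyclic_of_surjective _ (U.theta O).rangeRestrict_surjective

theorem UT.cyclic_Dq (O : Over q φ L) : IsCyclic (Dq φ L) := by
  have := U.cyclic_Cs O
  exact isCyclic_of_surjective _ ((QuotientGroup.mk' (Zs L)).subgroupMap_surjective (Cs φ L))

/-- The scalars in `L`. -/
noncomputable def UT.zeta (O : Over q φ L) : (powMonoidHom (Nat.gcd n (q + 1)) : Fˣ →* Fˣ).ker →* L where
  toFun x := ⟨Units.map ((φ : E →* Matrix (Fin n) (Fin n) F).comp (algebraMap F E : F →* E)) x,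
    (U.mem_L_iff O (a := algebraMap F E ((x : Fˣ) : F)) rfl).2 (by
      have h1 := MonoidHom.mem_ker.1 x.2
      have h2 : ((x : Fˣ) : F) ^ Nat.gcd n (q + 1) = 1 := by
        have := congrArg (fun y : Fˣ => (y : F)) h1
        simpa using this
      have h3 : Nat.gcd n (q + 1) ∣ tn q n := by
        rw [← gcd_tn U.hodd]
        exact Nat.gcd_dvd_left _ _
      obtain ⟨t, ht⟩ := h3
      rw [← map_pow, ht, pow_mul, h2, one_pow, map_one])⟩
  map_one' := by
    apply Subtype.ext
    show Units.map _ 1 = 1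
    rw [map_one]
  map_mul' x y := by
    apply Subtype.ext
    show Units.map _ ((x : Fˣ) * (y : Fˣ)) = _
    rw [map_mul]
    rfl

theorem UT.zeta_val (x : (powMonoidHom (Nat.gcd n (q + 1)) : Fˣ →* Fˣ).ker) :
    ((U.zeta O x : GL (Fin n) F) : Matrix (Fin n) (Fin n) F) = φ (algebraMap F E ((x : Fˣ) : F)) := rfl

theorem UT.zeta_injective : Function.Injective (U.zeta O) := by
  intro x y h
  have h1 : φ (algebraMap F E ((x : Fˣ) : F)) = φ (algebraMap F E ((y : Fˣ) : F)) := by
    rw [← U.zeta_val O, ← U.zeta_val O, h]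
  exact Subtype.ext (Units.ext ((algebraMap F E).injective (φ.toRingHom.injective h1)))

theorem UT.range_zeta : (U.zeta O).range = Zs L := by
  ext g
  constructor
  · rintro ⟨x, rfl⟩
    exact (mem_Zs_iff_of_eq (U.zeta_val O x)).2 ⟨_, rfl⟩
  · intro hg
    obtain ⟨c, hc⟩ := mem_Zs.1 hg
    rw [smul_one_eq φ] at hc
    have h1 := (U.mem_L_iff O hc).1 g.2
    have hc1 : ((c : Fˣ) : F) ^ tn q n = 1 := by
      apply (algebraMap F E).injective
      rw [map_pow, h1, map_one]
    have hc2 : ((c : Fˣ) : F) ^ (q + 1) = 1 := by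
      have h2 : algebraMap F E (c : F) ^ (q ^ n + 1) = 1 := by
        rw [← tn_mul U.hodd, pow_mul, h1, one_pow]
      rw [pow_succ, U.alg_pow, ← map_mul, ← pow_succ] at h2
      apply (algebraMap F E).injective
      rw [h2, map_one]
    have hc3 : ((c : Fˣ) : F) ^ Nat.gcd n (q + 1) = 1 := by
      rw [← gcd_tn U.hodd]
      exact pow_gcd_eq_one.2 ⟨hc1, hc2⟩
    refine ⟨⟨c, ?_⟩, ?_⟩
    · rw [MonoidHom.mem_ker]
      apply Units.ext
      show ((c ^ Nat.gcd n (q + 1) : Fˣ) : F) = 1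
      rw [Units.val_pow_eq_pow_val, hc3]
    · apply Subtype.ext
      apply Units.ext
      rw [U.zeta_val O, hc]

include O in
theorem UT.card_Zs : Nat.card (Zs L) = Nat.gcd n (q + 1) := by
  rw [← U.range_zeta O, ← Nat.card_congr (MonoidHom.ofInjective (U.zeta_injective O)).toEquiv,
    IsCyclic.card_powMonoidHom_ker, Nat.card_units, Nat.card_eq_fintype_card, U.hF]
  apply Nat.gcd_eq_right
  have h1 := pow_sub_one_eq (q := q) (n := 1) (by have := U.q2; omega)
  rw [pow_one] at h1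
  rw [h1]
  exact (Nat.gcd_dvd_right _ _).trans (Dvd.intro_left _ rfl)

include O in
theorem UT.card_Dq_mul : Nat.card (Dq φ L) * Nat.gcd n (q + 1) = tn q n := by
  have h1 : (Zs L).relIndex (Cs φ L) = Nat.card (Dq φ L) := by
    have := Subgroup.relIndex_ker (QuotientGroup.mk' (Zs L)) (K := Cs φ L)
    rwa [QuotientGroup.ker_mk'] at this
  have h2 : Nat.card (Zs L) * (Zs L).relIndex (Cs φ L) = Nat.card (Cs φ L) := by
    have h3 := Subgroup.card_mul_index ((Zs L).subgroupOf (Cs φ L))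
    rwa [Nat.card_congr (Subgroup.subgroupOfEquivOfLe (Zs_le_Cs φ L)).toEquiv] at h3
  rw [← U.card_Cs O, ← h2, h1, U.card_Zs O, mul_comm]

include O in
/-- **The order of the torus.** -/
theorem UT.card_Dq : Nat.card (Dq φ L) * ((q + 1) * Nat.gcd n (q + 1)) = q ^ n + 1 := by
  rw [← tn_mul U.hodd, ← U.card_Dq_mul O]
  ring

end Cfsg.Agent.H930.Prm
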