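import Cfsg.Agent.H930.PrmD
import Cfsg.Agent.H930.ExtUA
import Cfsg.Agent.H879.Basic
import Cfsg.Agent.LieClassical.GUOrder

/-!
# The unitary torus of prime degree: Galois elements
-/

set_option autoImplicit false
set_option linter.unusedSectionVars false

namespace Cfsg.Agent.H930.Prm

open Module Cfsg Cfsg.Geo
open scoped MatrixGroups Matrix
open Cfsg.Agent.LieClassical.HermBasic
open Cfsg.Agent.H918 (SUg mem_SUg mem_GU mem_specialLinear)
open Cfsg.Agent.H926.Cc
open Cfsg.Agent.H930.ExtU (Data)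
open Cfsg.Agent.H879 (toEq toEq_apply)

variable {F : Type*} [Field F] [Fintype F] {E : Type*} [Field E] [Fintype E] [Algebra F E] {n q : ℕ}

/-- The functional `a ↦ f(φ(a) v, v)`. -/
noncomputable def ell (q : ℕ) (φ : E →ₐ[F] Matrix (Fin n) (Fin n) F) (v : Fin n → F) : E →ₗ[F] F where
  toFun a := hermForm n F q (φ a *ᵥ v) v
  map_add' a b := by rw [map_add, Matrix.add_mulVec, herm_add_left]
  map_smul' c a := by rw [map_smul, Matrix.smul_mulVec, herm_smul_left, RingHom.id_apply, smul_eq_mul]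

variable {φ : E →ₐ[F] Matrix (Fin n) (Fin n) F} (U : UT q φ)
include U

theorem UT.pow_pow (a : E) : (a ^ q ^ n) ^ q ^ n = a := pow_q_pow_q U.cardE a

theorem UT.adj' (a : E) (u v : Fin n → F) :
    hermForm n F q u (φ a *ᵥ v) = hermForm n F q (φ (a ^ (q ^ n)) *ᵥ u) v := by
  rw [U.adj, U.pow_pow]

theorem UT.herm_eq (v : Fin n → F) (a b : E) :
    hermForm n F q (φ a *ᵥ v) (φ b *ᵥ v) = ell q φ v (a * b ^ q ^ n) := by
  rw [U.adj', Matrix.mulVec_mulVec, ← map_mul, mul_comm]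
  rfl

theorem UT.data {v : Fin n → F} (hv : v ≠ 0) : Data q (q ^ n) (ell q φ v) where
  hF := U.hF
  hK := U.cardE
  alg := U.alg_pow
  lne := by
    intro h0
    have := U.fd
    apply hv
    apply herm_nondeg U.hF
    intro w
    apply herm_eq_zero_swap U.hF
    obtain ⟨a, rfl⟩ := (coordEquiv φ (by rw [U.fr, Fintype.card_fin]) v hv).surjective w
    exact LinearMap.congr_fun h0 a
  lpow a := by
    show hermForm n F q (φ (a ^ q ^ n) *ᵥ v) v = (hermForm n F q (φ a *ᵥ v) v) ^ q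
    rw [U.adj, U.pow_pow, herm_swap U.hF]

/-- The norm is surjective on the elements of norm one. -/
theorem UT.exists_norm {d : F} (hd : d ^ (q + 1) = 1) : ∃ u : E, u ^ (q ^ n + 1) = 1 ∧ Algebra.norm F u = d := by
  have hd0 : d ≠ 0 := by
    rintro rfl
    rw [zero_pow (by omega)] at hd
    exact zero_ne_one hd
  -- the map `x ↦ x ^ (gs * tn)` on the kernel of `x ↦ x ^ (Q + 1)`
  let A : Subgroup Eˣ := (powMonoidHom (q ^ n + 1) : Eˣ →* Eˣ).ker
  let N : Eˣ →* Fˣ := Units.map (Algebra.norm F : E →* F)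
  have hcardE : Nat.card Eˣ = (q ^ n - 1) * (q ^ n + 1) := by
    rw [Nat.card_units, Nat.card_eq_fintype_card, U.cardE, pow_sub_one_eq (by have := U.q2; omega)]
  have hcardF : Nat.card Fˣ = (q - 1) * (q + 1) := by
    rw [Nat.card_units, Nat.card_eq_fintype_card, U.hF]
    have := pow_sub_one_eq (q := q) (n := 1) (by have := U.q2; omega)
    rwa [pow_one] at this
  have hA : Nat.card A = q ^ n + 1 := by
    rw [IsCyclic.card_powMonoidHom_ker, hcardE]
    exact Nat.gcd_eq_right (Dvd.intro_left _ rfl)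
  let B : Subgroup Fˣ := (powMonoidHom (q + 1) : Fˣ →* Fˣ).ker
  have hB : Nat.card B = q + 1 := by
    rw [IsCyclic.card_powMonoidHom_ker, hcardF]
    exact Nat.gcd_eq_right (Dvd.intro_left _ rfl)
  have hNval : ∀ x : Eˣ, algebraMap F E ((N x : Fˣ) : F) = (x : E) ^ (gs q n * tn q n) := fun x => U.norm (x : E)
  have hAB : A.map N ≤ B := by
    rintro _ ⟨x, hx, rfl⟩
    have h1 : x ^ (q ^ n + 1) = 1 := MonoidHom.mem_ker.1 hx
    show N x ∈ (powMonoidHom (q + 1) : Fˣ →* Fˣ).ker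
    rw [MonoidHom.mem_ker]
    apply Units.ext
    apply (algebraMap F E).injective
    show algebraMap F E (((N x) ^ (q + 1) : Fˣ) : F) = _
    rw [Units.val_pow_eq_pow_val, map_pow, hNval, ← pow_mul]
    have h2 : gs q n * tn q n * (q + 1) = (q ^ n + 1) * gs q n := by
      rw [mul_assoc, tn_mul U.hodd, mul_comm]
    rw [h2, pow_mul, ← Units.val_pow_eq_pow_val, h1]
    simp
  have hker : Nat.card (N.subgroupMap A).ker = tn q n := by
    have h1 : ((N.subgroupMap A).ker).map A.subtype = (powMonoidHom (tn q n) : Eˣ →* Eˣ).ker := by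
      ext x
      constructor
      · rintro ⟨y, hy, rfl⟩
        have h2 : N (y : Eˣ) = 1 := congrArg Subtype.val (MonoidHom.mem_ker.1 hy)
        have h3 := hNval y
        rw [h2] at h3
        have h4 : (y : Eˣ) ^ (gs q n * tn q n) = 1 := by
          apply Units.ext
          rw [Units.val_pow_eq_pow_val, ← h3]
          simp
        have h5 : (y : Eˣ) ^ (q ^ n + 1) = 1 := MonoidHom.mem_ker.1 y.2
        rw [MonoidHom.mem_ker]
        show (y : Eˣ) ^ tn q n = 1
        rw [← gcd_exp U.hodd]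
        exact pow_gcd_eq_one.2 ⟨h5, h4⟩
      · intro hx
        have hx1 : x ^ tn q n = 1 := MonoidHom.mem_ker.1 hx
        have hxA : x ∈ A := by
          show x ∈ (powMonoidHom (q ^ n + 1) : Eˣ →* Eˣ).ker
          rw [MonoidHom.mem_ker]
          show x ^ (q ^ n + 1) = 1
          rw [← tn_mul U.hodd, pow_mul, hx1, one_pow]
        refine ⟨⟨x, hxA⟩, ?_, rfl⟩
        show (⟨x, hxA⟩ : A) ∈ (N.subgroupMap A).ker
        rw [MonoidHom.mem_ker]
        apply Subtype.ext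
        show N x = 1
        apply Units.ext
        apply (algebraMap F E).injective
        rw [hNval, mul_comm, pow_mul, ← Units.val_pow_eq_pow_val, hx1]
        simp
    have h2 : Nat.card (((N.subgroupMap A).ker).map A.subtype) = Nat.card (N.subgroupMap A).ker :=
      Nat.card_congr ((Subgroup.equivMapOfInjective _ _ A.subtype_injective).symm.toEquiv)
    rw [← h2, h1, IsCyclic.card_powMonoidHom_ker, hcardE, ← tn_mul U.hodd]
    exact Nat.gcd_eq_right ⟨(q ^ n - 1) * (q + 1), by ring⟩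
  have htn : 0 < tn q n := by
    rw [← hker]; exact Nat.card_pos
  have hmap : Nat.card (A.map N) = q + 1 := by
    have h1 := Subgroup.card_mul_index (N.subgroupMap A).ker
    rw [Subgroup.index_ker, hker, MonoidHom.range_eq_top.2 (N.subgroupMap_surjective A), Subgroup.card_top, hA,
      ← tn_mul U.hodd] at h1
    exact Nat.eq_of_mul_eq_mul_left htn h1
  have heq : A.map N = B := by
    apply Subgroup.eq_of_le_of_card_ge hAB
    rw [hB, hmap]
  have hdB : Units.mk0 d hd0 ∈ B := by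
    show Units.mk0 d hd0 ∈ (powMonoidHom (q + 1) : Fˣ →* Fˣ).ker
    rw [MonoidHom.mem_ker]
    apply Units.ext
    show (((Units.mk0 d hd0) ^ (q + 1) : Fˣ) : F) = 1
    rw [Units.val_pow_eq_pow_val, Units.val_mk0, hd]
  rw [← heq] at hdB
  obtain ⟨x, hx, hxd⟩ := hdB
  refine ⟨x, ?_, ?_⟩
  · have h1 : x ^ (q ^ n + 1) = 1 := MonoidHom.mem_ker.1 hx
    rw [← Units.val_pow_eq_pow_val, h1, Units.val_one]
  · exact congrArg Units.val hxd

/-- **Galois elements.** -/
theorem UT.exists_galois (σ : E ≃ₐ[F] E) :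
    ∃ g ∈ SUg n F q, ∀ a, (g : Matrix (Fin n) (Fin n) F) * φ a = φ (σ a) * (g : Matrix (Fin n) (Fin n) F) := by
  have hfd := U.fd
  have hne := U.ne
  have hfr : finrank F E = Fintype.card (Fin n) := by rw [U.fr, Fintype.card_fin]
  obtain ⟨v, hv⟩ := exists_ne_zero_vec (ι := Fin n) hfr
  have D := U.data hv
  -- the functional `ℓ ∘ σ⁻¹`
  obtain ⟨κ, hκ⟩ := D.exists_rep ((ell q φ v) ∘ₗ (σ.symm : E ≃ₐ[F] E).toLinearMap)
  have hκ' : ∀ k, ell q φ v k = ell q φ v (κ * σ k) := by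
    intro k
    have := hκ (σ k)
    rw [← this]
    show _ = ell q φ v (σ.symm (σ k))
    rw [AlgEquiv.symm_apply_apply]
  have hκ0 : κ ≠ 0 := by
    rintro rfl
    apply D.lne
    ext k
    rw [hκ', zero_mul, map_zero, LinearMap.zero_apply]
  have hκQ : κ ^ q ^ n = κ := by
    apply D.ext
    intro k
    obtain ⟨l, rfl⟩ := σ.surjective k
    have h1 : σ l * κ ^ q ^ n = ((κ * σ (l ^ q ^ n))) ^ q ^ n := by
      rw [mul_pow, ← map_pow, U.pow_pow, mul_comm]
    rw [h1, D.lpow, ← hκ', ← D.lpow, U.pow_pow, mul_comm, ← hκ']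
  obtain ⟨b, hb0, hb⟩ := exists_norm_eq_ne U.cardE hκQ hκ0
  -- the map
  set e := coordEquiv φ hfr v hv with he
  have hmul : Function.Bijective (Algebra.lmul F E b : E →ₗ[F] E) := by
    constructor
    · intro x y hxy
      exact mul_left_cancel₀ hb0 hxy
    · intro x
      exact ⟨b⁻¹ * x, by
        show b * (b⁻¹ * x) = x
        rw [← mul_assoc, mul_inv_cancel₀ hb0, one_mul]⟩
  let T : (Fin n → F) ≃ₗ[F] (Fin n → F) :=
    ((e.symm.trans σ.toLinearEquiv).trans (LinearEquiv.ofBijective _ hmul)).trans e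
  have hT : ∀ a, T (φ a *ᵥ v) = φ (b * σ a) *ᵥ v := by
    intro a
    show e (b * σ (e.symm (e a))) = _
    rw [LinearEquiv.symm_apply_apply]
    rfl
  obtain ⟨g₀, hg₀⟩ := (toEq (ι := Fin n) (F := F)).surjective T
  have hg₀x : ∀ x, (g₀ : Matrix (Fin n) (Fin n) F) *ᵥ x = T x := by
    intro x
    rw [← toEq_apply, hg₀]
  have hsurj : ∀ w, ∃ a, w = φ a *ᵥ v := by
    intro w
    obtain ⟨a, ha⟩ := e.surjective w
    exact ⟨a, ha.symm⟩
  have hiso : ∀ x y, hermForm n F q ((g₀ : Matrix (Fin n) (Fin n) F) *ᵥ x)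
      ((g₀ : Matrix (Fin n) (Fin n) F) *ᵥ y) = hermForm n F q x y := by
    intro x y
    obtain ⟨a, rfl⟩ := hsurj x
    obtain ⟨c, rfl⟩ := hsurj y
    rw [hg₀x, hg₀x, hT, hT, U.herm_eq, U.herm_eq, hκ' (a * c ^ q ^ n)]
    congr 1
    rw [mul_pow, ← hb, map_mul, map_pow]
    ring
  have hdet := Cfsg.Agent.LieClassical.GUOrder.det_mul_frob_det U.hF _ hiso
  have hdet0 : (g₀ : Matrix (Fin n) (Fin n) F).det ≠ 0 := by
    intro h
    rw [h, zero_pow (by omega)] at hdet
    exact zero_ne_one hdet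
  obtain ⟨u, hu1, hu2⟩ := U.exists_norm (d := (g₀ : Matrix (Fin n) (Fin n) F).det⁻¹) (by
    rw [inv_pow, hdet, inv_one])
  have hu0 : u ≠ 0 := by
    rintro rfl
    rw [zero_pow (by omega)] at hu1
    exact zero_ne_one hu1
  let h : GL (Fin n) F := ⟨φ u, φ u⁻¹, by rw [← map_mul, mul_inv_cancel₀ hu0, map_one],
    by rw [← map_mul, inv_mul_cancel₀ hu0, map_one]⟩
  have hh : (h : Matrix (Fin n) (Fin n) F) = φ u := rfl
  refine ⟨h * g₀, ?_, fun a => ?_⟩
  · rw [mem_SUg]
    refine ⟨fun x y => ?_, ?_⟩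
    · rw [Units.val_mul, ← Matrix.mulVec_mulVec, ← Matrix.mulVec_mulVec, hh, U.adj, Matrix.mulVec_mulVec,
        ← map_mul, ← pow_succ, hu1, map_one, Matrix.one_mulVec, hiso]
    · rw [Units.val_mul, Matrix.det_mul, hh, det_phi φ hfr, hu2, inv_mul_cancel₀ hdet0]
  · apply Matrix.mulVec_injective
    funext w
    obtain ⟨c, rfl⟩ := hsurj w
    have h1 : (((h * g₀ : GL (Fin n) F) : Matrix (Fin n) (Fin n) F) * φ a) *ᵥ (φ c *ᵥ v) =
        φ u *ᵥ ((g₀ : Matrix (Fin n) (Fin n) F) *ᵥ (φ (a * c) *ᵥ v)) := by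
      rw [Units.val_mul, hh, map_mul]
      simp only [Matrix.mulVec_mulVec, mul_assoc]
    have h2 : (φ (σ a) * ((h * g₀ : GL (Fin n) F) : Matrix (Fin n) (Fin n) F)) *ᵥ (φ c *ᵥ v) =
        φ (σ a) *ᵥ (φ u *ᵥ ((g₀ : Matrix (Fin n) (Fin n) F) *ᵥ (φ c *ᵥ v))) := by
      rw [Units.val_mul, hh]
      simp only [Matrix.mulVec_mulVec, mul_assoc]
    rw [h1, h2, hg₀x, hg₀x, hT, hT, Matrix.mulVec_mulVec, Matrix.mulVec_mulVec, Matrix.mulVec_mulVec,
      ← map_mul, ← map_mul, ← map_mul, map_mul σ]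
    congr 2
    ring

end Cfsg.Agent.H930.Prm
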