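import Cfsg.Agent.H930.PrmE
import Cfsg.Agent.H930.ExtUK

/-!
# Overgroups of the normaliser of an adjoint-closed field of degree `n` in `SU_n(q)`, `n ≥ 5` prime

Such an overgroup normalises the field or is nonabelian simple modulo scalars.
-/

set_option autoImplicit false
set_option linter.unusedSectionVars false

namespace Cfsg.Agent.H930.Prm

open Module Cfsg Cfsg.Geo
open scoped MatrixGroups Matrix
open Cfsg.Agent.LieClassical.HermBasic
open Cfsg.Agent.H918 (SUg mem_SUg mem_GU mem_specialLinear)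
open Cfsg.Agent.H926.Cc
open Cfsg.Agent.H930.ExtU (Data exists_data)
open Cfsg.Agent.H924 (adjM)
open Cfsg.Agent.H913.SU6Cubic (stK)

section Aux

variable {F : Type*} [Field F] [Fintype F] {E : Type*} [Field E] [Fintype E] [Algebra F E] {n q : ℕ}

variable {φ : E →ₐ[F] Matrix (Fin n) (Fin n) F} (U : UT q φ) {L : Subgroup (GL (Fin n) F)} (O : Over q φ L)
include U O

/-- Galois elements in `L`. -/
theorem UT.galois (σ : E ≃ₐ[F] E) :
    ∃ g ∈ L, ∀ a, (g : Matrix (Fin n) (Fin n) F) * φ a = φ (σ a) * (g : Matrix (Fin n) (Fin n) F) := by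
  obtain ⟨g, hg, h⟩ := U.exists_galois σ
  refine ⟨g, O.le ⟨?_, hg⟩, h⟩
  apply mem_normalizer_of_conjHom
  intro e
  refine ⟨σ e, ?_⟩
  show φ (σ e) = (g : Matrix (Fin n) (Fin n) F) * φ e * ((g⁻¹ : GL (Fin n) F) : Matrix (Fin n) (Fin n) F)
  rw [h e, mul_assoc, ← Units.val_mul, mul_inv_cancel, Units.val_one, mul_one]

/-- **Overgroups of the normaliser of the Coxeter torus** (field form). -/
theorem UT.alternative [Nonempty (Fin n)] (h5 : 5 ≤ n) :
    L ≤ subalgebraNormalizer φ.range ∨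
      (IsSimpleGroup (Tq L) ∧ (∃ x y : Tq L, x * y ≠ y * x) ∧ CC (Dq φ L) ∧ IsCyclic (Dq φ L) ∧
        Nat.card (Dq φ L) * ((q + 1) * Nat.gcd n (q + 1)) = q ^ n + 1 ∧
        (Dq φ L).relIndex (Subgroup.normalizer (Dq φ L : Set (Tq L))) = n ∧
        Nat.card L = Nat.card (Tq L) * Nat.gcd n (q + 1)) := by
  have hfd := U.fd
  have hfr : finrank F E = Fintype.card (Fin n) := by rw [U.fr, Fintype.card_fin]
  have hp : (finrank F E).Prime := by rw [U.fr]; exact U.hn
  have hroot := U.root O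
  have hne := U.exists_ne O (by omega)
  have hcc := cc_Dq hp hfr hroot hne
  have hrel := relIndex_eq hp hfr hne (U.galois O)
  rw [Fintype.card_fin] at hrel
  rcases hcc.trichotomy with h | ⟨R, hR, hR0, hRD, hab, -⟩ | ⟨S, hS, hsim, hna, -, hSD⟩
  · left
    have h1 : (Subgroup.normalizer (Dq φ L : Set (Tq L))) = ⊤ := Subgroup.normalizer_eq_top_iff.2 h
    have h2 := comap_normalizer hp hne
    rw [h1, Subgroup.comap_top] at h2
    exact Subgroup.subgroupOf_eq_top.1 h2.symm
  · exact absurd (excl hp hfr hroot hne (fun s hs hsd => U.lt_of_prime O hs hsd) (U.bot_or O h5) hR hRD hab) hR0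
  · right
    have hST : S = ⊤ := hcc.eq_top hS hsim hna hSD (by rw [hrel]; exact U.hn)
    subst hST
    refine ⟨?_, ?_, hcc, U.cyclic_Dq O, U.card_Dq O, hrel, ?_⟩
    · exact (Subgroup.topEquiv (G := Tq L)).symm.isSimpleGroup
    · obtain ⟨x, -, y, -, hxy⟩ := hna
      exact ⟨x, y, hxy⟩
    · rw [← U.card_Zs O]
      exact (Subgroup.card_eq_card_quotient_mul_card_subgroup (Zs L))

end Aux

universe u

variable {F : Type u} [Field F] [Fintype F]

/-- An adjoint-closed field of odd prime degree `n` in `M_n(F)`. -/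
theorem exists_UT {n q : ℕ} (hF : Fintype.card F = q ^ 2) (hn : n.Prime) (hodd : Odd n)
    {K : Subalgebra F (Matrix (Fin n) (Fin n) F)} (hK : IsFieldSubalgebra n K)
    (hadj : IsAdjointClosedFor (hermForm n F q) K) :
    ∃ (E : Type u) (_ : Field E) (_ : Fintype E) (_ : Algebra F E) (φ : E →ₐ[F] Matrix (Fin n) (Fin n) F),
      UT q φ ∧ φ.range = K := by
  classical
  have hne : NeZero n := ⟨hn.ne_zero⟩
  let _ : Field K := (H912.isField_of_fieldSub hK).toField
  let _ : Fintype K := Fintype.ofFinite K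
  have hH := H921.herm_hermForm (n := n) hF
  set f := hermForm n F q with hf
  set st := stK hF hK.comm hadj with hst
  have hfinK : finrank F K = n := hK.finrank_eq
  have hst_st : ∀ k, st (st k) = k := fun k => st.left_inv k
  have hst_alg : ∀ c : F, st (algebraMap F K c) = algebraMap F K (c ^ q) := by
    intro c
    apply Subtype.ext
    change adjM (conj hF) f (algebraMap F (Matrix (Fin n) (Fin n) F) c) =
      algebraMap F (Matrix (Fin n) (Fin n) F) (c ^ q)
    rw [Algebra.algebraMap_eq_smul_one, H924.adjM_smul hH, H924.adjM_one hH,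
      Algebra.algebraMap_eq_smul_one]
    rfl
  obtain ⟨ℓ, D⟩ := exists_data (K := K) hF (by rw [hfinK]; exact hodd)
  rw [hfinK] at D
  have hstk : ∀ k, st k = k ^ (q ^ n) := fun k =>
    D.eq_pow (by rw [hfinK]; exact hodd) (st : K →+* K) hst_st hst_alg k
  refine ⟨K, inferInstance, inferInstance, inferInstance, K.val, ⟨hF, hn, hodd, hfinK, fun k u v => ?_⟩, K.range_val⟩
  rw [← hstk]
  exact H924.isAdj_adjM hH (k : Matrix (Fin n) (Fin n) F) u v

/-- **Overgroups of the normaliser of an adjoint-closed field of degree `n` in `SU_n(q)`, `n ≥ 5` prime.** -/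
theorem su_alternative {n q : ℕ} (hF : Fintype.card F = q ^ 2) (hn : n.Prime) (h5 : 5 ≤ n)
    {K : Subalgebra F (Matrix (Fin n) (Fin n) F)} (hK : IsFieldSubalgebra n K)
    (hadj : IsAdjointClosedFor (hermForm n F q) K) {L : Subgroup (GL (Fin n) F)}
    (hN : subalgebraNormalizer K ⊓ SUg n F q ≤ L) (hL : L ≤ SUg n F q) :
    L ≤ subalgebraNormalizer K ∨
      (IsSimpleGroup (Tq L) ∧ (∃ x y : Tq L, x * y ≠ y * x) ∧
        Nat.card L = Nat.card (Tq L) * Nat.gcd n (q + 1) ∧
        ∃ D : Subgroup (Tq L), CC D ∧ IsCyclic D ∧ Nat.card D * ((q + 1) * Nat.gcd n (q + 1)) = q ^ n + 1 ∧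
          D.relIndex (Subgroup.normalizer (D : Set (Tq L))) = n) := by
  have hodd : Odd n := hn.odd_of_ne_two (by omega)
  obtain ⟨E, _, _, _, φ, U, rfl⟩ := exists_UT hF hn hodd hK hadj
  have hne := U.ne
  have O : Over q φ L := ⟨hN, hL⟩
  rcases U.alternative O h5 with h | ⟨h1, h2, h3, h4, h5, h6, h7⟩
  · exact Or.inl h
  · exact Or.inr ⟨h1, h2, h7, Dq φ L, h3, h4, h5, h6⟩

end Cfsg.Agent.H930.Prm
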