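import Cfsg.Agent.H930.SixHom
import Cfsg.Agent.H930.SixIco
import Cfsg.Agent.ClassicalGeometry.QuatPair

/-!
# `6.A₆` in dimension twelve is induced from the point stabiliser (helper930)

* `mK f m` : base change; `Cov.span_vec` : the translates of a non-zero vector span;
* `Fr6` : a non-zero `T : K² → K^ι` stable under the point stabiliser; `Fr6.basis`, `Fr6.trace_eq`;
* `Cov.exists_W` : `|ker φ| = 6`, `n = 12`, `p ≥ 7` : over `F` itself there are `ρ : SL₂(5) → GL₂(F)` and a non-zero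
  `T` with `m(θ x) T = T ρ(x)`, and `t = tr U` satisfies `t² + t = 1`, `tr U² = t² - 2`.
-/

set_option autoImplicit false
set_option linter.unusedSectionVars false

namespace Cfsg.Agent.H930.Six

open Cfsg Cfsg.Geo Matrix Equiv Cfsg.Agent.H915.LD
open scoped commutatorElement

universe u v w

variable {ι : Type} [Fintype ι] [DecidableEq ι] {F : Type u} [Field F] {G : Type v} [Group G]
  {m : G →* GL ι F} {φ : G →* Perm (Fin 6)} {K : Type w} [Field K]

/-- base change -/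
def mK (f : F →+* K) (m : G →* GL ι F) : G →* Matrix ι ι K :=
  ((f.mapMatrix : Matrix ι ι F →+* Matrix ι ι K).toMonoidHom).comp ((Units.coeHom _).comp m)

theorem mK_apply (f : F →+* K) (m : G →* GL ι F) (g : G) : mK f m g = (m g : Matrix ι ι F).map f := rfl

theorem mK_trace (f : F →+* K) (m : G →* GL ι F) (g : G) : (mK f m g).trace = f (tr (m g)) := by
  rw [mK_apply]
  unfold tr Matrix.trace
  rw [map_sum]
  rfl

/-- the translates of a non-zero vector span -/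
theorem Cov.span_vec (h : Cov m φ) (f : F →+* K) {v : ι → K} (hv : v ≠ 0) :
    Submodule.span K (Set.range fun g : G => mK f m g *ᵥ v) = ⊤ := by
  obtain ⟨W, hW⟩ : ∃ W, W = Submodule.span K (Set.range fun g : G => mK f m g *ᵥ v) := ⟨_, rfl⟩
  rw [← hW]
  let D : Submodule F (Matrix ι ι F) :=
    { carrier := {A | A.map f *ᵥ v ∈ W}
      add_mem' := by
        intro a b ha hb
        change (a + b).map f *ᵥ v ∈ W
        rw [Matrix.map_add f (map_add f), Matrix.add_mulVec]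
        exact W.add_mem ha hb
      zero_mem' := by
        change (0 : Matrix ι ι F).map f *ᵥ v ∈ W
        rw [Matrix.map_zero f (map_zero f), Matrix.zero_mulVec]
        exact W.zero_mem
      smul_mem' := by
        intro c a ha
        change (c • a).map f *ᵥ v ∈ W
        have e : (c • a).map f = f c • a.map f := by
          ext i j
          simp [Matrix.map_apply, Matrix.smul_apply]
        rw [e, Matrix.smul_mulVec]
        exact W.smul_mem _ ha }
  have hD : D = ⊤ := by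
    rw [eq_top_iff, ← H920.span_eq_top h.irr, Submodule.span_le]
    rintro _ ⟨_, ⟨g, rfl⟩, rfl⟩
    change (m g : Matrix ι ι F).map f *ᵥ v ∈ W
    rw [hW]
    exact Submodule.subset_span ⟨g, rfl⟩
  obtain ⟨b, hb⟩ : ∃ b, v b ≠ 0 := by
    by_contra hcon
    push Not at hcon
    exact hv (funext hcon)
  have hs : ∀ a : ι, Pi.single a (1 : K) ∈ W := by
    intro a
    have h1 : (Matrix.single a b (1 : F)) ∈ D := by rw [hD]; trivial
    have h2 : (Matrix.single a b (1 : F)).map f *ᵥ v ∈ W := h1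
    have e : (Matrix.single a b (1 : F)).map f *ᵥ v = v b • Pi.single a (1 : K) := by
      ext i
      rw [Matrix.mulVec, dotProduct, Finset.sum_eq_single b]
      · rw [Matrix.map_apply, Matrix.single_apply, Pi.smul_apply, Pi.single_apply, smul_eq_mul]
        by_cases hi : a = i
        · subst hi
          simp
        · rw [if_neg (fun h => hi h.1), if_neg (Ne.symm hi), map_zero, zero_mul, mul_zero]
      · intro j _ hj
        rw [Matrix.map_apply, Matrix.single_apply, if_neg (fun h => hj h.2.symm), map_zero, zero_mul]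
      · intro hb'; exact absurd (Finset.mem_univ _) hb'
    rw [e] at h2
    have h3 := W.smul_mem (v b)⁻¹ h2
    rwa [smul_smul, inv_mul_cancel₀ hb, one_smul] at h3
  rw [eq_top_iff]
  intro w _
  have e : w = ∑ a, w a • Pi.single a (1 : K) := by
    ext i
    rw [Finset.sum_apply, Finset.sum_eq_single i]
    · rw [Pi.smul_apply, Pi.single_eq_same, smul_eq_mul, mul_one]
    · intro j _ hj
      rw [Pi.smul_apply, Pi.single_eq_of_ne (Ne.symm hj), smul_zero]
    · intro hi; exact absurd (Finset.mem_univ _) hi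
  rw [e]
  exact W.sum_mem fun a _ => W.smul_mem _ (hs a)

/-- a plane stable under the point stabiliser -/
structure Fr6 (f : F →+* K) (m : G →* GL ι F) (φ : G →* Perm (Fin 6)) (T : Matrix ι (Fin 2) K) (gs : Fin 6 → G) :
    Prop where
  ne : T ≠ 0
  stab : ∀ l, φ l 5 = 5 → ∃ R : Matrix (Fin 2) (Fin 2) K, mK f m l * T = T * R
  pt : ∀ i, φ (gs i) 5 = i
  one : gs 5 = 1
  card : Fintype.card ι = 12

variable {f : F →+* K} {T : Matrix ι (Fin 2) K} {gs : Fin 6 → G}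

/-- the vectors of the basis -/
def bv (f : F →+* K) (m : G →* GL ι F) (T : Matrix ι (Fin 2) K) (gs : Fin 6 → G) : Fin 6 × Fin 2 → (ι → K) :=
  fun x => mK f m (gs x.1) *ᵥ (fun y => T y x.2)

theorem mul_col (A : Matrix ι ι K) (T : Matrix ι (Fin 2) K) (a : Fin 2) : (fun y => (A * T) y a) = A *ᵥ (fun y => T y a) := by
  ext y
  rw [Matrix.mul_apply, Matrix.mulVec, dotProduct]

theorem col_mul (T : Matrix ι (Fin 2) K) (R : Matrix (Fin 2) (Fin 2) K) (a : Fin 2) :
    (fun y => (T * R) y a) = ∑ c, R c a • (fun y => T y c) := by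
  ext y
  rw [Matrix.mul_apply, Finset.sum_apply]
  exact Finset.sum_congr rfl fun c _ => by rw [Pi.smul_apply, smul_eq_mul, mul_comm]

theorem Fr6.act_of (_hT : Fr6 f m φ T gs) {g l : G} {i j : Fin 6} (hl : g * gs i = gs j * l)
    {R : Matrix (Fin 2) (Fin 2) K} (hR : mK f m l * T = T * R) (a : Fin 2) :
    mK f m g *ᵥ bv f m T gs (i, a) = ∑ c, R c a • bv f m T gs (j, c) := by
  simp only [bv]
  rw [Matrix.mulVec_mulVec, ← map_mul, hl, map_mul, ← Matrix.mulVec_mulVec, ← mul_col, hR, col_mul, Matrix.mulVec_sum]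
  exact Finset.sum_congr rfl fun c _ => by rw [Matrix.mulVec_smul]

theorem Fr6.act (hT : Fr6 f m φ T gs) (g : G) (i : Fin 6) :
    ∃ R : Matrix (Fin 2) (Fin 2) K, ∀ a, mK f m g *ᵥ bv f m T gs (i, a) = ∑ c, R c a • bv f m T gs (φ g i, c) := by
  have h1 : φ ((gs (φ g i))⁻¹ * (g * gs i)) 5 = 5 := by
    rw [map_mul, map_inv, map_mul, Perm.mul_apply, Perm.mul_apply, hT.pt, Perm.inv_eq_iff_eq, hT.pt]
  obtain ⟨R, hR⟩ := hT.stab _ h1
  exact ⟨R, fun a => hT.act_of (by group) hR a⟩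

theorem Fr6.span (hT : Fr6 f m φ T gs) (h : Cov m φ) : Submodule.span K (Set.range (bv f m T gs)) = ⊤ := by
  obtain ⟨a, ha⟩ : ∃ a, (fun y => T y a) ≠ 0 := by
    by_contra hcon
    push Not at hcon
    apply hT.ne
    ext y a
    exact congrFun (hcon a) y
  rw [eq_top_iff, ← h.span_vec f ha, Submodule.span_le]
  rintro _ ⟨g, rfl⟩
  obtain ⟨R, hR⟩ := hT.act g 5
  have h1 := hR a
  have h2 : bv f m T gs (5, a) = fun y => T y a := by
    simp only [bv]
    rw [hT.one, map_one, Matrix.one_mulVec]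
  rw [h2] at h1
  change mK f m g *ᵥ (fun y => T y a) ∈ _
  rw [h1]
  exact Submodule.sum_mem _ fun c _ => Submodule.smul_mem _ _ (Submodule.subset_span ⟨_, rfl⟩)

/-- the basis -/
noncomputable def Fr6.basis (hT : Fr6 f m φ T gs) (h : Cov m φ) : Module.Basis (Fin 6 × Fin 2) K (ι → K) :=
  basisOfTopLeSpanOfCardEqFinrank (bv f m T gs) (hT.span h).ge (by
    rw [Module.finrank_fintype_fun_eq_card, hT.card, Fintype.card_prod, Fintype.card_fin, Fintype.card_fin])

theorem Fr6.basis_apply (hT : Fr6 f m φ T gs) (h : Cov m φ) (x : Fin 6 × Fin 2) : hT.basis h x = bv f m T gs x := by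
  unfold Fr6.basis
  rw [coe_basisOfTopLeSpanOfCardEqFinrank]

/-- **The trace of an element fixing only the point `5`.** -/
theorem Fr6.trace_eq (hT : Fr6 f m φ T gs) (h : Cov m φ) {g : G} (_h5 : φ g 5 = 5) (hne : ∀ i, i ≠ 5 → φ g i ≠ i)
    {R : Matrix (Fin 2) (Fin 2) K} (hR : mK f m g * T = T * R) : (mK f m g).trace = R.trace := by
  have h1 : (mK f m g).trace = LinearMap.trace K (ι → K) (Matrix.toLin' (mK f m g)) := by
    rw [Matrix.trace_toLin'_eq]
  rw [h1, LinearMap.trace_eq_matrix_trace K (hT.basis h), Matrix.trace, Fintype.sum_prod_type,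
    Finset.sum_eq_single (5 : Fin 6)]
  · rw [Matrix.trace]
    refine Finset.sum_congr rfl fun a _ => ?_
    rw [Matrix.diag_apply, Matrix.diag_apply, LinearMap.toMatrix_apply, hT.basis_apply, Matrix.toLin'_apply,
      hT.act_of (l := g) (j := 5) (by rw [hT.one, mul_one, one_mul]) hR a]
    have e : ∑ c, R c a • bv f m T gs (5, c) = ∑ c, R c a • hT.basis h (5, c) :=
      Finset.sum_congr rfl fun c _ => by rw [hT.basis_apply]
    rw [e, map_sum, Finsupp.finsetSum_apply, Finset.sum_eq_single a]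
    · rw [map_smul, Finsupp.smul_apply, Module.Basis.repr_self, Finsupp.single_eq_same, smul_eq_mul, mul_one]
    · intro c _ hc
      rw [map_smul, Finsupp.smul_apply, Module.Basis.repr_self, Finsupp.single_eq_of_ne, smul_zero]
      intro h2
      exact hc (congrArg Prod.snd h2).symm
    · intro ha; exact absurd (Finset.mem_univ _) ha
  · intro i _ hi
    refine Finset.sum_eq_zero fun a _ => ?_
    rw [Matrix.diag_apply, LinearMap.toMatrix_apply, hT.basis_apply, Matrix.toLin'_apply]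
    obtain ⟨R', hR'⟩ := hT.act g i
    rw [hR' a]
    have e : ∑ c, R' c a • bv f m T gs (φ g i, c) = ∑ c, R' c a • hT.basis h (φ g i, c) :=
      Finset.sum_congr rfl fun c _ => by rw [hT.basis_apply]
    rw [e, map_sum, Finsupp.finsetSum_apply]
    refine Finset.sum_eq_zero fun c _ => ?_
    rw [map_smul, Finsupp.smul_apply, Module.Basis.repr_self, Finsupp.single_eq_of_ne, smul_zero]
    intro h2
    exact hne i hi (congrArg Prod.fst h2).symm
  · intro h5'; exact absurd (Finset.mem_univ _) h5'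

/-! ### the homomorphism `θ` -/

/-- the properties of `θ` -/
structure Th (θ : S5 →* G) (φ : G →* Perm (Fin 6)) : Prop where
  mem : ∀ x, φ (θ x) ∈ st5
  surj : ∀ s ∈ st5, ∃ x, φ (θ x) = s
  ker : ∀ x, φ (θ x) = 1 ↔ x = 1 ∨ x = -1

section decides

set_option maxRecDepth 100000

theorem moves : ∀ s : Perm (Fin 6), s 5 = 5 → s ^ 5 = 1 → s ≠ 1 → ∀ i, i ≠ 5 → s i ≠ i := by decide +kernel

theorem exists_pt : ∀ i : Fin 6, ∃ s : Perm (Fin 6), Perm.sign s = 1 ∧ s 5 = i := by decide +kernel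

theorem w5_facts : ∃ w : S5, w * w = -1 ∧ w ≠ 1 ∧ w ≠ -1 := by decide +kernel

theorem neg_facts : (-1 : S5) ^ 3 ≠ 1 ∧ (-1 : S5) ^ 5 ≠ 1 ∧ (-1 : S5) ^ 2 ≠ -1 ∧ (1 : S5) ^ 2 ≠ -1 := by decide +kernel

theorem five_class : ∀ x : S5, x ^ 5 = 1 → x ≠ 1 → isA x ∨ isB x := by decide +kernel

end decides

theorem Cov.exists_Th [Finite G] (h : Cov m φ) (hc6 : Nat.card φ.ker = 6) : ∃ θ : S5 →* G, Th θ φ := by
  obtain ⟨θ, h1, h2, h3⟩ := h.exists_theta (by rw [hc6]; norm_num)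
  exact ⟨θ, h1, h2, h3⟩

variable {θ : S5 →* G}

theorem Cov.theta_neg [Finite G] (h : Cov m φ) (hc6 : Nat.card φ.ker = 6) (hθ : Th θ φ) :
    (m (θ (-1)) : Matrix ι ι F) = -1 := by
  obtain ⟨z, hz, hz2, hz1, hzm, hzu⟩ := h.exists_neg (by rw [hc6]; norm_num)
  obtain ⟨-, -, -, -, -, hne, hsq⟩ := u5_facts
  have h1 : θ (-1) = z := by
    apply hzu
    · exact (hθ.ker _).2 (Or.inr rfl)
    · rw [← map_mul, hsq, map_one]
    · intro h2
      obtain ⟨w, hw, hw1, hw2⟩ := w5_facts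
      have h3 : θ w * θ w = 1 := by rw [← map_mul, hw, h2]
      rcases (hθ.ker w).1 (h.no_inv hc6 h3) with h4 | h4
      · exact hw1 h4
      · exact hw2 h4
  rw [h1, hzm]

theorem Cov.theta_four [Finite G] (h : Cov m φ) (hc6 : Nat.card φ.ker = 6) (hθ : Th θ φ) {x : S5} (hx : x ^ 2 = -1) :
    tr (m (θ x)) = 0 := by
  obtain ⟨-, -, n3, n4⟩ := neg_facts
  apply h.tr_two hc6
  · rw [← map_mul, ← map_mul, ← sq, hx]
    exact (hθ.ker _).2 (Or.inr rfl)
  · intro h1
    rcases (hθ.ker x).1 h1 with rfl | rfl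
    · exact n4 hx
    · exact n3 hx

theorem Cov.theta_three [Finite G] (h : Cov m φ) (hc6 : Nat.card φ.ker = 6) (hθ : Th θ φ) {x : S5} (hx : x ^ 3 = 1)
    (hx1 : x ≠ 1) : tr (m (θ x)) = 0 := by
  obtain ⟨n1, -, -, -⟩ := neg_facts
  apply h.tr_three (by rw [hc6]; norm_num)
  · rw [← map_pow, ← map_pow, hx, map_one, map_one]
  · intro h1
    rcases (hθ.ker x).1 h1 with h2 | rfl
    · exact hx1 h2
    · exact n1 hx

/-- a plane stable under `θ` gives a frame -/
theorem Cov.exists_fr6 (h : Cov m φ) (hn : Fintype.card ι = 12) (hθ : Th θ φ) (f : F →+* K) {ρ : S5 →* GL (Fin 2) K}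
    {T : Matrix ι (Fin 2) K} (hT0 : T ≠ 0) (hT : ∀ x, mK f m (θ x) * T = T * (ρ x).1) :
    ∃ gs : Fin 6 → G, Fr6 f m φ T gs := by
  classical
  have h1 : ∀ i : Fin 6, ∃ g : G, φ g 5 = i ∧ (i = 5 → g = 1) := by
    intro i
    by_cases hi : i = 5
    · exact ⟨1, by rw [map_one, hi]; rfl, fun _ => rfl⟩
    · obtain ⟨s, hs, hs5⟩ := exists_pt i
      obtain ⟨g, rfl⟩ := h.surj (Perm.mem_alternatingGroup.2 hs)
      exact ⟨g, hs5, fun h => absurd h hi⟩
  choose gs hgs hgs5 using h1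
  refine ⟨gs, hT0, ?_, hgs, hgs5 5 rfl, hn⟩
  intro l hl
  obtain ⟨x, hx⟩ := hθ.surj (φ l) ⟨Perm.mem_alternatingGroup.1 (h.sign l), hl⟩
  have hk : φ (l * (θ x)⁻¹) = 1 := by rw [map_mul, map_inv, hx, mul_inv_cancel]
  obtain ⟨c, hc⟩ := h.scal hk
  refine ⟨f c • (ρ x).1, ?_⟩
  have e : mK f m l = f c • mK f m (θ x) := by
    have e1 : l = l * (θ x)⁻¹ * θ x := by group
    conv_lhs => rw [e1, map_mul]
    have e2 : mK f m (l * (θ x)⁻¹) = f c • 1 := by
      rw [mK_apply, hc]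
      ext i j
      rw [Matrix.map_apply, Matrix.smul_apply, Matrix.smul_apply, smul_eq_mul, smul_eq_mul, map_mul, Matrix.one_apply,
        Matrix.one_apply]
      split_ifs <;> simp
    rw [e2, Matrix.smul_mul, one_mul]
  rw [e, Matrix.smul_mul, hT, Matrix.mul_smul]

theorem Cov.tr_of_inter (h : Cov m φ) (hn : Fintype.card ι = 12) (hθ : Th θ φ) (f : F →+* K)
    {ρ : S5 →* GL (Fin 2) K} {T : Matrix ι (Fin 2) K} (hT0 : T ≠ 0) (hT : ∀ x, mK f m (θ x) * T = T * (ρ x).1)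
    {x : S5} (hx5 : x ^ 5 = 1) (hx : x ≠ 1) : f (tr (m (θ x))) = (ρ x).1.trace := by
  obtain ⟨gs, hF⟩ := h.exists_fr6 hn hθ f hT0 hT
  rw [← mK_trace]
  apply hF.trace_eq h (hθ.mem x).2 _ (hT x)
  apply moves _ (hθ.mem x).2
  · rw [← map_pow, ← map_pow, hx5, map_one, map_one]
  · intro h1
    obtain ⟨-, n2, -, -⟩ := neg_facts
    rcases (hθ.ker x).1 h1 with h2 | rfl
    · exact hx h2
    · exact n2 hx5

/-- the sum for `θ` and `ρ` -/
theorem Cov.sum_theta [Finite G] (h : Cov m φ) (hc6 : Nat.card φ.ker = 6) (hn : Fintype.card ι = 12) (hθ : Th θ φ)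
    (f : F →+* K) (h2 : (2 : K) ≠ 0) {ρ : S5 →* GL (Fin 2) K} (hρ : Function.Injective ρ) :
    ∑ x : S5, (mK f m (θ x)).trace * (ρ x⁻¹).1.trace =
      24 * (2 + f (tr (m (θ u5))) * (ρ u5).1.trace + f (tr (m (θ (u5 ^ 2)))) * (ρ (u5 ^ 2)).1.trace) := by
  rw [← mK_trace, ← mK_trace]
  refine sum_class h2 hρ ((mK f m).comp θ) hn ?_ ?_ ?_
  · rw [MonoidHom.comp_apply, mK_apply, h.theta_neg hc6 hθ]
    ext i j
    rw [Matrix.map_apply, Matrix.neg_apply, Matrix.neg_apply, map_neg, Matrix.one_apply, Matrix.one_apply]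
    split_ifs <;> simp
  · intro x hx
    rw [MonoidHom.comp_apply, mK_trace, h.theta_four hc6 hθ hx, map_zero]
  · intro x hx hx1
    rw [MonoidHom.comp_apply, mK_trace, h.theta_three hc6 hθ hx hx1, map_zero]

/-- if all traces on elements of order five of `θ(SL₂(5))` are `2` ... -/
theorem Cov.five_of_theta (h : Cov m φ) (hθ : Th θ φ) (hA : tr (m (θ u5)) = 2)
    (hB : tr (m (θ (u5 ^ 2))) = 2) : ∀ g, φ g ^ 5 = 1 → φ g ≠ 1 → tr (m g) * tr (m g⁻¹) = 4 := by
  have hcl : ∀ x : S5, x ^ 5 = 1 → x ≠ 1 → tr (m (θ x)) = 2 := by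
    intro x hx hx1
    have hconj : ∀ {x' y : S5}, y * x = x' * y → tr (m (θ x)) = tr (m (θ x')) := by
      intro x' y hy
      have e : x' = y * x * y⁻¹ := by rw [hy]; group
      rw [e, map_mul, map_mul, map_inv, map_mul, map_mul, map_inv, tr_conj]
    rcases five_class x hx hx1 with h1 | h1
    · obtain ⟨y, hy⟩ := conjA x h1
      rw [hconj hy, hA]
    · obtain ⟨y, hy⟩ := conjB x h1
      rw [hconj hy, hB]
  -- the lift of `x5`
  obtain ⟨x, hx⟩ := hθ.surj x5 (by rw [mem_st5]; decide +kernel)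
  have hx5 : ∃ x : S5, φ (θ x) = x5 ∧ x ^ 5 = 1 := by
    have h1 : φ (θ (x ^ 5)) = 1 := by rw [map_pow, map_pow, hx]; decide +kernel
    rcases (hθ.ker _).1 h1 with h2 | h2
    · exact ⟨x, hx, h2⟩
    · refine ⟨-x, ?_, ?_⟩
      · rw [← neg_one_mul, map_mul, map_mul, (hθ.ker (-1)).2 (Or.inr rfl), one_mul, hx]
      · rw [Odd.neg_pow (by decide), h2, neg_neg]
  obtain ⟨x, hx, hx5⟩ := hx5
  have hx1 : x ≠ 1 := by
    rintro rfl
    rw [map_one, map_one] at hx
    revert hx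
    decide
  have hval : ∀ y : S5, y ^ 5 = 1 → y ≠ 1 → tr (m (θ y)) * tr (m (θ y)⁻¹) = 4 := by
    intro y hy hy1
    rw [← map_inv, hcl y hy hy1, hcl y⁻¹ (by rw [inv_pow, hy, inv_one]) (fun h1 => hy1 (inv_eq_one.1 h1))]
    norm_num
  intro g hg hg1
  obtain ⟨t, ht, hts⟩ := conj_five (φ g) (Perm.mem_alternatingGroup.1 (h.sign g)) hg hg1
  obtain ⟨t', rfl⟩ := h.surj (Perm.mem_alternatingGroup.2 ht)
  rcases hts with hts | hts
  · rw [h.prod_eq (g' := θ x) (t := t') (by rw [hts, hx]), hval x hx5 hx1]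
  · rw [h.prod_eq (g' := θ (x ^ 2)) (t := t') (by rw [hts, map_pow, map_pow, hx])]
    apply hval
    · rw [← pow_mul, mul_comm, pow_mul, hx5, one_pow]
    · intro h1
      apply hx1
      have : x ^ 5 = (x ^ 2) ^ 2 * x := by rw [← pow_mul, ← pow_succ]
      rw [h1, one_pow, one_mul] at this
      rw [← this, hx5]

/-- the traces of `θ(u5)` over an algebraically closed field -/
theorem Cov.tr_u5_aux [IsAlgClosed K] (f : F →+* K) [Finite G] (h : Cov m φ) (hc6 : Nat.card φ.ker = 6)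
    (hn : Fintype.card ι = 12) (p : ℕ) [hp : Fact p.Prime] [CharP F p] [hcK : CharP K p] (hp7 : 7 ≤ p) (hθ : Th θ φ) :
    tr (m (θ u5)) ^ 2 + tr (m (θ u5)) - 1 = 0 ∧ tr (m (θ (u5 ^ 2))) = tr (m (θ u5)) ^ 2 - 2 := by
  have hcast : ∀ n : ℕ, ¬ p ∣ n → (n : K) ≠ 0 := fun n hn h0 => hn ((CharP.cast_eq_zero_iff K p n).1 h0)
  have h2 : (2 : K) ≠ 0 := by exact_mod_cast hcast 2 (Nat.not_dvd_of_pos_of_lt (by norm_num) (by omega))
  have h3 : (3 : K) ≠ 0 := by exact_mod_cast hcast 3 (Nat.not_dvd_of_pos_of_lt (by norm_num) (by omega))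
  have h5 : (5 : K) ≠ 0 := by exact_mod_cast hcast 5 (Nat.not_dvd_of_pos_of_lt (by norm_num) (by omega))
  obtain ⟨r, hr⟩ := IsAlgClosed.exists_pow_nat_eq (5 : K) (n := 2) (by norm_num)
  obtain ⟨i, hi⟩ := IsAlgClosed.exists_pow_nat_eq (-1 : K) (n := 2) (by norm_num)
  obtain ⟨ρ, hρ⟩ := exists_ico h2 h3 h5 (g := (1 + r) / 2) (α := i) (β := 0) (by
    field_simp
    linear_combination hr) (by rw [← sq, hi]; ring)
  obtain ⟨hu1, hu2, -, hu4, -, -, -⟩ := u5_facts
  have hu25 : (u5 ^ 2) ^ 5 = 1 := by rw [← pow_mul, mul_comm, pow_mul, hu1, one_pow]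
  -- the conclusion from an intertwining matrix
  have key : ∀ ρ' : S5 →* GL (Fin 2) K, Function.Injective ρ' →
      (∑ x : S5, (mK f m (θ x)).trace * (ρ' x⁻¹).1.trace ≠ 0) →
      tr (m (θ u5)) ^ 2 + tr (m (θ u5)) - 1 = 0 ∧ tr (m (θ (u5 ^ 2))) = tr (m (θ u5)) ^ 2 - 2 := by
    intro ρ' hρ' hne
    obtain ⟨T, hT0, hT⟩ := exists_inter ((mK f m).comp θ) ((Units.coeHom _).comp ρ') hne
    have e1 := h.tr_of_inter hn hθ f hT0 hT hu1 hu2
    have e2 := h.tr_of_inter hn hθ f hT0 hT hu25 hu4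
    rw [tr_sq, ← e1] at e2
    have e3 := tau hρ'
    rw [← e1] at e3
    constructor
    · apply f.injective
      rw [map_sub, map_add, map_pow, map_one, map_zero, e3]
    · apply f.injective
      rw [e2, map_sub, map_pow, map_ofNat]
  by_contra hcon
  have hs1 := h.sum_theta hc6 hn hθ f h2 hρ
  have hρδ : Function.Injective (ρ.comp δ) := hρ.comp δ_injective
  have hs2 := h.sum_theta hc6 hn hθ f h2 hρδ
  have h24 : (24 : K) ≠ 0 := by
    have : (24 : K) = 2 * 2 * 2 * 3 := by norm_num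
    rw [this]
    exact mul_ne_zero (mul_ne_zero (mul_ne_zero h2 h2) h2) h3
  have z1 : (2 + f (tr (m (θ u5))) * (ρ u5).1.trace + f (tr (m (θ (u5 ^ 2)))) * (ρ (u5 ^ 2)).1.trace) = 0 := by
    by_contra hne
    exact hcon (key ρ hρ (by rw [hs1]; exact mul_ne_zero h24 hne))
  have z2 : (2 + f (tr (m (θ u5))) * ((ρ.comp δ) u5).1.trace +
      f (tr (m (θ (u5 ^ 2)))) * ((ρ.comp δ) (u5 ^ 2)).1.trace) = 0 := by
    by_contra hne
    exact hcon (key (ρ.comp δ) hρδ (by rw [hs2]; exact mul_ne_zero h24 hne))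
  obtain ⟨y, hy⟩ := δ_u5
  obtain ⟨y', hy'⟩ := δ_u5_sq
  rw [MonoidHom.comp_apply, MonoidHom.comp_apply, tr_conj5 ρ hy, tr_conj5 ρ hy'] at z2
  rw [tr_sq] at z1 z2
  have htau := tau hρ
  obtain ⟨τ, hτ⟩ : ∃ τ, τ = (ρ u5).1.trace := ⟨_, rfl⟩
  obtain ⟨a, ha⟩ : ∃ a, a = f (tr (m (θ u5))) := ⟨_, rfl⟩
  obtain ⟨b, hb⟩ : ∃ b, b = f (tr (m (θ (u5 ^ 2)))) := ⟨_, rfl⟩
  rw [← hτ] at htau z1 z2
  rw [← ha, ← hb] at z1 z2
  have hab : a + b = 4 := by linear_combination -z1 - z2 + (a + b) * htau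
  have hsub : (a - b) * (2 * τ + 1) = 0 := by linear_combination z1 - z2 + (a - b) * htau
  have hne : (2 * τ + 1) ≠ 0 := by
    intro h0
    have : (2 * τ + 1) ^ 2 = 5 := by linear_combination 4 * htau
    rw [h0] at this
    exact h5 (by rw [← this]; ring)
  have hab' : a = b := sub_eq_zero.1 ((mul_eq_zero.1 hsub).resolve_right hne)
  have ha2 : a = 2 := by
    apply mul_left_cancel₀ h2
    rw [← hab'] at hab
    linear_combination hab
  have hA : tr (m (θ u5)) = 2 := f.injective (by rw [← ha, ha2, map_ofNat])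
  have hB : tr (m (θ (u5 ^ 2))) = 2 := f.injective (by rw [← hb, ← hab', ha2, map_ofNat])
  exact h.not_all_two hc6 hn p hp7 (h.five_of_theta hθ hA hB)

theorem Cov.tr_u5 [Finite G] (h : Cov m φ) (hc6 : Nat.card φ.ker = 6)
    (hn : Fintype.card ι = 12) (p : ℕ) [hp : Fact p.Prime] [CharP F p] (hp7 : 7 ≤ p) (hθ : Th θ φ) :
    tr (m (θ u5)) ^ 2 + tr (m (θ u5)) - 1 = 0 ∧ tr (m (θ (u5 ^ 2))) = tr (m (θ u5)) ^ 2 - 2 := by
  have : CharP (AlgebraicClosure F) p := (RingHom.charP_iff (algebraMap F (AlgebraicClosure F))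
    (algebraMap F (AlgebraicClosure F)).injective p).1 inferInstance
  exact h.tr_u5_aux (algebraMap F (AlgebraicClosure F)) hc6 hn p hp7 hθ

/-- **A plane over `F` stable under `θ(SL₂(5))`.** -/
theorem Cov.exists_W [Finite F] [Finite G] (h : Cov m φ) (hc6 : Nat.card φ.ker = 6)
    (hn : Fintype.card ι = 12) (p : ℕ) [hp : Fact p.Prime] [CharP F p] (hp7 : 7 ≤ p) (hθ : Th θ φ) :
    ∃ (ρ : S5 →* GL (Fin 2) F) (T : Matrix ι (Fin 2) F), Function.Injective ρ ∧ T ≠ 0 ∧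
      ∀ x, (m (θ x) : Matrix ι ι F) * T = T * (ρ x).1 := by
  have hcast : ∀ n : ℕ, ¬ p ∣ n → (n : F) ≠ 0 := fun n hn h0 => hn ((CharP.cast_eq_zero_iff F p n).1 h0)
  have h2 : (2 : F) ≠ 0 := by exact_mod_cast hcast 2 (Nat.not_dvd_of_pos_of_lt (by norm_num) (by omega))
  have h3 : (3 : F) ≠ 0 := by exact_mod_cast hcast 3 (Nat.not_dvd_of_pos_of_lt (by norm_num) (by omega))
  have h5 : (5 : F) ≠ 0 := by exact_mod_cast hcast 5 (Nat.not_dvd_of_pos_of_lt (by norm_num) (by omega))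
  obtain ⟨ht, hu⟩ := h.tr_u5 hc6 hn p hp7 hθ
  obtain ⟨t, htt⟩ : ∃ t, t = tr (m (θ u5)) := ⟨_, rfl⟩
  rw [← htt] at ht hu
  obtain ⟨α, β, hαβ⟩ := ClassicalGeometry.QuatPair.exists_sq_add_sq_eq_neg_one (F := F) h2
  obtain ⟨ρ, hρ⟩ := exists_ico h2 h3 h5 (g := -t) (α := α) (β := β) (by linear_combination ht)
    (by rw [← sq, ← sq, hαβ])
  -- we may take `tr ρ(u5) = t`
  have hex : ∃ ρ' : S5 →* GL (Fin 2) F, Function.Injective ρ' ∧ (ρ' u5).1.trace = t := by
    have htau := tau hρ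
    obtain ⟨τ, hτ⟩ : ∃ τ, τ = (ρ u5).1.trace := ⟨_, rfl⟩
    rw [← hτ] at htau
    have h6 : (τ - t) * (τ + t + 1) = 0 := by linear_combination htau - ht
    rcases mul_eq_zero.1 h6 with h7 | h7
    · exact ⟨ρ, hρ, by rw [← hτ]; exact sub_eq_zero.1 h7⟩
    · refine ⟨ρ.comp δ, hρ.comp δ_injective, ?_⟩
      obtain ⟨y, hy⟩ := δ_u5
      rw [MonoidHom.comp_apply, tr_conj5 ρ hy, tr_sq, ← hτ]
      linear_combination htau - h7
  obtain ⟨ρ', hρ', htr⟩ := hex
  have hs := h.sum_theta hc6 hn hθ (RingHom.id F) h2 hρ'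
  rw [RingHom.id_apply, RingHom.id_apply, tr_sq, htr, hu, ← htt] at hs
  have h120 : (24 : F) * (2 + t * t + (t ^ 2 - 2) * (t ^ 2 - 2)) = 2 * 2 * 2 * 3 * 5 := by
    linear_combination (24 * (t ^ 2 - t - 1)) * ht
  have hne : ∑ x : S5, (mK (RingHom.id F) m (θ x)).trace * (ρ' x⁻¹).1.trace ≠ 0 := by
    rw [hs, h120]
    exact mul_ne_zero (mul_ne_zero (mul_ne_zero (mul_ne_zero h2 h2) h2) h3) h5
  obtain ⟨T, hT0, hT⟩ := exists_inter ((mK (RingHom.id F) m).comp θ) ((Units.coeHom _).comp ρ') hne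
  refine ⟨ρ', T, hρ', hT0, fun x => ?_⟩
  have h8 := hT x
  rw [MonoidHom.comp_apply, mK_apply] at h8
  exact h8

end Cfsg.Agent.H930.Six
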