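import Cfsg.Agent.H890.B3Six
import Cfsg.Agent.H930.SixInd

/-!
# Automorphisms of `6.A₆` centralising the centre and fixing the character are inner (helper930)

* `CR a b k` : `a b = k b a`, `k` central;
* `Cov.aut_inner` : `γ : G ≃* G` trivial on `ker φ`, `tr (m (γ x)) = tr (m x)` ⟹ `φ (γ g) = φ (g₀ g g₀⁻¹)` for some `g₀`;
* `Cov.le_mul` : a core with socle `A₆` and `6` scalars, `p ≥ 7`, `n = 12` : `H ≤ P * scalars`.
-/

set_option autoImplicit false
set_option linter.unusedSectionVars false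

namespace Cfsg.Agent.H930.Six

open Cfsg Cfsg.Geo Matrix Equiv Cfsg.Agent.H915.LD
open Cfsg.Agent.StdAlt.Six Cfsg.Agent.OddHalf.D5.SixAut
open scoped commutatorElement

universe u v

variable {ι : Type} [Fintype ι] [DecidableEq ι] {F : Type u} [Field F] {G : Type v} [Group G]
  {m : G →* GL ι F} {φ : G →* Perm (Fin 6)}

/-- `a b = k b a` with `k` central -/
structure CR (a b k : G) : Prop where
  eq : a * b = k * (b * a)
  cen : ∀ g, k * g = g * k

namespace CR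

variable {a b k a' k' b' : G}

theorem self (a : G) : CR a a 1 := ⟨(one_mul _).symm, fun g => by rw [one_mul, mul_one]⟩

theorem cen_inv (h : ∀ g, k * g = g * k) (g : G) : k⁻¹ * g = g * k⁻¹ := by
  calc k⁻¹ * g = k⁻¹ * (g * k) * k⁻¹ := by group
    _ = g * k⁻¹ := by rw [← h]; group

theorem symm (h : CR a b k) : CR b a k⁻¹ := ⟨by rw [h.eq]; group, cen_inv h.cen⟩

theorem mul_left (h : CR a b k) (h' : CR a' b k') : CR (a * a') b (k * k') := by
  refine ⟨?_, fun g => by rw [mul_assoc, h'.cen, ← mul_assoc, h.cen, mul_assoc]⟩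
  calc a * a' * b = a * (a' * b) := by group
    _ = a * k' * (b * a') := by rw [h'.eq]; group
    _ = k' * (a * b) * a' := by rw [← h'.cen]; group
    _ = k' * k * (b * (a * a')) := by rw [h.eq]; group
    _ = k * k' * (b * (a * a')) := by rw [h'.cen]

theorem inv_left (h : CR a b k) : CR a⁻¹ b k⁻¹ := by
  refine ⟨?_, cen_inv h.cen⟩
  calc a⁻¹ * b = a⁻¹ * (k⁻¹ * (k * (b * a))) * a⁻¹ := by group
    _ = a⁻¹ * (k⁻¹ * (a * b)) * a⁻¹ := by rw [h.eq]
    _ = a⁻¹ * (k⁻¹ * a * b) * a⁻¹ := by group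
    _ = a⁻¹ * (a * k⁻¹ * b) * a⁻¹ := by rw [cen_inv h.cen]
    _ = k⁻¹ * (b * a⁻¹) := by group

theorem mul_right (h : CR a b k) (h' : CR a b' k') : CR a (b * b') (k * k') := by
  have h1 := (h'.symm.mul_left h.symm : CR (b' * b) a (k'⁻¹ * k⁻¹))
  refine ⟨?_, fun g => by rw [mul_assoc, h'.cen, ← mul_assoc, h.cen, mul_assoc]⟩
  calc a * (b * b') = a * b * b' := by group
    _ = k * (b * (a * b')) := by rw [h.eq]; group
    _ = k * (b * k' * (b' * a)) := by rw [h'.eq]; group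
    _ = k * (k' * b * (b' * a)) := by rw [← h'.cen]
    _ = k * k' * (b * b' * a) := by group

theorem unique (h : CR a b k) (h' : CR a b k') : k = k' := by
  have h1 := h.eq.symm.trans h'.eq
  exact mul_right_cancel h1

theorem map (h : CR a b k) (γ : G ≃* G) (hk : γ k = k) : CR (γ a) (γ b) k :=
  ⟨by rw [← map_mul, h.eq, map_mul, map_mul, hk], h.cen⟩

end CR

theorem Cov.cr_of (h : Cov m φ) {a b : G} (hab : φ a * φ b = φ b * φ a) :
    ∃ k, φ k = 1 ∧ CR a b k := by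
  have hk := Cov.ker_comm hab
  exact ⟨_, hk, by group, h.central hk⟩

theorem Cov.cr_lift (h : Cov m φ) {a b k a' b' : G} (hab : CR a b k) (ha : φ a = φ a') (hb : φ b = φ b') :
    CR a' b' k := by
  have h1 : φ (a' * a⁻¹) = 1 := by rw [map_mul, map_inv, ha, mul_inv_cancel]
  have h2 : φ (b' * b⁻¹) = 1 := by rw [map_mul, map_inv, hb, mul_inv_cancel]
  have c1 := h.central h1
  have c2 := h.central h2
  refine ⟨?_, hab.cen⟩
  obtain ⟨s, hs⟩ : ∃ s, s = a' * a⁻¹ := ⟨_, rfl⟩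
  obtain ⟨t, ht⟩ : ∃ t, t = b' * b⁻¹ := ⟨_, rfl⟩
  rw [← hs] at c1
  rw [← ht] at c2
  have e1 : a' = s * a := by rw [hs]; group
  have e2 : b' = t * b := by rw [ht]; group
  rw [e1, e2]
  calc s * a * (t * b) = s * (a * t) * b := by group
    _ = s * t * (a * b) := by rw [← c2]; group
    _ = t * s * (k * (b * a)) := by rw [hab.eq, c1]
    _ = t * (s * (k * b)) * a := by group
    _ = t * (k * b * s) * a := by rw [c1]
    _ = t * k * (b * (s * a)) := by group
    _ = k * t * (b * (s * a)) := by rw [c2]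
    _ = k * (t * b * (s * a)) := by group

/-- lifts of `e6`, `f6` -/
theorem Cov.cr_six [Finite G] (h : Cov m φ) (h3 : 3 ∣ Nat.card φ.ker) :
    ∃ a b k, φ a = (H890.B3.e6 : A6) ∧ φ b = (H890.B3.f6 : A6) ∧ φ k = 1 ∧ CR a b k ∧ k ≠ k⁻¹ := by
  obtain ⟨a, ha⟩ := h.surj (H890.B3.e6 : A6).2
  obtain ⟨b, hb⟩ := h.surj (H890.B3.f6 : A6).2
  have hc : φ a * φ b = φ b * φ a := by rw [ha, hb]; decide +kernel
  obtain ⟨k, hk, hab⟩ := h.cr_of hc
  refine ⟨a, b, k, ha, hb, hk, hab, fun h2 => ?_⟩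
  have hk2 : k * k = 1 := by nth_rewrite 2 [h2]; exact mul_inv_cancel k
  -- `a³` is central
  have ha3 : φ (a * a * a) = 1 := by rw [map_mul, map_mul, ha]; decide +kernel
  have h4 : CR (a * a * a) b (k * k * k) := (hab.mul_left hab).mul_left hab
  have h5 : CR (a * a * a) b 1 := ⟨by rw [one_mul, h.central ha3], fun g => by rw [one_mul, mul_one]⟩
  have h6 := h4.unique h5
  rw [hk2, one_mul] at h6
  have h7 := hab.eq
  rw [h6, one_mul] at h7
  exact h.nc h3 ha hb h7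

theorem Cov.exists_aut (h : Cov m φ) (γ : G ≃* G) (hγ : ∀ k, φ k = 1 → γ k = k) :
    ∃ α : MulAut A6, ∀ g, (α ⟨φ g, h.sign g⟩ : Perm (Fin 6)) = φ (γ g) := by
  let φ' : G →* A6 := φ.codRestrict _ h.sign
  have hs : Function.Surjective φ' := by
    rintro ⟨s, hs⟩
    obtain ⟨g, hg⟩ := h.surj hs
    exact ⟨g, Subtype.ext hg⟩
  have hk : ∀ x, x ∈ φ'.ker ↔ φ x = 1 := by
    intro x
    rw [MonoidHom.mem_ker]
    exact ⟨fun h1 => congrArg Subtype.val h1, fun h1 => Subtype.ext h1⟩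
  have hmap : φ'.ker.map (γ : G →* G) = φ'.ker := by
    ext x
    constructor
    · rintro ⟨y, hy, rfl⟩
      change γ y ∈ φ'.ker
      rw [hγ y ((hk y).1 hy)]
      exact hy
    · intro hx
      exact ⟨x, hx, hγ x ((hk x).1 hx)⟩
  let e := QuotientGroup.quotientKerEquivOfSurjective φ' hs
  have he : ∀ g : G, e (g : G ⧸ φ'.ker) = φ' g := fun g => rfl
  let α : MulAut A6 := (e.symm.trans (QuotientGroup.congr φ'.ker φ'.ker γ hmap)).trans e
  refine ⟨α, fun g => ?_⟩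
  have h1 : e.symm (φ' g) = (g : G ⧸ φ'.ker) := by rw [← he, MulEquiv.symm_apply_apply]
  have h2 : α (φ' g) = φ' (γ g) := by
    change e (QuotientGroup.congr φ'.ker φ'.ker γ hmap (e.symm (φ' g))) = φ' (γ g)
    rw [h1, QuotientGroup.congr_mk, he]
  exact congrArg Subtype.val h2

/-- composition with an inner automorphism -/
theorem conj_triv (h : Cov m φ) (γ : G ≃* G) (hγ : ∀ k, φ k = 1 → γ k = k) (g₀ : G) :
    ∀ k, φ k = 1 → (γ.trans (MulAut.conj g₀)) k = k := by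
  intro k hk
  change g₀ * γ k * g₀⁻¹ = k
  rw [hγ k hk, ← h.central hk]
  group

/-- **Automorphisms of `6.A₆` trivial on the centre and fixing the character are inner.** -/
theorem Cov.aut_inner [Finite G] (h : Cov m φ) (h3 : 3 ∣ Nat.card φ.ker) (h5 : ¬ 5 ∣ Nat.card φ.ker)
    {U : G} (hU : φ U = (H890.B3.x5 : A6)) (hU5 : U ^ 5 = 1) (hUt : tr (m (U ^ 2)) ≠ tr (m U)) (γ : G ≃* G)
    (hγ : ∀ k, φ k = 1 → γ k = k) (hγt : tr (m (γ U)) = tr (m U)) : ∃ g₀ : G, ∀ g, φ (γ g) = φ (g₀ * g * g₀⁻¹) := by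
  obtain ⟨α, hα⟩ := h.exists_aut γ hγ
  obtain ⟨a, b, k, ha, hb, hk, hab, hne⟩ := h.cr_six h3
  by_cases hns : NS α
  · obtain ⟨σ, hσ⟩ := hns
    have hσ' : ∀ g, φ (γ g) = σ * φ g * σ⁻¹ := fun g => by rw [← hα, hσ]
    rcases Int.units_eq_one_or (Perm.sign σ) with hs | hs
    · obtain ⟨g₀, rfl⟩ := h.surj (Perm.mem_alternatingGroup.2 hs)
      exact ⟨g₀, fun g => by rw [hσ', map_mul, map_mul, map_inv]⟩
    · exfalso
      have hmem : H890.B3.s01 * σ⁻¹ ∈ alternatingGroup (Fin 6) := by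
        rw [Perm.mem_alternatingGroup, map_mul, map_inv, hs]
        decide
      obtain ⟨g₀, hg₀⟩ := h.surj hmem
      have h1 := hab.map (γ.trans (MulAut.conj g₀)) (conj_triv h γ hγ g₀ k hk)
      have h2 : ∀ g, φ ((γ.trans (MulAut.conj g₀)) g) = H890.B3.s01 * φ g * H890.B3.s01⁻¹ := by
        intro g
        change φ (g₀ * γ g * g₀⁻¹) = _
        rw [map_mul, map_mul, map_inv, hg₀, hσ']
        group
      have e1 : φ ((γ.trans (MulAut.conj g₀)) a) = φ a⁻¹ := by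
        rw [h2, map_inv, ha]
        decide +kernel
      have e2 : φ ((γ.trans (MulAut.conj g₀)) b) = φ b := by
        rw [h2, hb]
        decide +kernel
      exact hne ((h.cr_lift h1 e1 e2).unique hab.inv_left)
  · exfalso
    obtain ⟨τ, hτ⟩ := H890.B3.eq_theta hns
    have hτ' : ∀ g, φ (γ g) = τ * θ (φ g) * τ⁻¹ := fun g => by rw [← hα, hτ]
    rcases Int.units_eq_one_or (Perm.sign τ) with hs | hs
    · have hmem : (H890.B3.k1 : Perm (Fin 6)) * τ⁻¹ ∈ alternatingGroup (Fin 6) := by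
        rw [Perm.mem_alternatingGroup, map_mul, map_inv, hs]
        decide
      obtain ⟨g₀, hg₀⟩ := h.surj hmem
      have h1 := hab.map (γ.trans (MulAut.conj g₀)) (conj_triv h γ hγ g₀ k hk)
      have h2 : ∀ g, φ ((γ.trans (MulAut.conj g₀)) g) =
          (H890.B3.k1 : Perm (Fin 6)) * θ (φ g) * (H890.B3.k1 : Perm (Fin 6))⁻¹ := by
        intro g
        change φ (g₀ * γ g * g₀⁻¹) = _
        rw [map_mul, map_mul, map_inv, hg₀, hτ']
        group
      have e1 : φ ((γ.trans (MulAut.conj g₀)) a) = φ (a * (b * b)) := by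
        rw [h2, map_mul, map_mul, ha, hb]
        decide +kernel
      have e2 : φ ((γ.trans (MulAut.conj g₀)) b) = φ (a * b) := by
        rw [h2, map_mul, ha, hb]
        decide +kernel
      have h4 := h.cr_lift h1 e1 e2
      have h5 : CR a (a * b) (1 * k) := (CR.self a).mul_right hab
      have h6 : CR b (a * b) (k⁻¹ * 1) := hab.symm.mul_right (CR.self b)
      have h7 := h5.mul_left (h6.mul_left h6)
      have h8 := h4.unique h7
      exact hne (h8.trans (by group))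
    · have hmem : (H890.B3.k5 : Perm (Fin 6)) * H890.B3.s01 * τ⁻¹ ∈ alternatingGroup (Fin 6) := by
        rw [Perm.mem_alternatingGroup, map_mul, map_mul, map_inv, hs]
        decide
      obtain ⟨g₀, hg₀⟩ := h.surj hmem
      have h2 : φ (g₀ * γ U * g₀⁻¹) = φ (U ^ 2) := by
        have h6 : (H890.B3.k5 : Perm (Fin 6)) * H890.B3.s01 * θ (H890.B3.x5 : A6) * (H890.B3.k5 * H890.B3.s01)⁻¹ =
            (H890.B3.x5 : Perm (Fin 6)) ^ 2 := by decide +kernel
        rw [map_mul, map_mul, map_inv, hg₀, hτ', map_pow, hU, ← h6]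
        group
      -- the two elements are equal
      obtain ⟨V, hV⟩ : ∃ V, V = g₀ * γ U * g₀⁻¹ := ⟨_, rfl⟩
      rw [← hV] at h2
      have hV5 : V ^ 5 = 1 := by rw [hV, conj_pow, ← map_pow, hU5, map_one]; group
      have hker : φ ((U ^ 2)⁻¹ * V) = 1 := by rw [map_mul, map_inv, h2, inv_mul_cancel]
      obtain ⟨z, hz⟩ : ∃ z, z = (U ^ 2)⁻¹ * V := ⟨_, rfl⟩
      rw [← hz] at hker
      have hz1 := Cov.pow_ker hker
      have hcz := h.central hker
      have e1 : V = z * U ^ 2 := by rw [hcz, hz]; group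
      have hz5 : z ^ 5 = 1 := by
        have h7 : Commute z (U ^ 2) := hcz _
        rw [e1, h7.mul_pow, ← pow_mul, mul_comm 2 5, pow_mul, hU5, one_pow, mul_one] at hV5
        exact hV5
      have hz' : z = 1 := by
        have h8 : orderOf z ∣ Nat.gcd 5 (Nat.card φ.ker) :=
          Nat.dvd_gcd (orderOf_dvd_of_pow_eq_one hz5) (orderOf_dvd_of_pow_eq_one hz1)
        rw [(Nat.Coprime.gcd_eq_one ((Nat.Prime.coprime_iff_not_dvd (by norm_num)).2 h5))] at h8
        exact orderOf_eq_one_iff.1 (Nat.dvd_one.1 h8)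
      rw [hz', one_mul] at e1
      apply hUt
      rw [← e1, hV, map_mul, map_mul, map_inv, tr_conj, hγt]

/-- the element of order five -/
theorem Cov.exists_U [Finite G] (h : Cov m φ) (hc6 : Nat.card φ.ker = 6)
    (hn : Fintype.card ι = 12) (p : ℕ) [hp : Fact p.Prime] [CharP F p] (hp7 : 7 ≤ p) :
    ∃ U : G, φ U = (H890.B3.x5 : A6) ∧ U ^ 5 = 1 ∧ tr (m (U ^ 2)) ≠ tr (m U) := by
  have h5 : (5 : F) ≠ 0 := by
    intro h0
    have h1 : p ∣ 5 := (CharP.cast_eq_zero_iff F p 5).1 (by exact_mod_cast h0)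
    have := Nat.le_of_dvd (by norm_num) h1
    omega
  obtain ⟨θ, hθ⟩ := h.exists_Th hc6
  obtain ⟨ht, hu⟩ := h.tr_u5 hc6 hn p hp7 hθ
  obtain ⟨x, hx⟩ := hθ.surj (H890.B3.x5 : A6) (by rw [mem_st5]; decide +kernel)
  have hx5 : ∃ x : S5, φ (θ x) = (H890.B3.x5 : A6) ∧ x ^ 5 = 1 := by
    have h1 : φ (θ (x ^ 5)) = 1 := by rw [map_pow, map_pow, hx]; decide +kernel
    rcases (hθ.ker _).1 h1 with h2 | h2
    · exact ⟨x, hx, h2⟩
    · refine ⟨-x, ?_, ?_⟩
      · rw [← neg_one_mul, map_mul, map_mul, (hθ.ker (-1)).2 (Or.inr rfl), one_mul, hx]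
      · rw [Odd.neg_pow (by decide), h2, neg_neg]
  obtain ⟨x, hx, hx5⟩ := hx5
  have hx1 : x ≠ 1 := by
    rintro rfl
    rw [map_one, map_one] at hx
    revert hx
    decide
  refine ⟨θ x, hx, by rw [← map_pow, hx5, map_one], ?_⟩
  have hconj : ∀ {x' y : S5}, ∀ x, y * x = x' * y → tr (m (θ x)) = tr (m (θ x')) := by
    intro x' y x hy
    have e : x' = y * x * y⁻¹ := by rw [hy]; group
    rw [e, map_mul, map_mul, map_inv, map_mul, map_mul, map_inv, tr_conj]
  have hconj2 : ∀ {x' y : S5}, ∀ x, y * x = x' * y → tr (m (θ (x ^ 2))) = tr (m (θ (x' ^ 2))) := by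
    intro x' y x hy
    apply hconj (y := y)
    rw [sq, sq, ← mul_assoc, hy, mul_assoc, hy, mul_assoc]
  obtain ⟨t, htt⟩ : ∃ t, t = tr (m (θ u5)) := ⟨_, rfl⟩
  rw [← htt] at ht hu
  have key : t ^ 2 - 2 ≠ t := by
    intro h0
    apply h5
    have h6 : 2 * t + 1 = 0 := by linear_combination ht - h0
    linear_combination (2 * t + 1) * h6 - 4 * ht
  have hb4 : ∃ y : S5, y * (u5 ^ 2) ^ 2 = u5 * y := by
    apply conjA
    decide +kernel
  rw [← map_pow]
  rcases five_class x hx5 hx1 with h1 | h1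
  · obtain ⟨y, hy⟩ := conjA x h1
    rw [hconj2 x hy, hconj x hy, hu, ← htt]
    exact key
  · obtain ⟨y, hy⟩ := conjB x h1
    obtain ⟨y', hy'⟩ := hb4
    rw [hconj2 x hy, hconj x hy, hconj _ hy', hu, ← htt]
    exact key.symm

/-- conjugation by an element of `H` -/
def conjP {H P : Subgroup (GL ι F)} (hc : IsResidualCore H P) {h : GL ι F} (hh : h ∈ H) : P ≃* P where
  toFun x := ⟨h * x * h⁻¹, hc.normal h hh x x.2⟩
  invFun x := ⟨h⁻¹ * x * h, by
    have h1 := hc.normal h⁻¹ (inv_mem hh) x x.2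
    rwa [inv_inv] at h1⟩
  left_inv x := Subtype.ext (by
    change h⁻¹ * (h * (x : GL ι F) * h⁻¹) * h = x
    group)
  right_inv x := Subtype.ext (by
    change h * (h⁻¹ * (x : GL ι F) * h) * h⁻¹ = x
    group)
  map_mul' x y := Subtype.ext (by
    change h * ((x : GL ι F) * y) * h⁻¹ = (h * x * h⁻¹) * (h * y * h⁻¹)
    group)

/-- **A maximal subgroup with the core `6.A₆` in dimension twelve is `P` times scalars.** -/
theorem le_mul [Finite F] {H P : Subgroup (GL ι F)} (hc : IsResidualCore H P) (e : Soc P ≃* alternatingGroup (Fin 6))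
    (hc6 : Nat.card ((scalars ι F).subgroupOf P) = 6) (hn : Fintype.card ι = 12) (p : ℕ) [hp : Fact p.Prime]
    [CharP F p] (hp7 : 7 ≤ p) {h : GL ι F} (hh : h ∈ H) : ∃ x ∈ P, x⁻¹ * h ∈ scalars ι F := by
  have hC := core_of_residual hc
  have hcov := exists_cov hC e
  have hker := ker_toPerm e
  rw [← hker] at hc6
  obtain ⟨U, hU, hU5, hUt⟩ := hcov.exists_U hc6 hn p hp7
  obtain ⟨g₀, hg₀⟩ := hcov.aut_inner (by rw [hc6]; norm_num) (by rw [hc6]; norm_num) hU hU5 hUt (conjP hc hh) (by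
    intro k hk
    obtain ⟨c, hcc⟩ := hcov.scal hk
    apply Subtype.ext
    change h * (k : GL ι F) * h⁻¹ = k
    rw [mul_inv_eq_iff_eq_mul]
    apply Units.ext
    rw [Units.val_mul, Units.val_mul]
    change (h : Matrix ι ι F) * (P.subtype k : Matrix ι ι F) = (P.subtype k : Matrix ι ι F) * (h : Matrix ι ι F)
    rw [hcc, Matrix.smul_mul, Matrix.mul_smul, mul_one, one_mul]) (by
    change tr (h * (U : GL ι F) * h⁻¹) = _
    rw [tr_conj]
    rfl)
  refine ⟨g₀, g₀.2, hc.centralizer_scalar _ (H.mul_mem (H.inv_mem (hc.le g₀.2)) hh) fun x hx => ?_⟩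
  have h1 := hg₀ ⟨x, hx⟩
  have h2 : (toPerm e) (g₀⁻¹ * conjP hc hh ⟨x, hx⟩ * g₀ * ⟨x, hx⟩⁻¹) = 1 := by
    rw [map_mul, map_mul, map_mul, map_inv, map_inv, h1, map_mul, map_mul, map_inv]
    group
  have h3 := hcov.ker _ h2
  have h4 : ((P.subtype (g₀⁻¹ * conjP hc hh ⟨x, hx⟩ * g₀ * ⟨x, hx⟩⁻¹) : GL ι F)) =
      (g₀ : GL ι F)⁻¹ * h * x * ((g₀ : GL ι F)⁻¹ * h)⁻¹ * x⁻¹ := by
    change (g₀ : GL ι F)⁻¹ * (h * x * h⁻¹) * g₀ * x⁻¹ = _
    group
  rw [h4] at h3
  exact h3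

end Cfsg.Agent.H930.Six
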