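import Cfsg.Agent.H915.LD
import Cfsg.Agent.H920.Basic

/-!
# Covers of `A₆` acting absolutely irreducibly: basic facts (helper930)

* `Cov m φ` : `m : G →* GL ι F` faithful, `φ : G →* S₆` with range `A₆`, the kernel of `φ` acts by scalars, `G` perfect,
  `m` absolutely irreducible; `exists_cov` : from a core;
* `Cov.conj` : change `φ` by a permutation; `Cov.central`, `Cov.scal` : the kernel of `φ`;
* `pow_index_mem` : transfer; `Cov.nc` : `3 ∣ |ker φ|` ⟹ lifts of `(0 1 2)` and `(3 4 5)` do not commute;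
* `Cov.tr_eq_zero_of_comm` : `[x, y] ∈ ker φ`, `≠ 1` ⟹ `tr x = 0`; `Cov.tr_three` : `φ x` of order `3` ⟹ `tr x = 0`;
* `Cov.lemmaB` : `Y ≤ G` acts on `E` by a linear character ⟹ `dim E * n ≤ |G : Y|`; `lemmaH`;
* `Cov.ker_comm`, `Cov.pow_ker`, `Cov.exists_inv`, `Cov.inv_unique`, `Cov.inv_conj`, `Cov.inv_comm` : lifts of involutions
  for `|ker φ| = 3`.
-/

set_option autoImplicit false
set_option linter.unusedSectionVars false

namespace Cfsg.Agent.H930.Six

open Cfsg Cfsg.Geo Matrix Equiv Cfsg.Agent.H915.LD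
open scoped commutatorElement

universe u v

variable {ι : Type} [Fintype ι] [DecidableEq ι] {F : Type u} [Field F] {G : Type v} [Group G]

/-- a faithful absolutely irreducible representation of a perfect central extension of `A₆` -/
structure Cov (m : G →* GL ι F) (φ : G →* Perm (Fin 6)) : Prop where
  inj : Function.Injective m
  range : φ.range = alternatingGroup (Fin 6)
  ker : ∀ k, φ k = 1 → m k ∈ scalars ι F
  perf : commutator G = ⊤
  irr : ActsAbsolutelyIrreducibly (matrixSet m.range)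

/-- the map of a core with socle `A₆` onto `A₆` -/
def toPerm {P : Subgroup (GL ι F)} (e : Soc P ≃* alternatingGroup (Fin 6)) : P →* Perm (Fin 6) :=
  (alternatingGroup (Fin 6)).subtype.comp (e.toMonoidHom.comp (toSoc P))

theorem ker_toPerm {P : Subgroup (GL ι F)} (e : Soc P ≃* alternatingGroup (Fin 6)) :
    (toPerm e).ker = (scalars ι F).subgroupOf P := by
  rw [← ker_comp e]
  ext x
  rw [MonoidHom.mem_ker, MonoidHom.mem_ker, toPerm, MonoidHom.comp_apply]
  exact OneMemClass.coe_eq_one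

theorem exists_cov [Finite F] {P : Subgroup (GL ι F)} (hC : Core P) (e : Soc P ≃* alternatingGroup (Fin 6)) :
    Cov P.subtype (toPerm e) := by
  refine ⟨Subtype.val_injective, ?_, ?_, hC.commutator_top, ?_⟩
  · rw [toPerm, MonoidHom.range_comp, MonoidHom.range_eq_top.2 (e.surjective.comp (toSoc_surjective P)),
      ← MonoidHom.range_eq_map, Subgroup.range_subtype]
  · intro k hk
    have h1 : k ∈ (toPerm e).ker := hk
    rw [ker_toPerm, Subgroup.mem_subgroupOf] at h1
    exact h1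
  · rw [Subgroup.range_subtype]
    exact hC.absIrred

variable {m : G →* GL ι F} {φ : G →* Perm (Fin 6)}

theorem ker_conj (φ : G →* Perm (Fin 6)) (σ : Perm (Fin 6)) : ((MulAut.conj σ).toMonoidHom.comp φ).ker = φ.ker := by
  ext x
  rw [MonoidHom.mem_ker, MonoidHom.mem_ker, MonoidHom.comp_apply]
  exact (MulAut.conj σ).map_eq_one_iff

theorem Cov.surj (h : Cov m φ) {s : Perm (Fin 6)} (hs : s ∈ alternatingGroup (Fin 6)) : ∃ g, φ g = s := by
  rw [← h.range] at hs
  exact hs

theorem Cov.sign (h : Cov m φ) (g : G) : φ g ∈ alternatingGroup (Fin 6) := by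
  rw [← h.range]
  exact ⟨g, rfl⟩

theorem Cov.conj (h : Cov m φ) (σ : Perm (Fin 6)) : Cov m ((MulAut.conj σ).toMonoidHom.comp φ) := by
  refine ⟨h.inj, ?_, ?_, h.perf, h.irr⟩
  · rw [MonoidHom.range_comp, h.range]
    apply le_antisymm
    · rintro _ ⟨x, hx, rfl⟩
      exact (inferInstance : (alternatingGroup (Fin 6)).Normal).conj_mem x hx σ
    · intro x hx
      refine ⟨σ⁻¹ * x * σ, ?_, ?_⟩
      · have := (inferInstance : (alternatingGroup (Fin 6)).Normal).conj_mem x hx σ⁻¹
        rwa [inv_inv] at this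
      · change σ * (σ⁻¹ * x * σ) * σ⁻¹ = x
        group
  · intro k hk
    apply h.ker
    have h1 : σ * φ k * σ⁻¹ = 1 := hk
    rw [← mul_inv_eq_one] at h1
    rw [mul_inv_eq_one, mul_inv_eq_one] at h1
    exact mul_left_cancel (h1.trans (mul_one σ).symm)

theorem Cov.scal (h : Cov m φ) {k : G} (hk : φ k = 1) : ∃ c : Fˣ, (m k : Matrix ι ι F) = (c : F) • (1 : Matrix ι ι F) :=
  (mem_scalars_iff _).1 (h.ker k hk)

theorem Cov.central (h : Cov m φ) {k : G} (hk : φ k = 1) (g : G) : k * g = g * k := by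
  obtain ⟨c, hc⟩ := h.scal hk
  apply h.inj
  apply Units.ext
  rw [map_mul, map_mul, Units.val_mul, Units.val_mul, hc, Matrix.smul_mul, Matrix.mul_smul, mul_one, one_mul]

theorem Cov.mem_center (h : Cov m φ) {k : G} (hk : φ k = 1) : k ∈ Subgroup.center G :=
  Subgroup.mem_center_iff.2 fun g => (h.central hk g).symm

theorem Cov.nonempty (h : Cov m φ) : Nonempty ι := by
  by_contra hn
  rw [not_nonempty_iff] at hn
  have h1 : Subsingleton (GL ι F) := inferInstance
  have h2 : Subsingleton G := ⟨fun a b => h.inj (Subsingleton.elim _ _)⟩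
  obtain ⟨g, hg⟩ := h.surj (s := c[0, 1, 2]) (Perm.mem_alternatingGroup.2 (by decide))
  rw [Subsingleton.elim g 1, map_one] at hg
  revert hg
  decide

/-- a scalar in the kernel which is `1` -/
theorem Cov.eq_one_of_scal (h : Cov m φ) {k : G} (hk : (m k : Matrix ι ι F) = (1 : F) • (1 : Matrix ι ι F)) : k = 1 := by
  apply h.inj
  apply Units.ext
  rw [hk, one_smul, map_one, Units.val_one]

/-! ### transfer -/

/-- transfer: a central element of a perfect group: its power by the index of `T` lies in `E ≥ [T, T]` -/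
theorem pow_index_mem {X : Type*} [Group X] [Finite X] (hX : commutator X = ⊤) {T E : Subgroup X}
    (hcom : ∀ x ∈ T, ∀ y ∈ T, x * y * x⁻¹ * y⁻¹ ∈ E) {c : X} (hc : ∀ x, c * x = x * c) : c ^ T.index ∈ E := by
  have key : ∀ (k : ℕ) (g₀ : X), g₀⁻¹ * c ^ k * g₀ ∈ T → g₀⁻¹ * c ^ k * g₀ = c ^ k := by
    intro k g₀ _
    have h2 : Commute c g₀ := hc g₀
    rw [mul_assoc, (h2.pow_left k).eq]; group
  have h3 := MonoidHom.transfer_eq_pow (Abelianization.of (G := T)) c key
  have h4 : MonoidHom.transfer (Abelianization.of (G := T)) c = 1 :=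
    (Abelianization.commutator_subset_ker _) (by rw [hX]; exact Subgroup.mem_top _)
  rw [h4] at h3
  have h5 : (⟨c ^ T.index, MonoidHom.transfer_eq_pow_aux c key⟩ : T) ∈ commutator T := by
    rw [← Abelianization.ker_of, MonoidHom.mem_ker]; exact h3.symm
  have h6 : commutator T ≤ E.subgroupOf T := by
    rw [commutator_def, Subgroup.commutator_le]
    intro x _ y _
    rw [Subgroup.mem_subgroupOf, commutatorElement_def]
    exact hcom x x.2 y y.2
  exact Subgroup.mem_subgroupOf.mp (h6 h5)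

/-- the nine elements of `⟨(0 1 2), (3 4 5)⟩` -/
def nine : Subgroup (Perm (Fin 6)) where
  carrier := {x | ∃ i j : Fin 3, x = c[0, 1, 2] ^ (i : ℕ) * c[3, 4, 5] ^ (j : ℕ)}
  mul_mem' := by
    rintro _ _ ⟨i, j, rfl⟩ ⟨k, l, rfl⟩
    revert i j k l
    decide
  one_mem' := ⟨0, 0, by decide⟩
  inv_mem' := by
    rintro _ ⟨i, j, rfl⟩
    revert i j
    decide

theorem card_nine : Nat.card nine = 9 := by
  have h1 : Function.Bijective (fun x : Fin 3 × Fin 3 =>
      (⟨c[0, 1, 2] ^ (x.1 : ℕ) * c[3, 4, 5] ^ (x.2 : ℕ), x.1, x.2, rfl⟩ : nine)) := by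
    constructor
    · intro x y hxy
      have h2 := congrArg Subtype.val hxy
      revert x y
      have : ∀ x y : Fin 3 × Fin 3, (c[0, 1, 2] : Perm (Fin 6)) ^ (x.1 : ℕ) * c[3, 4, 5] ^ (x.2 : ℕ) =
          c[0, 1, 2] ^ (y.1 : ℕ) * c[3, 4, 5] ^ (y.2 : ℕ) → x = y := by decide
      intro x y _ h2
      exact this x y h2
    · rintro ⟨_, i, j, rfl⟩
      exact ⟨(i, j), rfl⟩
  rw [← Nat.card_eq_of_bijective _ h1, Nat.card_eq_fintype_card, Fintype.card_prod, Fintype.card_fin]

theorem nine_le : nine ≤ alternatingGroup (Fin 6) := by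
  rintro _ ⟨i, j, rfl⟩
  rw [Perm.mem_alternatingGroup]
  revert i j
  decide

theorem card_alt6 : Nat.card (alternatingGroup (Fin 6)) = 360 := by
  rw [nat_card_alternatingGroup, Nat.card_eq_fintype_card, Fintype.card_fin]
  rfl

theorem relIndex_nine : nine.relIndex (alternatingGroup (Fin 6)) = 40 := by
  have h1 := (nine.subgroupOf (alternatingGroup (Fin 6))).card_mul_index
  rw [Nat.card_congr (Subgroup.subgroupOfEquivOfLe nine_le).toEquiv, card_nine, card_alt6] at h1
  change 9 * nine.relIndex (alternatingGroup (Fin 6)) = 360 at h1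
  omega

theorem Cov.index_comap (h : Cov m φ) (T : Subgroup (Perm (Fin 6))) :
    (T.comap φ).index = T.relIndex (alternatingGroup (Fin 6)) := by
  rw [Subgroup.index_comap, h.range]

/-- **Lifts of `(0 1 2)` and `(3 4 5)` do not commute.** -/
theorem Cov.nc [Finite G] (h : Cov m φ) (h3 : 3 ∣ Nat.card φ.ker) {x y : G} (hx : φ x = c[0, 1, 2])
    (hy : φ y = c[3, 4, 5]) : x * y ≠ y * x := by
  intro hxy
  have hxy' : Commute x y := hxy
  -- a central element of order 3
  obtain ⟨z, hz⟩ := exists_prime_orderOf_dvd_card' (G := φ.ker) 3 h3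
  have hz1 : φ z = 1 := z.2
  have hz3 : (z : G) ^ 3 = 1 := by
    have h1 : z ^ 3 = 1 := by rw [← hz]; exact pow_orderOf_eq_one z
    exact_mod_cast congrArg Subtype.val h1
  have hzne : (z : G) ≠ 1 := by
    intro h1
    have h2 : z = 1 := Subtype.ext h1
    rw [h2, orderOf_one] at hz
    omega
  have hT : ∀ a ∈ nine.comap φ, ∃ (i j : ℕ) (k : G), φ k = 1 ∧ a = k * (x ^ i * y ^ j) := by
    rintro a ⟨i, j, hij⟩
    refine ⟨i, j, a * (x ^ (i : ℕ) * y ^ (j : ℕ))⁻¹, ?_, by group⟩
    rw [map_mul, map_inv, map_mul, map_pow, map_pow, hx, hy, hij, mul_inv_cancel]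
  have h1 := pow_index_mem h.perf (T := nine.comap φ) (E := ⊥) (c := (z : G)) (by
    intro a ha b hb
    obtain ⟨i, j, k, hk, rfl⟩ := hT a ha
    obtain ⟨i', j', k', hk', rfl⟩ := hT b hb
    rw [Subgroup.mem_bot]
    have c1 : Commute k (x ^ i * y ^ j) := h.central hk _
    have c2 : Commute k (k' * (x ^ i' * y ^ j')) := h.central hk _
    have c3 : Commute (x ^ i * y ^ j) k' := (h.central hk' _).symm
    have c4 : Commute (x ^ i * y ^ j) (x ^ i' * y ^ j') := by
      apply Commute.mul_left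
      · exact ((Commute.refl x).pow_pow i i').mul_right (hxy'.pow_pow i j')
      · exact (hxy'.symm.pow_pow j i').mul_right ((Commute.refl y).pow_pow j j')
    have c5 : Commute (k * (x ^ i * y ^ j)) (k' * (x ^ i' * y ^ j')) := c2.mul_left (c3.mul_right c4)
    rw [c5.eq, mul_assoc, mul_assoc, mul_inv_cancel_left, mul_inv_cancel]) (h.central hz1)
  rw [h.index_comap, relIndex_nine, Subgroup.mem_bot, show 40 = 3 * 13 + 1 from rfl, pow_succ, pow_mul, hz3, one_pow,
    one_mul] at h1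
  exact hzne h1

/-! ### traces -/

/-- if `[x, y]` is a non-trivial element of the kernel then the trace of `x` vanishes -/
theorem Cov.tr_eq_zero_of_comm (h : Cov m φ) {x y : G} (hk : φ (x * y * x⁻¹ * y⁻¹) = 1) (hne : x * y ≠ y * x) :
    tr (m x) = 0 := by
  obtain ⟨c, hc⟩ := h.scal hk
  have h1 : tr (m (y * x * y⁻¹)) = tr (m x) := by rw [map_mul, map_mul, map_inv, tr_conj]
  have hc1 : (c : F) ≠ 1 := by
    intro h2
    rw [h2] at hc
    have h3 := h.eq_one_of_scal hc
    apply hne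
    calc x * y = x * y * x⁻¹ * y⁻¹ * (y * x) := by group
      _ = y * x := by rw [h3, one_mul]
  have h2 : (m x : Matrix ι ι F) = (c : F) • (m (y * x * y⁻¹) : Matrix ι ι F) := by
    have h3 : x = x * y * x⁻¹ * y⁻¹ * (y * x * y⁻¹) := by group
    conv_lhs => rw [h3]
    rw [map_mul, Units.val_mul, hc, Matrix.smul_mul, one_mul]
  have h3 := tr_smul h2
  rw [h1] at h3
  have h4 : (1 - (c : F)) * tr (m x) = 0 := by rw [sub_mul, one_mul, ← h3, sub_self]
  exact (mul_eq_zero.1 h4).resolve_left (sub_ne_zero.2 hc1.symm)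

theorem three_types : ∀ x : Perm (Fin 6), x ∈ alternatingGroup (Fin 6) → x ^ 3 = 1 → x ≠ 1 →
    x.cycleType = {3} ∨ x.cycleType = {3, 3} := by
  intro x hx h3 hne
  have h1 : ∀ n ∈ x.cycleType, n = 3 := by
    intro n hn
    have h2 : n ∣ 3 := (Perm.dvd_of_mem_cycleType hn).trans (orderOf_dvd_of_pow_eq_one h3)
    have h4 := Perm.two_le_of_mem_cycleType hn
    rcases (Nat.dvd_prime Nat.prime_three).1 h2 with h5 | h5 <;> omega
  have h2 := Multiset.eq_replicate_of_mem h1
  have h4 : x.cycleType.sum ≤ 6 := by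
    have := Perm.sum_cycleType x
    rw [this]
    exact (Finset.card_le_univ _).trans (by simp)
  rw [h2, Multiset.sum_replicate, smul_eq_mul] at h4
  have h5 : Multiset.card x.cycleType ≠ 0 := by
    rw [Ne, Multiset.card_eq_zero, Perm.cycleType_eq_zero]
    exact hne
  have h6 : Multiset.card x.cycleType = 1 ∨ Multiset.card x.cycleType = 2 := by omega
  rcases h6 with h6 | h6
  · left; rw [h2, h6]; rfl
  · right; rw [h2, h6]; rfl

/-- **The trace vanishes over elements of order `3`.** -/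
theorem Cov.tr_three [Finite G] (h : Cov m φ) (h3 : 3 ∣ Nat.card φ.ker) {x : G} (hx : φ x ^ 3 = 1) (hne : φ x ≠ 1) :
    tr (m x) = 0 := by
  -- reduction to a permutation
  have h3' : ∀ σ : Perm (Fin 6), 3 ∣ Nat.card ((MulAut.conj σ).toMonoidHom.comp φ).ker := fun σ => by
    rw [ker_conj]; exact h3
  have key : ∀ {s : Perm (Fin 6)} (t : Perm (Fin 6)), s * t = t * s → t ∈ alternatingGroup (Fin 6) →
      (∀ a b : G, ∀ σ : Perm (Fin 6), σ * φ a * σ⁻¹ = s → σ * φ b * σ⁻¹ = t → a * b ≠ b * a) → IsConj (φ x) s →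
      tr (m x) = 0 := by
    intro s t hst ht hnc hc
    obtain ⟨σ, hσ⟩ := isConj_iff.1 hc
    obtain ⟨y, hy⟩ := (h.conj σ).surj ht
    have hy' : σ * φ y * σ⁻¹ = t := hy
    refine h.tr_eq_zero_of_comm (y := y) ?_ (hnc x y σ hσ hy')
    have h1 : φ x * φ y = φ y * φ x := by
      have e1 : φ x = σ⁻¹ * s * σ := by rw [← hσ]; group
      have e2 : φ y = σ⁻¹ * t * σ := by rw [← hy']; group
      rw [e1, e2]
      calc σ⁻¹ * s * σ * (σ⁻¹ * t * σ) = σ⁻¹ * (s * t) * σ := by group
        _ = σ⁻¹ * (t * s) * σ := by rw [hst]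
        _ = σ⁻¹ * t * σ * (σ⁻¹ * s * σ) := by group
    rw [map_mul, map_mul, map_mul, map_inv, map_inv, h1]
    group
  rcases three_types (φ x) (h.sign x) hx hne with hc | hc
  · refine key (s := c[0, 1, 2]) c[3, 4, 5] (by decide) (Perm.mem_alternatingGroup.2 (by decide)) ?_ ?_
    · intro a b σ ha hb
      exact (h.conj σ).nc (h3' σ) ha hb
    · rw [Perm.isConj_iff_cycleType_eq, hc]
      rfl
  · refine key (s := c[0, 1, 2] * c[3, 4, 5]) c[3, 4, 5] (by decide) (Perm.mem_alternatingGroup.2 (by decide)) ?_ ?_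
    · intro a b σ ha hb hab
      refine (h.conj σ).nc (h3' σ) (x := a * b⁻¹) (y := b) ?_ hb ?_
      · change σ * φ (a * b⁻¹) * σ⁻¹ = _
        rw [map_mul, map_inv]
        calc σ * (φ a * (φ b)⁻¹) * σ⁻¹ = (σ * φ a * σ⁻¹) * (σ * φ b * σ⁻¹)⁻¹ := by group
          _ = c[0, 1, 2] := by rw [ha, hb]; decide
      · calc a * b⁻¹ * b = a := by group
          _ = b * (b⁻¹ * a) := by group
          _ = b * (a * b⁻¹) := by
            congr 1
            calc b⁻¹ * a = b⁻¹ * (a * b) * b⁻¹ := by group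
              _ = a * b⁻¹ := by rw [hab]; group
    · rw [Perm.isConj_iff_cycleType_eq, hc]
      rfl

/-! ### lifts of involutions for `|ker φ| = 3` -/

/-- lifts of commuting elements commute up to the kernel -/
theorem Cov.ker_comm {x y : G} (hxy : φ x * φ y = φ y * φ x) : φ (x * y * x⁻¹ * y⁻¹) = 1 := by
  rw [map_mul, map_mul, map_mul, map_inv, map_inv, hxy]; group

theorem Cov.pow_ker {k : G} (hk : φ k = 1) : k ^ Nat.card φ.ker = 1 := by
  have h1 : (⟨k, hk⟩ : φ.ker) ^ Nat.card φ.ker = 1 := pow_card_eq_one'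
  exact congrArg Subtype.val h1

theorem Cov.exists_inv (h : Cov m φ) (hc : Nat.card φ.ker = 3) {s : Perm (Fin 6)} (hs : s ∈ alternatingGroup (Fin 6))
    (h2 : s * s = 1) : ∃ g, φ g = s ∧ g * g = 1 := by
  obtain ⟨g, hg⟩ := h.surj hs
  have hk : φ (g * g) = 1 := by rw [map_mul, hg, h2]
  have h3 := Cov.pow_ker hk
  rw [hc] at h3
  refine ⟨g * (g * g), by rw [map_mul, hk, mul_one, hg], ?_⟩
  rw [pow_succ, pow_succ, pow_one] at h3
  calc g * (g * g) * (g * (g * g)) = g * g * (g * g) * (g * g) := by simp only [mul_assoc]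
    _ = 1 := h3

theorem Cov.inv_unique (h : Cov m φ) (hc : Nat.card φ.ker = 3) {a b : G} (hab : φ a = φ b) (ha : a * a = 1)
    (hb : b * b = 1) : a = b := by
  have hk : φ (a⁻¹ * b) = 1 := by rw [map_mul, map_inv, hab, inv_mul_cancel]
  have h3 := Cov.pow_ker hk
  rw [hc] at h3
  have hcen := h.central hk
  obtain ⟨k, hkk⟩ : ∃ k, k = a⁻¹ * b := ⟨_, rfl⟩
  rw [← hkk] at h3 hcen
  have e : b = a * k := by rw [hkk]; group
  have h4 : k * k = 1 := by
    rw [e] at hb
    calc k * k = (a * a)⁻¹ * (a * (a * k) * k) := by group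
      _ = (a * a)⁻¹ * (a * (k * a) * k) := by rw [hcen a]
      _ = (a * a)⁻¹ * (a * k * (a * k)) := by group
      _ = 1 := by rw [hb, ha]; group
  have h5 : k = 1 := by
    rw [pow_succ, pow_succ, pow_one, h4, one_mul] at h3
    exact h3
  rw [e, h5, mul_one]

theorem Cov.inv_conj (h : Cov m φ) (hc : Nat.card φ.ker = 3) {a b g : G} (ha : a * a = 1) (hb : b * b = 1)
    (hg : φ g * φ a * (φ g)⁻¹ = φ b) : g * a * g⁻¹ = b := by
  apply h.inv_unique hc _ _ hb
  · rw [map_mul, map_mul, map_inv, hg]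
  · calc g * a * g⁻¹ * (g * a * g⁻¹) = g * (a * a) * g⁻¹ := by group
      _ = 1 := by rw [ha]; group

theorem Cov.inv_comm (h : Cov m φ) (hc : Nat.card φ.ker = 3) {a g : G} (ha : a * a = 1)
    (hg : φ g * φ a = φ a * φ g) : g * a = a * g := by
  have h1 := h.inv_conj hc (g := g) ha ha (by rw [hg]; group)
  calc g * a = g * a * g⁻¹ * g := by group
    _ = a * g := by rw [h1]

/-! ### translates of a subspace -/

/-- the restrictions to a subspace of the elements of `G` span all linear maps -/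
theorem Cov.span_restrict (h : Cov m φ) (E : Submodule F (ι → F)) :
    Submodule.span F (Set.range fun g : G => (Matrix.toLin' (m g : Matrix ι ι F)).domRestrict E) = ⊤ := by
  have h1 : Submodule.span F (matrixSet m.range) = ⊤ := H920.span_eq_top h.irr
  let R : Matrix ι ι F →ₗ[F] (E →ₗ[F] (ι → F)) :=
    { toFun := fun M => (Matrix.toLin' M).domRestrict E
      map_add' := fun a b => by ext1 x; simp
      map_smul' := fun c a => by ext1 x; simp }
  have hR : LinearMap.range R = ⊤ := by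
    rw [LinearMap.range_eq_top]
    intro f
    obtain ⟨g, hg⟩ := LinearMap.exists_extend f
    refine ⟨LinearMap.toMatrix' g, ?_⟩
    change (Matrix.toLin' (LinearMap.toMatrix' g)).domRestrict E = f
    rw [Matrix.toLin'_toMatrix', ← hg]
    rfl
  have h2 : (Set.range fun g : G => (Matrix.toLin' (m g : Matrix ι ι F)).domRestrict E) = R '' matrixSet m.range := by
    ext x
    constructor
    · rintro ⟨g, rfl⟩
      exact ⟨_, ⟨m g, ⟨g, rfl⟩, rfl⟩, rfl⟩
    · rintro ⟨_, ⟨_, ⟨g, rfl⟩, rfl⟩, rfl⟩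
      exact ⟨g, rfl⟩
  rw [h2, Submodule.span_image, h1, Submodule.map_top, hR]

/-- **Lemma B.** If `Y` acts on the subspace `E` by a linear character then `dim E * n ≤ |G : Y|`. -/
theorem Cov.lemmaB [Finite G] (h : Cov m φ) (Y : Subgroup G) (χ : G → F) (E : Submodule F (ι → F))
    (hE : ∀ y ∈ Y, ∀ v ∈ E, (m y : Matrix ι ι F) *ᵥ v = χ y • v) :
    Module.finrank F E * Fintype.card ι ≤ Y.index := by
  classical
  have hfin : Fintype (G ⧸ Y) := Fintype.ofFinite _
  let f : G ⧸ Y → (E →ₗ[F] (ι → F)) := fun q => (Matrix.toLin' (m q.out : Matrix ι ι F)).domRestrict E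
  have h1 : Submodule.span F (Set.range f) = ⊤ := by
    rw [eq_top_iff, ← h.span_restrict E, Submodule.span_le]
    rintro _ ⟨g, rfl⟩
    obtain ⟨y, hy⟩ := QuotientGroup.mk_out_eq_mul Y g
    have h2 : (Matrix.toLin' (m g : Matrix ι ι F)).domRestrict E = χ (y : G)⁻¹ • f (g : G ⧸ Y) := by
      ext1 x
      have e1 : g = (g : G ⧸ Y).out * (y : G)⁻¹ := by rw [hy]; group
      change Matrix.toLin' (m g : Matrix ι ι F) (x : ι → F) =
        χ (y : G)⁻¹ • Matrix.toLin' (m (g : G ⧸ Y).out : Matrix ι ι F) (x : ι → F)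
      rw [Matrix.toLin'_apply, Matrix.toLin'_apply]
      conv_lhs => rw [e1]
      rw [map_mul, Units.val_mul, ← Matrix.mulVec_mulVec, hE _ (inv_mem y.2) x x.2, Matrix.mulVec_smul]
    change (Matrix.toLin' (m g : Matrix ι ι F)).domRestrict E ∈ _
    rw [h2]
    exact Submodule.smul_mem _ _ (Submodule.subset_span ⟨_, rfl⟩)
  have h2 : (Set.range f).finrank F ≤ Fintype.card (G ⧸ Y) := finrank_range_le_card f
  rw [Set.finrank, h1, finrank_top, Module.finrank_linearMap, Module.finrank_fintype_fun_eq_card] at h2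
  rwa [Subgroup.index, Nat.card_eq_fintype_card]

/-- **Lemma H'** (for any representation `m`). `v ≠ 0`, `y v = χ(y) v` on `Y`, and for every `g ∉ Y` some `y ∈ Y` with `g⁻¹ y g ∈ Y` and
`χ(g⁻¹ y g) ≠ χ(y)`: then `|G : Y| ≤ n`. -/
theorem lemmaH [Finite G] (Y : Subgroup G) (χ : G → F) {v : ι → F} (hv : v ≠ 0)
    (hcard : (Nat.card Y : F) ≠ 0)
    (hE : ∀ y ∈ Y, (m y : Matrix ι ι F) *ᵥ v = χ y • v)
    (hg : ∀ g, g ∉ Y → ∃ y ∈ Y, g⁻¹ * y * g ∈ Y ∧ χ y ≠ χ (g⁻¹ * y * g)) :
    Y.index ≤ Fintype.card ι := by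
  classical
  have hfin : Fintype (G ⧸ Y) := Fintype.ofFinite _
  have hfY : Fintype Y := Fintype.ofFinite _
  have hχ1 : ∀ y ∈ Y, χ y ≠ 0 := by
    intro y hy h0
    have h1 := hE y hy
    rw [h0, zero_smul] at h1
    apply hv
    have h2 := congrArg (fun w => ((m y)⁻¹ : GL ι F).1 *ᵥ w) h1
    simp only [Matrix.mulVec_mulVec, Matrix.mulVec_zero, ← Units.val_mul, inv_mul_cancel, Units.val_one,
      Matrix.one_mulVec] at h2
    exact h2
  have hχm : ∀ y ∈ Y, ∀ y' ∈ Y, χ (y * y') = χ y * χ y' := by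
    intro y hy y' hy'
    have h1 := hE _ (mul_mem hy hy')
    rw [map_mul, Units.val_mul, ← Matrix.mulVec_mulVec, hE y' hy', Matrix.mulVec_smul, hE y hy, smul_smul] at h1
    have h2 : (χ (y * y') - χ y' * χ y) • v = 0 := by rw [sub_smul, ← h1, sub_self]
    rw [mul_comm (χ y)]
    exact sub_eq_zero.1 ((smul_eq_zero.1 h2).resolve_right hv)
  -- the idempotent
  let e : (ι → F) → (ι → F) := fun w => ∑ y : Y, (χ (y : G))⁻¹ • ((m y : Matrix ι ι F) *ᵥ w)
  have hadd : ∀ w w', e (w + w') = e w + e w' := by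
    intro w w'
    simp only [e, Matrix.mulVec_add, smul_add, Finset.sum_add_distrib]
  have hsmul : ∀ (c : F) w, e (c • w) = c • e w := by
    intro c w
    simp only [e, Matrix.mulVec_smul, Finset.smul_sum, smul_comm c]
  let eL : (ι → F) →ₗ[F] (ι → F) := { toFun := e, map_add' := hadd, map_smul' := hsmul }
  have hev : e v = (Nat.card Y : F) • v := by
    simp only [e]
    rw [Finset.sum_congr rfl (fun y _ => by rw [hE y y.2, smul_smul, inv_mul_cancel₀ (hχ1 y y.2), one_smul]),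
      Finset.sum_const, Finset.card_univ, Nat.card_eq_fintype_card, Nat.cast_smul_eq_nsmul]
  have hey : ∀ y ∈ Y, ∀ w, e ((m y : Matrix ι ι F) *ᵥ w) = χ y • e w := by
    intro y hy w
    simp only [e]
    rw [Finset.smul_sum]
    refine Fintype.sum_equiv (Equiv.mulRight (⟨y, hy⟩ : Y)) _ _ fun z => ?_
    rw [Matrix.mulVec_mulVec, ← Units.val_mul, ← map_mul, smul_smul]
    change (χ (z : G))⁻¹ • (m (z * y) : Matrix ι ι F) *ᵥ w = (χ y * (χ (z * y : G))⁻¹) • (m (z * y : G) : Matrix ι ι F) *ᵥ w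
    rw [hχm z z.2 y hy, mul_inv, mul_left_comm, mul_inv_cancel₀ (hχ1 y hy), mul_one]
  have heg : ∀ g, g ∉ Y → e ((m g : Matrix ι ι F) *ᵥ v) = 0 := by
    intro g hgY
    obtain ⟨y, hy, hy', hne⟩ := hg g hgY
    have h1 := hey y hy ((m g : Matrix ι ι F) *ᵥ v)
    have h2 : (m y : Matrix ι ι F) *ᵥ ((m g : Matrix ι ι F) *ᵥ v) = χ (g⁻¹ * y * g) • ((m g : Matrix ι ι F) *ᵥ v) := by
      rw [← Matrix.mulVec_smul, ← hE _ hy', Matrix.mulVec_mulVec, Matrix.mulVec_mulVec, ← Units.val_mul, ← Units.val_mul,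
        ← map_mul, ← map_mul]
      congr 3
      group
    rw [h2, hsmul] at h1
    have h3 : (χ (g⁻¹ * y * g) - χ y) • e ((m g : Matrix ι ι F) *ᵥ v) = 0 := by rw [sub_smul, h1, sub_self]
    exact (smul_eq_zero.1 h3).resolve_left (sub_ne_zero.2 hne.symm)
  have hli : LinearIndependent F (fun q : G ⧸ Y => (m q.out : Matrix ι ι F) *ᵥ v) := by
    rw [Fintype.linearIndependent_iff]
    intro c hc q
    have h1 := congrArg (fun w => eL (((m q.out)⁻¹ : GL ι F).1 *ᵥ w)) hc
    simp only [Matrix.mulVec_zero, map_zero] at h1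
    rw [Matrix.mulVec_sum, map_sum, Finset.sum_eq_single q] at h1
    · rw [Matrix.mulVec_smul, map_smul, Matrix.mulVec_mulVec, ← Units.val_mul, inv_mul_cancel, Units.val_one,
        Matrix.one_mulVec] at h1
      change c q • e v = 0 at h1
      rw [hev, smul_smul] at h1
      exact (mul_eq_zero.1 ((smul_eq_zero.1 h1).resolve_right hv)).resolve_right hcard
    · intro q' _ hq'
      rw [Matrix.mulVec_smul, map_smul, Matrix.mulVec_mulVec, ← Units.val_mul, ← map_inv, ← map_mul]
      change c q' • e _ = 0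
      rw [heg, smul_zero]
      intro hmem
      apply hq'
      rw [← QuotientGroup.out_eq' q', ← QuotientGroup.out_eq' q]
      exact (QuotientGroup.eq.2 hmem).symm
    · intro hq; exact absurd (Finset.mem_univ _) hq
  have h1 := hli.fintype_card_le_finrank
  rwa [Module.finrank_fintype_fun_eq_card, ← Nat.card_eq_fintype_card] at h1

end Cfsg.Agent.H930.Six
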