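import Cfsg.Agent.H930.IdemCount
import Cfsg.Agent.H930.SixAut

/-!
# `6.A₆` has no absolutely irreducible representation of degree twelve in characteristic five (helper930)
-/

set_option autoImplicit false
set_option linter.unusedSectionVars false

namespace Cfsg.Agent.H930.Six

open Cfsg Cfsg.Geo Matrix Equiv Cfsg.Agent.H915.LD Cfsg.Agent.H930.Idem
open scoped commutatorElement

universe u v

variable {ι : Type} [Fintype ι] [DecidableEq ι] {F : Type u} [Field F] {G : Type v} [Group G]
  {m : G →* GL ι F} {φ : G →* Perm (Fin 6)}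

/-! ### the group algebra -/

theorem finite_ga [Finite F] [Finite G] : Finite (MonoidAlgebra F G) := by
  have h1 : Finite (G →₀ F) := Finite.of_equiv _ (Finsupp.equivFunOnFinite (α := G) (M := F)).symm
  exact Finite.of_equiv _ (MonoidAlgebra.coeffEquiv (R := F) (M := G)).symm

/-- left multiplication on a left ideal -/
noncomputable def lm (f : MonoidAlgebra F G) (g : G) : bi F 1 f →ₗ[F] bi F 1 f where
  toFun x := ⟨MonoidAlgebra.of F G g * x, one_mul _, by rw [mul_assoc, x.2.2]⟩
  map_add' x y := Subtype.ext (mul_add _ (x : MonoidAlgebra F G) y)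
  map_smul' c x := Subtype.ext (mul_smul_comm c _ (x : MonoidAlgebra F G))

theorem lm_apply (f : MonoidAlgebra F G) (g : G) (x : bi F 1 f) :
    ((lm f g x : bi F 1 f) : MonoidAlgebra F G) = MonoidAlgebra.of F G g * x := rfl

theorem lm_mul (f : MonoidAlgebra F G) (g h : G) : lm f g * lm f h = lm f (g * h) := by
  ext1 x
  apply Subtype.ext
  rw [Module.End.mul_apply, lm_apply, lm_apply, lm_apply, map_mul, mul_assoc]

theorem lm_one (f : MonoidAlgebra F G) : lm f 1 = 1 := by
  ext1 x
  apply Subtype.ext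
  rw [lm_apply, map_one, one_mul]
  rfl

/-- the dimension of a left ideal generated by an idempotent vanishes in `F` if the order of the group does -/
theorem finrank_cast [Finite F] [Finite G] (h0 : (Nat.card G : F) = 0) {f : MonoidAlgebra F G} (hf : f * f = f) :
    (Module.finrank F (bi F 1 f) : F) = 0 := by
  have := Fintype.ofFinite G
  have hfin := finite_ga (F := F) (G := G)
  let T : bi F 1 f →ₗ[F] bi F 1 f :=
    { toFun := fun x => (x : MonoidAlgebra F G).coeff 1 • ⟨f, one_mul _, hf⟩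
      map_add' := fun x y => by
        change ((x : MonoidAlgebra F G) + y).coeff 1 • _ = _
        rw [MonoidAlgebra.coeff_add, Finsupp.add_apply, add_smul]
      map_smul' := fun c x => by
        change (c • (x : MonoidAlgebra F G)).coeff 1 • _ = _
        rw [MonoidAlgebra.coeff_smul_apply, smul_assoc]
        rfl }
  have hsum : ∑ g : G, lm f g * T * lm f g⁻¹ = 1 := by
    ext1 x
    apply Subtype.ext
    rw [LinearMap.sum_apply, AddSubmonoidClass.coe_finsetSum]
    change ∑ g : G, MonoidAlgebra.of F G g * ((MonoidAlgebra.of F G g⁻¹ * (x : MonoidAlgebra F G)).coeff 1 • f) =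
      (x : MonoidAlgebra F G)
    have h1 : ∀ g : G, MonoidAlgebra.of F G g * ((MonoidAlgebra.of F G g⁻¹ * (x : MonoidAlgebra F G)).coeff 1 • f) =
        MonoidAlgebra.single g ((x : MonoidAlgebra F G).coeff g) * f := by
      intro g
      rw [MonoidAlgebra.of_apply, MonoidAlgebra.of_apply, MonoidAlgebra.coeff_single_mul_apply, one_mul, inv_inv,
        mul_one, mul_smul_comm, ← smul_mul_assoc, MonoidAlgebra.smul_single', mul_one]
    rw [Finset.sum_congr rfl fun g _ => h1 g, ← Finset.sum_mul]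
    have h2 : ∑ g : G, MonoidAlgebra.single g ((x : MonoidAlgebra F G).coeff g) = (x : MonoidAlgebra F G) := by
      conv_rhs => rw [← MonoidAlgebra.sum_coeff_single (x : MonoidAlgebra F G)]
      rw [Finsupp.sum_fintype]
      intro g
      exact MonoidAlgebra.single_zero g
    rw [h2]
    exact x.2.2
  have htr := congrArg (LinearMap.trace F (bi F 1 f)) hsum
  rw [map_sum, LinearMap.trace_one] at htr
  rw [← htr]
  have h3 : ∀ g : G, LinearMap.trace F (bi F 1 f) (lm f g * T * lm f g⁻¹) = LinearMap.trace F (bi F 1 f) T := by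
    intro g
    rw [mul_assoc, LinearMap.trace_mul_comm, mul_assoc, lm_mul, inv_mul_cancel, lm_one, mul_one]
  rw [Finset.sum_congr rfl fun g _ => h3 g, Finset.sum_const, Finset.card_univ, nsmul_eq_mul,
    ← Nat.card_eq_fintype_card, h0, zero_mul]

/-! ### the central idempotent -/

/-- the central idempotent of the representation -/
noncomputable def ce [Fintype G] [DecidableEq G] (m : G →* GL ι F) (φ : G →* Perm (Fin 6)) (i : ι) : MonoidAlgebra F G :=
  ((Nat.card φ.ker : ℕ) : F)⁻¹ • ∑ k ∈ Finset.univ.filter (fun k : G => φ k = 1),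
    MonoidAlgebra.single k (((m k : Matrix ι ι F) i i)⁻¹)

theorem Cov.scal' (h : Cov m φ) {k : G} (hk : φ k = 1) (i : ι) :
    (m k : Matrix ι ι F) = ((m k : Matrix ι ι F) i i) • (1 : Matrix ι ι F) ∧ (m k : Matrix ι ι F) i i ≠ 0 := by
  obtain ⟨c, hc⟩ := h.scal hk
  have h1 : (m k : Matrix ι ι F) i i = c := by rw [hc, Matrix.smul_apply, Matrix.one_apply_eq, smul_eq_mul, mul_one]
  rw [h1]
  exact ⟨hc, c.ne_zero⟩

theorem Cov.scal_mul (h : Cov m φ) {k k' : G} (hk : φ k = 1) (_hk' : φ k' = 1) (i : ι) :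
    (m (k * k') : Matrix ι ι F) i i = (m k : Matrix ι ι F) i i * (m k' : Matrix ι ι F) i i := by
  have h1 := (h.scal' hk i).1
  obtain ⟨c, hc⟩ : ∃ c, c = (m k : Matrix ι ι F) i i := ⟨_, rfl⟩
  rw [← hc] at h1 ⊢
  rw [map_mul, Units.val_mul, h1, Matrix.smul_mul, one_mul, Matrix.smul_apply, smul_eq_mul]

theorem Cov.of_ce [Fintype G] [DecidableEq G] (h : Cov m φ) (i : ι) {k : G} (hk : φ k = 1) :
    MonoidAlgebra.of F G k * ce m φ i = ((m k : Matrix ι ι F) i i) • ce m φ i := by
  have key : MonoidAlgebra.of F G k * ∑ k ∈ Finset.univ.filter (fun k : G => φ k = 1),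
      MonoidAlgebra.single k (((m k : Matrix ι ι F) i i)⁻¹) = ((m k : Matrix ι ι F) i i) •
        ∑ k ∈ Finset.univ.filter (fun k : G => φ k = 1), MonoidAlgebra.single k (((m k : Matrix ι ι F) i i)⁻¹) := by
    rw [Finset.mul_sum, Finset.smul_sum]
    refine Finset.sum_bij (fun g _ => k * g) ?_ ?_ ?_ ?_
    · intro g hg
      rw [Finset.mem_filter] at hg ⊢
      exact ⟨Finset.mem_univ _, by rw [map_mul, hk, hg.2, one_mul]⟩
    · intro a _ b _ hab
      exact mul_left_cancel hab
    · intro b hb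
      rw [Finset.mem_filter] at hb
      refine ⟨k⁻¹ * b, ?_, by group⟩
      rw [Finset.mem_filter]
      exact ⟨Finset.mem_univ _, by rw [map_mul, map_inv, hk, hb.2, inv_one, one_mul]⟩
    · intro g hg
      rw [Finset.mem_filter] at hg
      rw [MonoidAlgebra.of_apply, MonoidAlgebra.single_mul_single, one_mul, MonoidAlgebra.smul_single',
        h.scal_mul hk hg.2]
      congr 1
      have h1 := (h.scal' hk i).2
      have h2 := (h.scal' hg.2 i).2
      field_simp
  unfold ce
  rw [mul_smul_comm, key, smul_comm]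

theorem Cov.card_filter [Fintype G] [DecidableEq G] (φ : G →* Perm (Fin 6)) :
    (Finset.univ.filter (fun k : G => φ k = 1)).card = Nat.card φ.ker := by
  rw [Nat.card_eq_fintype_card, Fintype.card_subtype]
  congr 1
  ext x
  rw [Finset.mem_filter, Finset.mem_filter, MonoidHom.mem_ker]

theorem Cov.ce_idem [Fintype G] [DecidableEq G] (h : Cov m φ) (hc : ((Nat.card φ.ker : ℕ) : F) ≠ 0) (i : ι) :
    ce m φ i * ce m φ i = ce m φ i := by
  conv_lhs => unfold ce
  rw [smul_mul_assoc, Finset.sum_mul]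
  have h1 : ∀ k ∈ Finset.univ.filter (fun k : G => φ k = 1),
      MonoidAlgebra.single k (((m k : Matrix ι ι F) i i)⁻¹) * ce m φ i = ce m φ i := by
    intro k hk
    rw [Finset.mem_filter] at hk
    have e : MonoidAlgebra.single k (((m k : Matrix ι ι F) i i)⁻¹) =
        ((m k : Matrix ι ι F) i i)⁻¹ • MonoidAlgebra.of F G k := by
      rw [MonoidAlgebra.of_apply, MonoidAlgebra.smul_single', mul_one]
    rw [e, smul_mul_assoc, h.of_ce i hk.2, smul_smul, inv_mul_cancel₀ (h.scal' hk.2 i).2, one_smul]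
  have h2 := Finset.sum_congr rfl h1
  unfold ce at h2 ⊢
  rw [h2, Finset.sum_const, Cov.card_filter, ← Nat.cast_smul_eq_nsmul F, smul_smul, inv_mul_cancel₀ hc, one_smul]

theorem Cov.ce_cen [Fintype G] [DecidableEq G] (h : Cov m φ) (i : ι) (x : MonoidAlgebra F G) :
    ce m φ i * x = x * ce m φ i := by
  unfold ce
  rw [smul_mul_assoc, mul_smul_comm, Finset.sum_mul, Finset.mul_sum]
  congr 1
  refine Finset.sum_congr rfl fun k hk => ?_
  rw [Finset.mem_filter] at hk
  exact MonoidAlgebra.single_commute (fun g => h.central hk.2 g) (fun r => Commute.all _ r) x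

/-- the representation of the group algebra -/
noncomputable def gaRep (m : G →* GL ι F) : MonoidAlgebra F G →ₐ[F] Matrix ι ι F :=
  MonoidAlgebra.lift F (Matrix ι ι F) G ((Units.coeHom _).comp m)

theorem gaRep_of (g : G) : gaRep m (MonoidAlgebra.of F G g) = (m g : Matrix ι ι F) := by
  unfold gaRep
  rw [MonoidAlgebra.lift_of]
  rfl

theorem Cov.gaRep_surj (h : Cov m φ) : Function.Surjective (gaRep m) := by
  intro M
  have h1 : M ∈ Submodule.span F (matrixSet m.range) := by rw [H920.span_eq_top h.irr]; exact Submodule.mem_top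
  have h2 : Submodule.span F (matrixSet m.range) ≤ LinearMap.range (gaRep m).toLinearMap := by
    rw [Submodule.span_le]
    rintro _ ⟨_, ⟨g, rfl⟩, rfl⟩
    exact ⟨MonoidAlgebra.of F G g, gaRep_of g⟩
  obtain ⟨x, hx⟩ := h2 h1
  exact ⟨x, hx⟩

theorem Cov.gaRep_ce [Fintype G] [DecidableEq G] (h : Cov m φ) (hc : ((Nat.card φ.ker : ℕ) : F) ≠ 0) (i : ι) :
    gaRep m (ce m φ i) = 1 := by
  unfold ce
  rw [map_smul, map_sum]
  have h1 : ∀ k ∈ Finset.univ.filter (fun k : G => φ k = 1),
      gaRep m (MonoidAlgebra.single k (((m k : Matrix ι ι F) i i)⁻¹)) = 1 := by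
    intro k hk
    rw [Finset.mem_filter] at hk
    have e : MonoidAlgebra.single k (((m k : Matrix ι ι F) i i)⁻¹) =
        ((m k : Matrix ι ι F) i i)⁻¹ • MonoidAlgebra.of F G k := by
      rw [MonoidAlgebra.of_apply, MonoidAlgebra.smul_single', mul_one]
    obtain ⟨h2, h3⟩ := h.scal' hk.2 i
    obtain ⟨c, hcc⟩ : ∃ c, c = (m k : Matrix ι ι F) i i := ⟨_, rfl⟩
    rw [← hcc] at h2 h3 e ⊢
    rw [e, map_smul, gaRep_of, h2, smul_smul, inv_mul_cancel₀ h3, one_smul]
  rw [Finset.sum_congr rfl h1, Finset.sum_const, Cov.card_filter, ← Nat.cast_smul_eq_nsmul F, smul_smul,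
    inv_mul_cancel₀ hc, one_smul]

/-- the dimension of the block -/
theorem Cov.finrank_ce [Finite F] [Fintype G] [DecidableEq G] (h : Cov m φ) (i : ι) :
    Module.finrank F (bi F 1 (ce m φ i)) ≤ 360 := by
  have hfin := finite_ga (F := F) (G := G)
  have hs : ∀ a : alternatingGroup (Fin 6), ∃ g, φ g = a := fun a => h.surj a.2
  choose s hs using hs
  have hle : bi F 1 (ce m φ i) ≤ Submodule.span F (Set.range fun a : alternatingGroup (Fin 6) =>
      MonoidAlgebra.of F G (s a) * ce m φ i) := by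
    have key : ∀ x : MonoidAlgebra F G, x * ce m φ i ∈ Submodule.span F (Set.range fun a : alternatingGroup (Fin 6) =>
        MonoidAlgebra.of F G (s a) * ce m φ i) := by
      intro x
      induction x using MonoidAlgebra.induction_linear with
      | zero => rw [zero_mul]; exact Submodule.zero_mem _
      | add x y hx hy => rw [add_mul]; exact Submodule.add_mem _ hx hy
      | single g r =>
        have h1 : φ (g * (s ⟨φ g, h.sign g⟩)⁻¹) = 1 := by rw [map_mul, map_inv, hs, mul_inv_cancel]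
        obtain ⟨k, hk⟩ : ∃ k, k = g * (s ⟨φ g, h.sign g⟩)⁻¹ := ⟨_, rfl⟩
        rw [← hk] at h1
        have h2 : g = s ⟨φ g, h.sign g⟩ * k := by
          rw [← h.central h1, hk]; group
        have h3 : MonoidAlgebra.single g r * ce m φ i = (r * (m k : Matrix ι ι F) i i) •
            (MonoidAlgebra.of F G (s ⟨φ g, h.sign g⟩) * ce m φ i) := by
          have e : MonoidAlgebra.single g r = r • (MonoidAlgebra.of F G (s ⟨φ g, h.sign g⟩) * MonoidAlgebra.of F G k) := by
            rw [← map_mul, ← h2, MonoidAlgebra.of_apply, MonoidAlgebra.smul_single', mul_one]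
          rw [e, smul_mul_assoc, mul_assoc, h.of_ce i h1, mul_smul_comm, smul_smul]
        rw [h3]
        exact Submodule.smul_mem _ _ (Submodule.subset_span ⟨_, rfl⟩)
    rintro x ⟨-, hx⟩
    rw [← hx]
    exact key x
  refine (Submodule.finrank_mono hle).trans ?_
  refine (finrank_range_le_card _).trans ?_
  rw [← Nat.card_eq_fintype_card, card_alt6]

/-! ### divisibilities -/

theorem Cov.lm_ker [Fintype G] [DecidableEq G] (h : Cov m φ) (i : ι) {f : MonoidAlgebra F G}
    (hf : ce m φ i * f = f) {k : G} (hk : φ k = 1) : lm f k = ((m k : Matrix ι ι F) i i) • (1 : bi F 1 f →ₗ[F] bi F 1 f) := by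
  ext1 x
  apply Subtype.ext
  rw [lm_apply, LinearMap.smul_apply]
  change MonoidAlgebra.of F G k * (x : MonoidAlgebra F G) = ((m k : Matrix ι ι F) i i) • (x : MonoidAlgebra F G)
  have h1 : ce m φ i * (x : MonoidAlgebra F G) = x := by
    rw [h.ce_cen, ← x.2.2, mul_assoc, ← h.ce_cen, hf]
  rw [← h1, ← mul_assoc, h.of_ce i hk, smul_mul_assoc]

/-- a commutator scalar and the dimension of a left ideal -/
theorem Cov.pow_finrank [Finite F] [Fintype G] [DecidableEq G] (h : Cov m φ) (i : ι) {f : MonoidAlgebra F G}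
    (hf : ce m φ i * f = f) {a b k : G} (hk : φ k = 1) (hab : CR a b k) :
    ((m k : Matrix ι ι F) i i) ^ Module.finrank F (bi F 1 f) = 1 := by
  have hfin := finite_ga (F := F) (G := G)
  have h1 : lm f a * lm f b = ((m k : Matrix ι ι F) i i) • (lm f b * lm f a) := by
    rw [lm_mul, hab.eq, ← lm_mul, ← lm_mul, h.lm_ker i hf hk, smul_mul_assoc, one_mul]
  have h2 := congrArg LinearMap.det h1
  rw [LinearMap.det_smul, map_mul, map_mul, mul_comm (LinearMap.det (lm f b))] at h2
  have h3 : ∀ g : G, LinearMap.det (lm f g) ≠ 0 := by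
    intro g h0
    have h4 : LinearMap.det (lm f g * lm f g⁻¹) = 1 := by rw [lm_mul, mul_inv_cancel, lm_one, map_one]
    rw [map_mul, h0, zero_mul] at h4
    exact zero_ne_one h4
  have h5 := mul_ne_zero (h3 a) (h3 b)
  exact (mul_right_cancel₀ h5 (by rw [one_mul]; exact h2)).symm

theorem Cov.dvd_of_cr [Finite F] [Fintype G] [DecidableEq G] (h : Cov m φ) (i : ι) {f : MonoidAlgebra F G}
    (hf : ce m φ i * f = f) {r : ℕ} (hr : r.Prime) {a b k : G} (hk : φ k = 1) (hab : CR a b k) (hkr : k ^ r = 1)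
    (hk1 : k ≠ 1) : r ∣ Module.finrank F (bi F 1 f) := by
  have := Fact.mk hr
  have h1 := h.pow_finrank i hf hk hab
  have h2 : ((m k : Matrix ι ι F) i i) ^ r = 1 := h.scal_pow r hkr (h.scal' hk i).1
  have h3 : ((m k : Matrix ι ι F) i i) ≠ 1 := by
    intro h4
    have h5 := (h.scal' hk i).1
    rw [h4] at h5
    exact hk1 (h.eq_one_of_scal h5)
  rw [← orderOf_eq_prime h2 h3]
  exact orderOf_dvd_of_pow_eq_one h1

theorem Cov.exists_three [Finite G] (h : Cov m φ) (h3 : 3 ∣ Nat.card φ.ker) :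
    ∃ a b k : G, φ k = 1 ∧ CR a b k ∧ k ^ 3 = 1 ∧ k ≠ 1 := by
  obtain ⟨a, ha⟩ := h.surj (H890.B3.e6 : Cfsg.Agent.StdAlt.Six.A6).2
  obtain ⟨b, hb⟩ := h.surj (H890.B3.f6 : Cfsg.Agent.StdAlt.Six.A6).2
  have hc : φ a * φ b = φ b * φ a := by rw [ha, hb]; decide +kernel
  obtain ⟨k, hk, hab⟩ := h.cr_of hc
  refine ⟨a, b, k, hk, hab, ?_, ?_⟩
  · have ha3 : φ (a * a * a) = 1 := by rw [map_mul, map_mul, ha]; decide +kernel
    have h4 : CR (a * a * a) b (k * k * k) := (hab.mul_left hab).mul_left hab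
    have h5 : CR (a * a * a) b 1 := ⟨by rw [one_mul, h.central ha3], fun g => by rw [one_mul, mul_one]⟩
    rw [pow_succ, pow_two]
    exact h4.unique h5
  · rintro rfl
    have h7 := hab.eq
    rw [one_mul] at h7
    exact h.nc h3 ha hb h7

theorem Cov.exists_two [Finite G] (h : Cov m φ) (hc6 : Nat.card φ.ker = 6) :
    ∃ a b k : G, φ k = 1 ∧ CR a b k ∧ k ^ 2 = 1 ∧ k ≠ 1 := by
  obtain ⟨a, ha⟩ := h.surj (s := c[0, 1] * c[2, 3]) (Perm.mem_alternatingGroup.2 (by decide))
  obtain ⟨b, hb⟩ := h.surj (s := c[0, 2] * c[1, 3]) (Perm.mem_alternatingGroup.2 (by decide))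
  have hc : φ a * φ b = φ b * φ a := by rw [ha, hb]; decide +kernel
  obtain ⟨k, hk, hab⟩ := h.cr_of hc
  refine ⟨a, b, k, hk, hab, ?_, ?_⟩
  · have ha3 : φ (a * a) = 1 := by rw [map_mul, ha]; decide +kernel
    have h4 : CR (a * a) b (k * k) := hab.mul_left hab
    have h5 : CR (a * a) b 1 := ⟨by rw [one_mul, h.central ha3], fun g => by rw [one_mul, mul_one]⟩
    rw [pow_two]
    exact h4.unique h5
  · rintro rfl
    have h7 := hab.eq
    rw [one_mul] at h7
    exact h.nc_two hc6 (by rw [ha]; decide) (by rw [ha]; decide) (by rw [hb]; decide) (by rw [hb]; decide)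
      (by rw [ha, hb]; decide) h7

theorem Cov.card_G (h : Cov m φ) : Nat.card G = Nat.card φ.ker * 360 := by
  have h1 := φ.ker.card_mul_index
  have h2 := h.index_comap ⊥
  rw [Subgroup.relIndex_bot_left, card_alt6] at h2
  have h3 : (⊥ : Subgroup (Perm (Fin 6))).comap φ = φ.ker := rfl
  rw [← h1, ← h3, h2]

/-- **No absolutely irreducible representation of degree twelve of `6.A₆` in characteristic five.** -/
theorem no_six_five [Finite F] [Finite G] (h : Cov m φ) [CharP F 5] (hc6 : Nat.card φ.ker = 6)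
    (hn : Fintype.card ι = 12) : False := by
  classical
  have := Fintype.ofFinite G
  have hfin := finite_ga (F := F) (G := G)
  have hne := h.nonempty
  obtain ⟨i⟩ := h.nonempty
  have h6 : ((Nat.card φ.ker : ℕ) : F) ≠ 0 := by
    rw [hc6]
    intro h0
    have h1 := (CharP.cast_eq_zero_iff F 5 6).1 h0
    omega
  have h0 : (Nat.card G : F) = 0 := by
    rw [h.card_G, hc6, CharP.cast_eq_zero_iff F 5]
    norm_num
  obtain ⟨a, b, k, hk, hab, hk3, hk1⟩ := h.exists_three (by rw [hc6]; norm_num)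
  obtain ⟨a', b', k', hk', hab', hk2', hk1'⟩ := h.exists_two hc6
  have H : Hyp (gaRep m) (ce m φ i) 30 := by
    refine ⟨h.gaRep_surj, h.ce_idem h6 i, h.gaRep_ce h6 i, h.ce_cen i, ?_, ?_⟩
    · intro f hf hef
      have h5 : 5 ∣ Module.finrank F (bi F 1 f) := (CharP.cast_eq_zero_iff F 5 _).1 (finrank_cast h0 hf)
      have h3 := h.dvd_of_cr i hef Nat.prime_three hk hab hk3 hk1
      have h2 := h.dvd_of_cr i hef Nat.prime_two hk' hab' hk2' hk1'
      omega
    · rw [hn]
      exact h.finrank_ce i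
  have h1 := H.dvd_card
  rw [hn] at h1
  omega

end Cfsg.Agent.H930.Six
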