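import Cfsg.Agent.H930.SixDec
import Cfsg.Agent.H918.UProper

/-!
# The kill of `6.A₆` in `SL₁₂(q)` and `SU₁₂(q)`, `p ≥ 7` (helper930)

* `ortho` : the planes are pairwise orthogonal to the plane `5`;
* `six_SL`, `six_SU`.
-/

set_option autoImplicit false
set_option linter.unusedSectionVars false

namespace Cfsg.Agent.H930.Six

open Cfsg Cfsg.Geo Matrix Equiv Cfsg.Agent.H915.LD
open Cfsg.Agent.LieClassical.HermBasic
open scoped commutatorElement

universe u v

variable {F : Type u} [Field F] [Fintype F]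

/-! ### permutations -/

def tj (j : Fin 6) : Perm (Fin 6) := swap 0 j * c[5, 0, 1] * swap 0 j
def sj (j : Fin 6) : Perm (Fin 6) := swap 0 j * c[2, 3, 4] * swap 0 j
def vj (j : Fin 6) : Perm (Fin 6) := swap 0 j * (c[1, 2] * c[3, 4]) * swap 0 j
def wj (j : Fin 6) : Perm (Fin 6) := swap 0 j * (c[1, 3] * c[2, 4]) * swap 0 j
def σj (j : Fin 6) : Perm (Fin 6) := c[0, 4, 2] * c[1, 5, 3] * swap 0 j

set_option maxRecDepth 100000 in
theorem j_facts : ∀ j : Fin 6, j ≠ 5 → (Perm.sign (tj j) = 1 ∧ tj j 5 = j) ∧ (Perm.sign (sj j) = 1 ∧ sj j 5 = 5) ∧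
    (Perm.sign (vj j) = 1 ∧ vj j 5 = 5) ∧ (Perm.sign (wj j) = 1 ∧ wj j 5 = 5) ∧ vj j j = j ∧ wj j j = j ∧
    σj j * sj j * (σj j)⁻¹ = c[0, 1, 2] ∧ σj j * tj j * (σj j)⁻¹ = c[3, 4, 5] ∧ sj j * tj j = tj j * sj j ∧
    sj j ^ 3 = 1 ∧ vj j * vj j = 1 ∧ wj j * wj j = 1 ∧ vj j ≠ 1 ∧ wj j ≠ 1 ∧ vj j ≠ wj j ∧
    vj j * wj j = wj j * vj j := by decide +kernel

/-! ### two by two matrices -/

/-- the pairing matrix -/
def pm (q : ℕ) {n : ℕ} (u w : Fin 2 → Fin n → F) : Matrix (Fin 2) (Fin 2) F :=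
  Matrix.of fun a b => hermForm n F q (u a) (w b)

theorem pair_inv {n q : ℕ} (hF : Fintype.card F = q ^ 2) {l : GL (Fin n) F} (hl : l ∈ GU n F q)
    {A B : Matrix (Fin 2) (Fin 2) F} {u w : Fin 2 → Fin n → F}
    (hu : ∀ a, (l : Matrix (Fin n) (Fin n) F) *ᵥ u a = ∑ c, A c a • u c)
    (hw : ∀ a, (l : Matrix (Fin n) (Fin n) F) *ᵥ w a = ∑ c, B c a • w c) :
    Aᵀ * pm q u w * B.map (conj hF) = pm q u w := by
  ext a b
  have h1 := H918.mem_GU.1 hl (u a) (w b)
  rw [hu, hw, herm_sum_left] at h1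
  simp only [herm_sum_right hF, herm_smul_left, herm_smul_right] at h1
  rw [Matrix.mul_apply]
  simp only [Matrix.mul_apply, Matrix.transpose_apply, Matrix.map_apply, LieClassical.HermBasic.conj_apply, pm,
    Matrix.of_apply] at h1 ⊢
  rw [← h1]
  simp only [Fin.sum_univ_two]
  ring

/-- two anticommuting invariances of a singular matrix -/
theorem eq_zero_of_inv (h2 : (2 : F) ≠ 0) {M A₁ B₁ A₂ B₂ : Matrix (Fin 2) (Fin 2) F} (hM : M.det = 0)
    (hB₁ : B₁.det ≠ 0) (hB₂ : B₂.det ≠ 0) (h₁ : A₁ᵀ * M * B₁ = M) (h₂ : A₂ᵀ * M * B₂ = M) (hA₁ : A₁.det ≠ 0)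
    (hA₂ : A₂.det ≠ 0) (hanti : A₁ * A₂ = -(A₂ * A₁)) : M = 0 := by
  by_contra hM0
  obtain ⟨v, hv0, hv⟩ := Matrix.exists_vecMul_eq_zero_iff.2 hM
  have key : ∀ {A B : Matrix (Fin 2) (Fin 2) F}, B.det ≠ 0 → Aᵀ * M * B = M → A.det ≠ 0 →
      ∃ c : F, c ≠ 0 ∧ A *ᵥ v = c • v := by
    intro A B hB hA hAd
    have h3 : (A *ᵥ v) ᵥ* M = 0 := by
      apply Matrix.eq_zero_of_vecMul_eq_zero hB
      rw [← Matrix.vecMul_transpose, Matrix.vecMul_vecMul, Matrix.vecMul_vecMul, ← Matrix.mul_assoc, hA, hv]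
    obtain ⟨w, hw⟩ : ∃ w, w = A *ᵥ v := ⟨_, rfl⟩
    rw [← hw] at h3 ⊢
    have h4 : (Matrix.of ![v, w]).det = 0 := by
      by_contra h5
      apply hM0
      have h6 : Matrix.of ![v, w] * M = 0 := by
        ext i j
        fin_cases i
        · exact congrFun hv j
        · exact congrFun h3 j
      have h7 : (Matrix.of ![v, w])⁻¹ * (Matrix.of ![v, w] * M) = M := by
        rw [← Matrix.mul_assoc, Matrix.nonsing_inv_mul _ (isUnit_iff_ne_zero.2 h5), one_mul]
      rw [← h7, h6, mul_zero]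
    rw [Matrix.det_fin_two] at h4
    have h4' : v 0 * w 1 - v 1 * w 0 = 0 := h4
    have hw0 : w ≠ 0 := by
      intro h5
      exact hv0 (Matrix.eq_zero_of_mulVec_eq_zero hAd (by rw [← hw, h5]))
    have hc : ∃ c : F, w = c • v := by
      by_cases h5 : v 0 = 0
      · have h6 : v 1 ≠ 0 := by
          intro h7
          apply hv0
          ext i
          fin_cases i
          · exact h5
          · exact h7
        refine ⟨w 1 / v 1, ?_⟩
        rw [h5, zero_mul, zero_sub, neg_eq_zero] at h4'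
        have h8 : w 0 = 0 := (mul_eq_zero.1 h4').resolve_left h6
        ext i
        fin_cases i
        · change w 0 = w 1 / v 1 * v 0
          rw [h5, h8, mul_zero]
        · change w 1 = w 1 / v 1 * v 1
          field_simp
      · refine ⟨w 0 / v 0, ?_⟩
        ext i
        fin_cases i
        · change w 0 = w 0 / v 0 * v 0
          field_simp
        · change w 1 = w 0 / v 0 * v 1
          field_simp
          linear_combination h4'
    obtain ⟨c, hc⟩ := hc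
    refine ⟨c, ?_, hc⟩
    rintro rfl
    exact hw0 (by rw [hc, zero_smul])
  obtain ⟨c₁, hc₁, e₁⟩ := key hB₁ h₁ hA₁
  obtain ⟨c₂, hc₂, e₂⟩ := key hB₂ h₂ hA₂
  have h3 : (A₁ * A₂) *ᵥ v = (c₂ * c₁) • v := by
    rw [← Matrix.mulVec_mulVec, e₂, Matrix.mulVec_smul, e₁, smul_smul]
  have h4 : (A₂ * A₁) *ᵥ v = (c₁ * c₂) • v := by
    rw [← Matrix.mulVec_mulVec, e₁, Matrix.mulVec_smul, e₂, smul_smul]
  rw [hanti, Matrix.neg_mulVec, h4, ← neg_smul, ← sub_eq_zero, ← sub_smul, smul_eq_zero] at h3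
  rcases h3 with h3 | h3
  · have h5 : 2 * (c₁ * c₂) = 0 := by linear_combination -h3
    rcases mul_eq_zero.1 h5 with h6 | h6
    · exact h2 h6
    · exact (mul_ne_zero hc₁ hc₂) h6
  · exact hv0 h3

/-! ### orthogonality -/

variable {n : ℕ} {P : Subgroup (GL (Fin n) F)} {φ : P →* Perm (Fin 6)} {θ : S5 →* P} {ρ : S5 →* GL (Fin 2) F}
  {T : Matrix (Fin n) (Fin 2) F} {gs : Fin 6 → P}

/-- the columns -/
def cl (T : Matrix (Fin n) (Fin 2) F) (a : Fin 2) : Fin n → F := fun y => T y a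

theorem mulVec_cl {A : Matrix (Fin n) (Fin n) F} {R : Matrix (Fin 2) (Fin 2) F} (hR : A * T = T * R) (a : Fin 2) :
    A *ᵥ cl T a = ∑ c, R c a • cl T c := by
  unfold cl
  rw [← mul_col, hR, col_mul]

/-- the point stabiliser acts on the plane as a scalar times `ρ(y)` -/
theorem stab_form (h : Cov P.subtype φ) (hθ : Th θ φ)
    (hT : ∀ x, (P.subtype (θ x) : Matrix (Fin n) (Fin n) F) * T = T * (ρ x).1) {l : P} (hl : φ l 5 = 5) :
    ∃ (c : Fˣ) (y : S5), (P.subtype l : Matrix (Fin n) (Fin n) F) * T = T * ((c : F) • (ρ y).1) := by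
  obtain ⟨y, hy⟩ := hθ.surj (φ l) ⟨Perm.mem_alternatingGroup.1 (h.sign l), hl⟩
  have hk : φ (l * (θ y)⁻¹) = 1 := by rw [map_mul, map_inv, hy, mul_inv_cancel]
  obtain ⟨c, hc⟩ := h.scal hk
  refine ⟨c, y, ?_⟩
  have e : (P.subtype l : Matrix (Fin n) (Fin n) F) = (c : F) • (P.subtype (θ y) : Matrix (Fin n) (Fin n) F) := by
    have e1 : l = l * (θ y)⁻¹ * θ y := by group
    conv_lhs => rw [e1, map_mul]
    rw [Units.val_mul, hc, Matrix.smul_mul, one_mul]
  rw [e, Matrix.smul_mul, hT, Matrix.mul_smul]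

theorem mul_gcl {g l : P} {k : P} (hk : l * g = g * k) {R : Matrix (Fin 2) (Fin 2) F}
    (hR : (P.subtype k : Matrix (Fin n) (Fin n) F) * T = T * R) (a : Fin 2) :
    (P.subtype l : Matrix (Fin n) (Fin n) F) *ᵥ ((P.subtype g : Matrix (Fin n) (Fin n) F) *ᵥ cl T a) =
      ∑ c, R c a • ((P.subtype g : Matrix (Fin n) (Fin n) F) *ᵥ cl T c) := by
  rw [Matrix.mulVec_mulVec, ← Units.val_mul, ← map_mul, hk, map_mul, Units.val_mul, ← Matrix.mulVec_mulVec,
    mulVec_cl hR, Matrix.mulVec_sum]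
  exact Finset.sum_congr rfl fun c _ => by rw [Matrix.mulVec_smul]

/-- **The planes are orthogonal to the plane `5`.** -/
theorem ortho [Finite P] {q : ℕ} (hF : Fintype.card F = q ^ 2) (hP : P ≤ GU n F q) (h : Cov P.subtype φ)
    (hc6 : Nat.card φ.ker = 6) (hθ : Th θ φ) (h2 : (2 : F) ≠ 0) (hρ : Function.Injective ρ)
    (hT : ∀ x, (P.subtype (θ x) : Matrix (Fin n) (Fin n) F) * T = T * (ρ x).1)
    (hFr : Fr6 (RingHom.id F) P.subtype φ T gs) {j : Fin 6} (hj : j ≠ 5) (a b : Fin 2) :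
    hermForm n F q (cl T a) (bv (RingHom.id F) P.subtype T gs (j, b)) = 0 := by
  obtain ⟨⟨t1, t2⟩, hs, hv, hw, hvj, hwj, hσs, hσt, hst, hs3, hvv, hww, hv1, hw1, hvw, hvwc⟩ := j_facts j hj
  obtain ⟨x, hx⟩ := hθ.surj _ (mem_st5.2 hs)
  obtain ⟨g, hg⟩ := h.surj (Perm.mem_alternatingGroup.2 t1)
  obtain ⟨u₁, hu₁⟩ := hθ.surj _ (mem_st5.2 hv)
  obtain ⟨u₂, hu₂⟩ := hθ.surj _ (mem_st5.2 hw)
  -- the commutator of `θ x` and `g`
  have hcomm : φ (θ x) * φ g = φ g * φ (θ x) := by rw [hx, hg, hst]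
  obtain ⟨k, hk, hCR⟩ := h.cr_of hcomm
  obtain ⟨ω, hω⟩ := h.scal hk
  have hk1 : k ≠ 1 := by
    rintro rfl
    have h3 := hCR.eq
    rw [one_mul] at h3
    refine (h.conj (σj j)).nc (by rw [ker_conj, hc6]; norm_num) (x := θ x) (y := g) ?_ ?_ h3
    · change σj j * φ (θ x) * (σj j)⁻¹ = _
      rw [hx, hσs]
    · change σj j * φ g * (σj j)⁻¹ = _
      rw [hg, hσt]
  have hk3 : k ^ 3 = 1 := by
    have h3 : CR (θ x * θ x * θ x) g (k * k * k) := (hCR.mul_left hCR).mul_left hCR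
    have h4 : φ (θ x * θ x * θ x) = 1 := by
      rw [map_mul, map_mul, hx, ← pow_two, ← pow_succ, hs3]
    have h5 : CR (θ x * θ x * θ x) g 1 := ⟨by rw [one_mul, h.central h4], fun g => by rw [one_mul, mul_one]⟩
    rw [pow_succ, pow_two]
    exact h3.unique h5
  have hω3 : (ω : F) ^ 3 = 1 := h.scal_pow 3 hk3 hω
  have hω1 : (ω : F) ≠ 1 := by
    intro h3
    rw [h3] at hω
    exact hk1 (h.eq_one_of_scal hω)
  -- the pairing matrix
  obtain ⟨w, hw'⟩ : ∃ w : Fin 2 → Fin n → F, w = fun b => (P.subtype g : Matrix (Fin n) (Fin n) F) *ᵥ cl T b :=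
    ⟨_, rfl⟩
  have hinv : ∀ (l : P) (A B : Matrix (Fin 2) (Fin 2) F) (l' : P), l * g = g * l' →
      (P.subtype l : Matrix (Fin n) (Fin n) F) * T = T * A → (P.subtype l' : Matrix (Fin n) (Fin n) F) * T = T * B →
      Aᵀ * pm q (cl T) w * B.map (LieClassical.HermBasic.conj hF) = pm q (cl T) w := by
    intro l A B l' hl hA hB
    refine pair_inv hF (l := P.subtype l) (hP l.2) (mulVec_cl hA) ?_
    intro a
    rw [hw']
    exact mul_gcl hl hB a
  have hdetc : ∀ B : Matrix (Fin 2) (Fin 2) F, (B.map (LieClassical.HermBasic.conj hF)).det = B.det ^ q := by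
    intro B
    have h3 := RingHom.map_det (LieClassical.HermBasic.conj hF).toRingHom B
    exact h3.symm
  -- the pairing matrix is singular
  have hsing : (pm q (cl T) w).det = 0 := by
    have h3 : (P.subtype (k * θ x) : Matrix (Fin n) (Fin n) F) * T = T * ((ω : F) • (ρ x).1) := by
      rw [map_mul, Units.val_mul, hω, Matrix.smul_mul, one_mul, Matrix.smul_mul, hT, Matrix.mul_smul]
    have h4 := hinv (θ x) (ρ x).1 ((ω : F) • (ρ x).1) (k * θ x) (by
      rw [hCR.eq, ← mul_assoc, ← mul_assoc, hCR.cen]) (hT x) h3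
    have h5 := congrArg Matrix.det h4
    rw [Matrix.det_mul, Matrix.det_mul, Matrix.det_transpose, det_one, one_mul, hdetc, Matrix.det_smul, det_one,
      mul_one, Fintype.card_fin] at h5
    by_contra hne
    have h6 : ((ω : F) ^ 2) ^ q = 1 ^ q := by
      rw [one_pow]
      exact mul_left_cancel₀ hne (by rw [h5, mul_one])
    rw [pow_q_inj hF] at h6
    apply hω1
    calc (ω : F) = ω ^ 3 := by rw [pow_succ, h6, one_mul]
      _ = 1 := hω3
  -- anticommuting elements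
  have hinv2 : ∀ (u : S5) (s : Perm (Fin 6)), φ (θ u) = s → s j = j → ∃ B : Matrix (Fin 2) (Fin 2) F,
      B.det ≠ 0 ∧ (ρ u).1ᵀ * pm q (cl T) w * B = pm q (cl T) w := by
    intro u s hu hsj
    have h3 : φ (g⁻¹ * (θ u * g)) 5 = 5 := by
      rw [map_mul, map_inv, map_mul, hu, hg, Perm.mul_apply, Perm.mul_apply, t2, hsj, Perm.inv_eq_iff_eq, t2]
    obtain ⟨c, y, hy⟩ := stab_form h hθ hT h3
    refine ⟨_, ?_, hinv (θ u) (ρ u).1 _ _ (by group) (hT u) hy⟩
    rw [hdetc, Matrix.det_smul, det_one, mul_one]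
    exact pow_ne_zero _ (pow_ne_zero _ c.ne_zero)
  obtain ⟨B₁, hB₁, e₁⟩ := hinv2 u₁ _ hu₁ hvj
  obtain ⟨B₂, hB₂, e₂⟩ := hinv2 u₂ _ hu₂ hwj
  have hanti : u₁ * u₂ = -1 * (u₂ * u₁) := by
    have h3 : φ (θ (u₁ * u₂ * (u₂ * u₁)⁻¹)) = 1 := by
      rw [map_mul, map_mul, map_mul, map_mul, map_inv, map_inv, map_mul, map_mul, hu₁, hu₂, hvwc, mul_inv_cancel]
    rcases (hθ.ker _).1 h3 with h4 | h4
    · exfalso
      rw [mul_inv_eq_one] at h4
      exact h.nc_two hc6 (x := θ u₁) (y := θ u₂) (by rw [hu₁, hvv]) (by rw [hu₁]; exact hv1) (by rw [hu₂, hww])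
        (by rw [hu₂]; exact hw1) (by rw [hu₁, hu₂]; exact hvw) (by rw [← map_mul, ← map_mul, h4])
    · rw [← h4]; group
  have hM : pm q (cl T) w = 0 := by
    refine eq_zero_of_inv h2 hsing hB₁ hB₂ e₁ e₂ (by rw [det_one]; exact one_ne_zero)
      (by rw [det_one]; exact one_ne_zero) ?_
    rw [← coe_mul', hanti, neg_one_mul, rho_neg h2 hρ, coe_mul']
  -- conclusion
  have h3 : φ (g⁻¹ * gs j) 5 = 5 := by
    rw [map_mul, map_inv, Perm.mul_apply, hFr.pt, hg, Perm.inv_eq_iff_eq, t2]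
  obtain ⟨c, y, hy⟩ := stab_form h hθ hT h3
  have h4 : bv (RingHom.id F) P.subtype T gs (j, b) = ∑ d, ((c : F) • (ρ y).1) d b • w d := by
    have h5 : bv (RingHom.id F) P.subtype T gs (j, b) = (P.subtype (gs j) : Matrix (Fin n) (Fin n) F) *ᵥ cl T b := rfl
    have e' : gs j = g * (g⁻¹ * gs j) := by group
    rw [h5, e', map_mul, Units.val_mul, ← Matrix.mulVec_mulVec, mulVec_cl hy, Matrix.mulVec_sum, hw']
    exact Finset.sum_congr rfl fun c _ => by rw [Matrix.mulVec_smul]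
  rw [h4, herm_sum_right hF]
  apply Finset.sum_eq_zero
  intro d _
  have h5 : hermForm n F q (cl T a) (w d) = 0 := congrFun (congrFun hM a) d
  rw [herm_smul_right, h5, mul_zero]

/-- isometry on a spanning set -/
theorem isom_of_span {q : ℕ} (hF : Fintype.card F = q ^ 2) {t : GL (Fin n) F} {S : Set (Fin n → F)}
    (hS : Submodule.span F S = ⊤) (h : ∀ u ∈ S, ∀ v ∈ S,
      hermForm n F q ((t : Matrix (Fin n) (Fin n) F) *ᵥ u) ((t : Matrix (Fin n) (Fin n) F) *ᵥ v) = hermForm n F q u v) :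
    t ∈ GU n F q := by
  rw [H918.mem_GU]
  have h1 : ∀ u ∈ S, ∀ v, hermForm n F q ((t : Matrix (Fin n) (Fin n) F) *ᵥ u)
      ((t : Matrix (Fin n) (Fin n) F) *ᵥ v) = hermForm n F q u v := by
    intro u hu v
    have hv : v ∈ Submodule.span F S := by rw [hS]; exact Submodule.mem_top
    induction hv using Submodule.span_induction with
    | mem x hx => exact h u hu x hx
    | zero => rw [Matrix.mulVec_zero, herm_zero_right hF, herm_zero_right hF]
    | add x y _ _ hx hy => rw [Matrix.mulVec_add, herm_add_right hF, herm_add_right hF, hx, hy]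
    | smul c x _ hx => rw [Matrix.mulVec_smul, herm_smul_right, herm_smul_right, hx]
  intro u v
  have hu : u ∈ Submodule.span F S := by rw [hS]; exact Submodule.mem_top
  induction hu using Submodule.span_induction with
  | mem x hx => exact h1 x hx v
  | zero => rw [Matrix.mulVec_zero, herm_zero_left, herm_zero_left]
  | add x y _ _ hx hy => rw [Matrix.mulVec_add, herm_add_left, herm_add_left, hx, hy]
  | smul c x _ hx => rw [Matrix.mulVec_smul, herm_smul_left, herm_smul_left, hx]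

/-- **No maximal subgroup of `SL₁₂(q)` with core `6.A₆`, `p ≥ 7`.** -/
theorem six_SL {H P : Subgroup (GL (Fin 12) F)} (hc : IsResidualCore H P)
    (hH : IsMaximalIn (specialLinear (Fin 12) F) H) (e : Soc P ≃* alternatingGroup (Fin 6))
    (hc6 : Nat.card ((scalars (Fin 12) F).subgroupOf P) = 6) (p : ℕ) [hp : Fact p.Prime] [CharP F p] (hp7 : 7 ≤ p) :
    False := by
  have hn : Fintype.card (Fin 12) = 12 := Fintype.card_fin 12
  have hle : ∀ g ∈ H, ∃ x ∈ P, x⁻¹ * g ∈ scalars (Fin 12) F := fun g hg => le_mul hc e hc6 hn p hp7 hg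
  have hcov := exists_cov (core_of_residual hc) e
  rw [← ker_toPerm e] at hc6
  obtain ⟨θ, hθ⟩ := hcov.exists_Th hc6
  obtain ⟨ρ, T, hρ, hT0, hT⟩ := hcov.exists_W hc6 hn p hp7 hθ
  obtain ⟨gs, hFr⟩ := hcov.exists_fr6 hn hθ (RingHom.id F) hT0 hT
  obtain ⟨t, ht, h5, hi⟩ := hFr.exists_t hcov (det_one ρ u5)
  have h2 : ∃ δ : Fˣ, δ ≠ 1 := by
    have h2 : (2 : F) ≠ 0 := by
      intro h0
      have h1 : p ∣ 2 := (CharP.cast_eq_zero_iff F p 2).1 (by exact_mod_cast h0)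
      have := Nat.le_of_dvd (by norm_num) h1
      omega
    refine ⟨-1, fun h1 => h2 ?_⟩
    have h3 := congrArg Units.val h1
    rw [Units.val_neg, Units.val_one] at h3
    linear_combination -h3
  refine kill hH hcov hFr hle ?_ (R := (ρ u5).1) ?_ ht h5 hi
  · intro hK
    have h1 := (H871.decomp_maximal_two (hFr.isMDec hcov) le_rfl (Or.inr (Or.inr ⟨by norm_num, h2⟩))).1
    rw [inf_eq_right.2 hK] at h1
    exact lt_irrefl _ h1
  · intro h1
    have h3 : ρ u5 = 1 := Units.ext h1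
    exact u5_facts.2.1 (hρ (h3.trans (map_one ρ).symm))

/-- **No maximal subgroup of `SU₁₂(q)` with core `6.A₆`, `p ≥ 7`.** -/
theorem six_SU {q : ℕ} (hF : Fintype.card F = q ^ 2) {H P : Subgroup (GL (Fin 12) F)} (hc : IsResidualCore H P)
    (hH : IsMaximalIn (GU 12 F q ⊓ specialLinear (Fin 12) F) H) (e : Soc P ≃* alternatingGroup (Fin 6))
    (hc6 : Nat.card ((scalars (Fin 12) F).subgroupOf P) = 6) (p : ℕ) [hp : Fact p.Prime] [CharP F p] (hp7 : 7 ≤ p) :
    False := by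
  have hn : Fintype.card (Fin 12) = 12 := Fintype.card_fin 12
  have hle : ∀ g ∈ H, ∃ x ∈ P, x⁻¹ * g ∈ scalars (Fin 12) F := fun g hg => le_mul hc e hc6 hn p hp7 hg
  have hcov := exists_cov (core_of_residual hc) e
  rw [← ker_toPerm e] at hc6
  obtain ⟨θ, hθ⟩ := hcov.exists_Th hc6
  obtain ⟨ρ, T, hρ, hT0, hT⟩ := hcov.exists_W hc6 hn p hp7 hθ
  obtain ⟨gs, hFr⟩ := hcov.exists_fr6 hn hθ (RingHom.id F) hT0 hT
  obtain ⟨t, ht, h5, hi⟩ := hFr.exists_t hcov (det_one ρ u5)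
  have h2 : (2 : F) ≠ 0 := by
    intro h0
    have h1 : p ∣ 2 := (CharP.cast_eq_zero_iff F p 2).1 (by exact_mod_cast h0)
    have := Nat.le_of_dvd (by norm_num) h1
    omega
  have hPU : P ≤ GU 12 F q := fun x hx => (hH.1.le (hc.le hx)).1
  have hort : ∀ {j : Fin 6}, j ≠ 5 → ∀ a b, hermForm 12 F q (bv (RingHom.id F) P.subtype T gs (5, a))
      (bv (RingHom.id F) P.subtype T gs (j, b)) = 0 := by
    intro j hj a b
    have h3 := ortho hF hPU hcov hc6 hθ h2 hρ hT hFr hj a b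
    have h4 : bv (RingHom.id F) P.subtype T gs (5, a) = cl T a := by
      simp only [bv]
      rw [hFr.one, map_one, Matrix.one_mulVec]
      rfl
    rw [h4]
    exact h3
  have htU : t ∈ GU 12 F q := by
    apply isom_of_span hF (hFr.span hcov)
    have h5' : ∀ a, (t : Matrix (Fin 12) (Fin 12) F) *ᵥ bv (RingHom.id F) P.subtype T gs (5, a) =
        (P.subtype (θ u5) : Matrix (Fin 12) (Fin 12) F) *ᵥ bv (RingHom.id F) P.subtype T gs (5, a) := by
      intro a
      rw [h5]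
      have h4 : ∀ a, bv (RingHom.id F) P.subtype T gs (5, a) = cl T a := by
        intro a
        simp only [bv]
        rw [hFr.one, map_one, Matrix.one_mulVec]
        rfl
      rw [h4, mulVec_cl (hT u5)]
      exact Finset.sum_congr rfl fun c _ => by rw [h4]
    rintro _ ⟨⟨i, a⟩, rfl⟩ _ ⟨⟨j, b⟩, rfl⟩
    by_cases hi5 : i = 5
    · subst hi5
      by_cases hj5 : j = 5
      · subst hj5
        rw [h5', h5']
        exact H918.mem_GU.1 (hPU (θ u5).2) _ _
      · rw [h5, hi j b hj5, herm_sum_left, hort hj5]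
        apply Finset.sum_eq_zero
        intro c _
        rw [herm_smul_left, hort hj5, mul_zero]
    · by_cases hj5 : j = 5
      · subst hj5
        rw [h5, hi i a hi5, herm_sum_right hF, herm_eq_zero_swap hF (hort hi5 _ _)]
        apply Finset.sum_eq_zero
        intro c _
        rw [herm_smul_right, herm_eq_zero_swap hF (hort hi5 _ _), mul_zero]
      · rw [hi i a hi5, hi j b hj5]
  refine kill hH hcov hFr hle ?_ (R := (ρ u5).1) ?_ ⟨htU, ht⟩ h5 hi
  · exact H918.SUg_not_le_decompositionStabilizer hF (by norm_num) (by norm_num) (hFr.isMDec hcov)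
  · intro h1
    have h3 : ρ u5 = 1 := Units.ext h1
    exact u5_facts.2.1 (hρ (h3.trans (map_one ρ).symm))

end Cfsg.Agent.H930.Six
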