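import Cfsg.Agent.H930.SixNeg

/-!
# Counting in `A₆` (helper930)
-/

set_option autoImplicit false

namespace Cfsg.Agent.H930.Six

open Equiv

/-- `(0 1 2 3 4)` -/
def x5 : Perm (Fin 6) := c[0, 1, 2, 3, 4]

theorem six_ms (m : Multiset ℕ) (h : ∀ a ∈ m, 2 ≤ a) (hs : m.sum ≤ 6) :
    m = 0 ∨ m = {2} ∨ m = {3} ∨ m = {4} ∨ m = {5} ∨ m = {6} ∨ m = {2, 2} ∨ m = {3, 2} ∨ m = {4, 2} ∨ m = {3, 3} ∨
      m = {2, 2, 2} := by
  rcases Multiset.empty_or_exists_mem m with rfl | ⟨a, ha⟩
  · exact Or.inl rfl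
  obtain ⟨t, rfl⟩ := Multiset.exists_cons_of_mem ha
  have ha2 := h a ha
  rw [Multiset.sum_cons] at hs
  rcases Multiset.empty_or_exists_mem t with rfl | ⟨b, hb⟩
  · rw [Multiset.sum_zero, add_zero] at hs
    interval_cases a <;> simp
  obtain ⟨t, rfl⟩ := Multiset.exists_cons_of_mem hb
  have hb2 := h b (Multiset.mem_cons_of_mem hb)
  rw [Multiset.sum_cons] at hs
  rcases Multiset.empty_or_exists_mem t with rfl | ⟨c, hc⟩
  · rw [Multiset.sum_zero, add_zero] at hs
    have ha4 : a ≤ 4 := by omega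
    have hb4 : b ≤ 4 := by omega
    interval_cases a <;> interval_cases b <;> first | omega | decide
  obtain ⟨t, rfl⟩ := Multiset.exists_cons_of_mem hc
  have hc2 := h c (Multiset.mem_cons_of_mem (Multiset.mem_cons_of_mem hc))
  rw [Multiset.sum_cons] at hs
  rcases Multiset.empty_or_exists_mem t with rfl | ⟨d, hd⟩
  · rw [Multiset.sum_zero, add_zero] at hs
    obtain rfl : a = 2 := by omega
    obtain rfl : b = 2 := by omega
    obtain rfl : c = 2 := by omega
    decide
  · exfalso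
    obtain ⟨t, rfl⟩ := Multiset.exists_cons_of_mem hd
    have hd2 := h d (Multiset.mem_cons_of_mem (Multiset.mem_cons_of_mem (Multiset.mem_cons_of_mem hd)))
    rw [Multiset.sum_cons] at hs
    omega

/-- the even cycle types -/
theorem six_types (s : Perm (Fin 6)) (hs : Perm.sign s = 1) : s.cycleType = 0 ∨ s.cycleType = {3} ∨
    s.cycleType = {5} ∨ s.cycleType = {2, 2} ∨ s.cycleType = {4, 2} ∨ s.cycleType = {3, 3} := by
  have h1 := six_ms s.cycleType (fun a ha => Perm.two_le_of_mem_cycleType ha) (by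
    rw [Perm.sum_cycleType]
    exact (Finset.card_le_univ _).trans (by simp))
  rw [Perm.sign_of_cycleType] at hs
  rcases h1 with h | h | h | h | h | h | h | h | h | h | h
  · exact Or.inl h
  · rw [h] at hs; exact absurd hs (by decide)
  · exact Or.inr (Or.inl h)
  · rw [h] at hs; exact absurd hs (by decide)
  · exact Or.inr (Or.inr (Or.inl h))
  · rw [h] at hs; exact absurd hs (by decide)
  · exact Or.inr (Or.inr (Or.inr (Or.inl h)))
  · rw [h] at hs; exact absurd hs (by decide)
  · exact Or.inr (Or.inr (Or.inr (Or.inr (Or.inl h))))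
  · exact Or.inr (Or.inr (Or.inr (Or.inr (Or.inr h))))
  · rw [h] at hs; exact absurd hs (by decide)

theorem six_order {s : Perm (Fin 6)} {m : Multiset ℕ} (h : s.cycleType = m) : orderOf s = m.lcm := by
  rw [← Perm.lcm_cycleType, h]

theorem six_five {s : Perm (Fin 6)} : (Perm.sign s = 1 ∧ s ^ 5 = 1 ∧ s ≠ 1) ↔ s.cycleType = {5} := by
  constructor
  · rintro ⟨h1, h2, h3⟩
    have : Fact (Nat.Prime 5) := ⟨by norm_num⟩
    have h4 : orderOf s = 5 := orderOf_eq_prime h2 h3
    rcases six_types s h1 with h | h | h | h | h | h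
    · exact absurd (Perm.cycleType_eq_zero.1 h) h3
    · rw [six_order h] at h4; exact absurd h4 (by decide)
    · exact h
    · rw [six_order h] at h4; exact absurd h4 (by decide)
    · rw [six_order h] at h4; exact absurd h4 (by decide)
    · rw [six_order h] at h4; exact absurd h4 (by decide)
  · intro h
    have h4 : orderOf s = 5 := by rw [six_order h]; decide
    refine ⟨?_, ?_, ?_⟩
    · rw [Perm.sign_of_cycleType, h]; decide
    · rw [← h4, pow_orderOf_eq_one]
    · rintro rfl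
      rw [orderOf_one] at h4
      omega

theorem six_four {s : Perm (Fin 6)} : (Perm.sign s = 1 ∧ s ^ 4 = 1 ∧ s ^ 2 ≠ 1) ↔ s.cycleType = {4, 2} := by
  constructor
  · rintro ⟨h1, h2, h3⟩
    have h4 : orderOf s ∣ 4 := orderOf_dvd_of_pow_eq_one h2
    have h5 : ¬ orderOf s ∣ 2 := fun hd => h3 (orderOf_dvd_iff_pow_eq_one.1 hd)
    rcases six_types s h1 with h | h | h | h | h | h
    · rw [six_order h] at h5; exact absurd h5 (by decide)
    · rw [six_order h] at h4; exact absurd h4 (by decide)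
    · rw [six_order h] at h4; exact absurd h4 (by decide)
    · rw [six_order h] at h5; exact absurd h5 (by decide)
    · exact h
    · rw [six_order h] at h4; exact absurd h4 (by decide)
  · intro h
    have h4 : orderOf s = 4 := by rw [six_order h]; decide
    refine ⟨?_, ?_, ?_⟩
    · rw [Perm.sign_of_cycleType, h]; decide
    · rw [← h4, pow_orderOf_eq_one]
    · intro h5
      have h6 := orderOf_dvd_of_pow_eq_one h5
      rw [h4] at h6
      revert h6
      decide

theorem count_five : ((Finset.univ : Finset (Perm (Fin 6))).filter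
    (fun s => Perm.sign s = 1 ∧ s ^ 5 = 1 ∧ s ≠ 1)).card = 144 := by
  have h := Perm.card_of_cycleType (α := Fin 6) {5}
  rw [Finset.filter_congr fun s _ => six_five, h]
  decide

theorem count_four : ((Finset.univ : Finset (Perm (Fin 6))).filter
    (fun s => Perm.sign s = 1 ∧ s ^ 4 = 1 ∧ s ^ 2 ≠ 1)).card = 90 := by
  have h := Perm.card_of_cycleType (α := Fin 6) {4, 2}
  rw [Finset.filter_congr fun s _ => six_four, h]
  decide

theorem orders : ∀ s : Perm (Fin 6), Perm.sign s = 1 → s ^ 2 = 1 ∨ s ^ 3 = 1 ∨ s ^ 4 = 1 ∨ s ^ 5 = 1 := by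
  intro s hs
  have key : ∀ n, orderOf s = n → s ^ n = 1 := fun n hn => by rw [← hn, pow_orderOf_eq_one]
  rcases six_types s hs with h | h | h | h | h | h
  · left
    rw [Perm.cycleType_eq_zero.1 h, one_pow]
  · exact Or.inr (Or.inl (key 3 (by rw [six_order h]; decide)))
  · exact Or.inr (Or.inr (Or.inr (key 5 (by rw [six_order h]; decide))))
  · exact Or.inl (key 2 (by rw [six_order h]; decide))
  · exact Or.inr (Or.inr (Or.inl (key 4 (by rw [six_order h]; decide))))
  · exact Or.inr (Or.inl (key 3 (by rw [six_order h]; decide)))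

theorem conj_four : ∀ s : Perm (Fin 6), Perm.sign s = 1 → s ^ 4 = 1 → s ^ 2 ≠ 1 →
    ∃ t : Perm (Fin 6), Perm.sign t = 1 ∧ t * s = c4 * t := by
  intro s h1 h2 h3
  have h4 : s.cycleType = {4, 2} := six_four.1 ⟨h1, h2, h3⟩
  have h5 : c4.cycleType = {4, 2} := six_four.1 (by decide +kernel)
  obtain ⟨t, ht⟩ := isConj_iff.1 (Perm.isConj_iff_cycleType_eq.2 (h4.trans h5.symm))
  rcases Int.units_eq_one_or (Perm.sign t) with h | h
  · exact ⟨t, h, by rw [← ht, inv_mul_cancel_right]⟩
  · refine ⟨swap 4 5 * t, ?_, ?_⟩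
    · rw [map_mul, h]
      decide
    · have h6 : c4 * swap 4 5 = swap 4 5 * c4 := by decide
      rw [← mul_assoc c4, h6, mul_assoc, mul_assoc, ← ht, inv_mul_cancel_right]

theorem conj_five : ∀ s : Perm (Fin 6), Perm.sign s = 1 → s ^ 5 = 1 → s ≠ 1 →
    ∃ t : Perm (Fin 6), Perm.sign t = 1 ∧ (t * s = x5 * t ∨ t * s = x5 ^ 2 * t) := by
  intro s h1 h2 h3
  have h4 : s.cycleType = {5} := six_five.1 ⟨h1, h2, h3⟩
  have h5 : x5.cycleType = {5} := six_five.1 (by decide +kernel)
  obtain ⟨t, ht⟩ := isConj_iff.1 (Perm.isConj_iff_cycleType_eq.2 (h4.trans h5.symm))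
  rcases Int.units_eq_one_or (Perm.sign t) with h | h
  · exact ⟨t, h, Or.inl (by rw [← ht, inv_mul_cancel_right])⟩
  · have hu : (c[1, 2, 4, 3] : Perm (Fin 6)) * x5 = x5 ^ 2 * c[1, 2, 4, 3] := by decide
    refine ⟨c[1, 2, 4, 3] * t, ?_, Or.inr ?_⟩
    · rw [map_mul, h]
      decide
    · rw [← mul_assoc (x5 ^ 2), ← hu, mul_assoc, mul_assoc, ← ht, inv_mul_cancel_right]

end Cfsg.Agent.H930.Six
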