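import Cfsg.Agent.H926.CcNorm
import Cfsg.Agent.H879.ExtSymp

/-!
# Orders of normalisers of field subalgebras in isometry groups

`card_norm` : elements of `N(ρ(K))` preserving `f` correspond to pairs `(σ, A)`, `σ ∈ Gal(K/F)`, `A ∈ GL_m(K)`.
-/

set_option autoImplicit false
set_option linter.unusedSectionVars false

namespace Cfsg.Agent.H930.SpOrd

open Module Matrix Cfsg Cfsg.Geo
open scoped MatrixGroups Matrix
open Cfsg.Agent.H879 (toEq toEq_apply)
open Cfsg.Agent.H879.ExtField (modOf)
open Cfsg.Agent.H926.Cc (conjHom conjHom_apply conjHom_mul exists_sigma mem_normalizer_of_conjHom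
  conjHom_of_mem_normalizer)

variable {ι : Type} [Fintype ι] [DecidableEq ι] [Nonempty ι] {F K : Type*} [Field F] [Finite F] [Field K] [Algebra F K]
  [FiniteDimensional F K] {m : ℕ}

/-- The semilinear map of `(σ, A)`. -/
def semi (A : GL (Fin m) K) (σ : K ≃ₐ[F] K) (x : Fin m → K) : Fin m → K :=
  (A : Matrix (Fin m) (Fin m) K) *ᵥ (fun i => σ (x i))

theorem semi_add (A : GL (Fin m) K) (σ : K ≃ₐ[F] K) (x y : Fin m → K) :
    semi A σ (x + y) = semi A σ x + semi A σ y := by
  unfold semi
  rw [← Matrix.mulVec_add]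
  congr 1
  ext i
  simp

theorem semi_smul (A : GL (Fin m) K) (σ : K ≃ₐ[F] K) (k : K) (x : Fin m → K) :
    semi A σ (k • x) = σ k • semi A σ x := by
  unfold semi
  rw [← Matrix.mulVec_smul]
  congr 1
  ext i
  simp

/-- **Elements normalising the field.** -/
theorem card_norm (ρ : K →ₐ[F] Matrix ι ι F) (β : (Fin m → K) ≃ₗ[F] (ι → F))
    (hβ : ∀ (k : K) (x : Fin m → K), β (k • x) = ρ k *ᵥ β x) (f : (ι → F) → (ι → F) → F)
    (S : Subgroup (GL ι F)) (hS : ∀ g : GL ι F, g ∈ S ↔
      ∀ x y, f ((g : Matrix ι ι F) *ᵥ x) ((g : Matrix ι ι F) *ᵥ y) = f x y) :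
    Nat.card ↥(subalgebraNormalizer ρ.range ⊓ S) =
      Nat.card {t : (K ≃ₐ[F] K) × GL (Fin m) K //
        ∀ x y, f (β (semi t.2 t.1 x)) (β (semi t.2 t.1 y)) = f (β x) (β y)} := by
  classical
  -- the matrix of a semilinear map
  have hmat : ∀ (g : GL ι F) (σ : K ≃ₐ[F] K), (∀ e, (g : Matrix ι ι F) * ρ e = ρ (σ e) * (g : Matrix ι ι F)) →
      ∃ A : GL (Fin m) K, ∀ x, (g : Matrix ι ι F) *ᵥ β x = β (semi A σ x) := by
    intro g σ hg
    -- a K-linear equivalence
    let T : (Fin m → K) → (Fin m → K) := fun x => β.symm ((g : Matrix ι ι F) *ᵥ β (fun i => σ.symm (x i)))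
    have hβs : ∀ (k : K) (v : ι → F), β.symm (ρ k *ᵥ v) = k • β.symm v := by
      intro k v
      apply β.injective
      rw [hβ, LinearEquiv.apply_symm_apply, LinearEquiv.apply_symm_apply]
    let L : (Fin m → K) →ₗ[K] (Fin m → K) :=
      { toFun := T
        map_add' := fun x y => by
          show β.symm _ = β.symm _ + β.symm _
          rw [← map_add, ← Matrix.mulVec_add, ← map_add]
          congr 3
          ext i
          simp
        map_smul' := fun k x => by
          show β.symm _ = k • β.symm _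
          rw [← hβs, Matrix.mulVec_mulVec]
          have h1 : (fun i => σ.symm ((k • x) i)) = σ.symm k • (fun i => σ.symm (x i)) := by
            ext i
            simp
          rw [h1, hβ, Matrix.mulVec_mulVec, hg, AlgEquiv.apply_symm_apply] }
    have hLinj : Function.Injective L := by
      intro x y hxy
      have h1 : β.symm ((g : Matrix ι ι F) *ᵥ β (fun i => σ.symm (x i))) =
        β.symm ((g : Matrix ι ι F) *ᵥ β (fun i => σ.symm (y i))) := hxy
      have h2 := β.symm.injective h1
      have h3 := congrArg (fun v => ((g⁻¹ : GL ι F) : Matrix ι ι F) *ᵥ v) h2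
      simp only [Matrix.mulVec_mulVec, ← Units.val_mul, inv_mul_cancel, Units.val_one, Matrix.one_mulVec] at h3
      have h4 := β.injective h3
      ext i
      exact σ.symm.injective (congrFun h4 i)
    have hM : IsUnit (LinearMap.toMatrix' L) := by
      rw [LinearMap.isUnit_toMatrix'_iff]
      rw [LinearMap.isUnit_iff_ker_eq_bot, LinearMap.ker_eq_bot]
      exact hLinj
    obtain ⟨A, hA⟩ := hM
    refine ⟨A, fun x => ?_⟩
    have h1 : semi A σ x = L (fun i => σ (x i)) := by
      unfold semi
      rw [hA, LinearMap.toMatrix'_mulVec]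
    rw [h1]
    show _ = β (β.symm _)
    rw [LinearEquiv.apply_symm_apply]
    congr 2
    ext i
    simp
  have hex : ∀ g : ↥(subalgebraNormalizer ρ.range ⊓ S), ∃ t : (K ≃ₐ[F] K) × GL (Fin m) K,
      (∀ e, ((g : GL ι F) : Matrix ι ι F) * ρ e = ρ (t.1 e) * ((g : GL ι F) : Matrix ι ι F)) ∧
      ∀ x, ((g : GL ι F) : Matrix ι ι F) *ᵥ β x = β (semi t.2 t.1 x) := by
    rintro ⟨g, hg⟩
    obtain ⟨σ, hσ⟩ := exists_sigma (conjHom_of_mem_normalizer hg.1)
    obtain ⟨A, hA⟩ := hmat g σ hσ
    exact ⟨(σ, A), hσ, hA⟩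
  choose t ht1 ht2 using hex
  let Ψ : ↥(subalgebraNormalizer ρ.range ⊓ S) → {t : (K ≃ₐ[F] K) × GL (Fin m) K //
        ∀ x y, f (β (semi t.2 t.1 x)) (β (semi t.2 t.1 y)) = f (β x) (β y)} := fun g =>
    ⟨t g, fun x y => by
      rw [← ht2, ← ht2]
      exact (hS _).1 g.2.2 _ _⟩
  apply Nat.card_congr
  refine Equiv.ofBijective Ψ ⟨?_, ?_⟩
  · intro g h hgh
    have h1 : t g = t h := congrArg Subtype.val hgh
    apply Subtype.ext
    apply Units.ext
    apply Matrix.mulVec_injective
    funext v
    obtain ⟨x, rfl⟩ := β.surjective v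
    rw [ht2, ht2, h1]
  · rintro ⟨⟨σ, A⟩, hs⟩
    -- the element
    let L : (ι → F) →ₗ[F] (ι → F) :=
      { toFun := fun v => β (semi A σ (β.symm v))
        map_add' := fun v w => by rw [map_add, semi_add, map_add]
        map_smul' := fun c v => by
          rw [map_smul, RingHom.id_apply]
          have h1 : c • β.symm v = algebraMap F K c • β.symm v := by
            ext i
            simp [Algebra.smul_def]
          have h2 : ∀ w : Fin m → K, algebraMap F K c • w = c • w := by
            intro w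
            ext i
            simp [Algebra.smul_def]
          rw [h1, semi_smul, σ.commutes, h2, map_smul] }
    have hLinj : Function.Injective L := by
      intro v w hvw
      have h1 : β (semi A σ (β.symm v)) = β (semi A σ (β.symm w)) := hvw
      have h2 := β.injective h1
      have h3 := congrArg (fun v => ((A⁻¹ : GL (Fin m) K) : Matrix (Fin m) (Fin m) K) *ᵥ v) h2
      unfold semi at h3
      simp only [Matrix.mulVec_mulVec, ← Units.val_mul, inv_mul_cancel, Units.val_one, Matrix.one_mulVec] at h3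
      apply β.symm.injective
      ext i
      exact σ.injective (congrFun h3 i)
    have hM : IsUnit (LinearMap.toMatrix' L) := by
      rw [LinearMap.isUnit_toMatrix'_iff]
      rw [LinearMap.isUnit_iff_ker_eq_bot, LinearMap.ker_eq_bot]
      exact hLinj
    obtain ⟨g, hg⟩ := hM
    have hgx : ∀ x, (g : Matrix ι ι F) *ᵥ β x = β (semi A σ x) := by
      intro x
      rw [hg, LinearMap.toMatrix'_mulVec]
      show β (semi A σ (β.symm (β x))) = _
      rw [LinearEquiv.symm_apply_apply]
    have hsem : ∀ e, (g : Matrix ι ι F) * ρ e = ρ (σ e) * (g : Matrix ι ι F) := by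
      intro e
      apply Matrix.mulVec_injective
      funext v
      obtain ⟨x, rfl⟩ := β.surjective v
      show ((g : Matrix ι ι F) * ρ e) *ᵥ β x = (ρ (σ e) * (g : Matrix ι ι F)) *ᵥ β x
      rw [← Matrix.mulVec_mulVec, ← Matrix.mulVec_mulVec, ← hβ, hgx, hgx, semi_smul, hβ]
    have hgN : g ∈ subalgebraNormalizer ρ.range := by
      apply mem_normalizer_of_conjHom
      intro e
      refine ⟨σ e, ?_⟩
      show ρ (σ e) = (g : Matrix ι ι F) * ρ e * ((g⁻¹ : GL ι F) : Matrix ι ι F)
      rw [hsem e, mul_assoc, ← Units.val_mul, mul_inv_cancel, Units.val_one, mul_one]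
    have hgS : g ∈ S := by
      rw [hS]
      intro v w
      obtain ⟨x, rfl⟩ := β.surjective v
      obtain ⟨y, rfl⟩ := β.surjective w
      rw [hgx, hgx]
      exact hs x y
    refine ⟨⟨g, hgN, hgS⟩, ?_⟩
    apply Subtype.ext
    set τ := t ⟨g, hgN, hgS⟩ with hτ
    have h1 : τ.1 = σ := by
      ext e
      have h2 := ht1 ⟨g, hgN, hgS⟩ e
      have h3 := hsem e
      have h4 : ρ (τ.1 e) * (g : Matrix ι ι F) = ρ (σ e) * (g : Matrix ι ι F) := by
        rw [← h3]; exact h2.symm
      have h5 : ρ (τ.1 e) = ρ (σ e) := by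
        have h6 := congrArg (fun M => M * ((g⁻¹ : GL ι F) : Matrix ι ι F)) h4
        simp only [mul_assoc, ← Units.val_mul, mul_inv_cancel, Units.val_one, mul_one] at h6
        exact h6
      exact ρ.toRingHom.injective h5
    have h2 : τ.2 = A := by
      apply Units.ext
      apply Matrix.mulVec_injective
      funext x
      have h3 := ht2 ⟨g, hgN, hgS⟩ (fun i => σ.symm (x i))
      have h4 := hgx (fun i => σ.symm (x i))
      have h5 := β.injective (h3.symm.trans h4)
      rw [← hτ, h1] at h5
      unfold semi at h5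
      simpa using h5
    exact Prod.ext h1 h2

end Cfsg.Agent.H930.SpOrd
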