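import Cfsg.Agent.H930.SpOrdA
import Cfsg.Agent.S0242

/-!
# The order of `Sp₂(q²).2 < Sp₄(q)`
-/

set_option autoImplicit false
set_option linter.unusedSectionVars false

namespace Cfsg.Agent.H930.SpOrd

open Module Matrix Cfsg Cfsg.Geo
open scoped MatrixGroups Matrix
open Cfsg.Agent.ClassicalGeometry.SympBasic
open Cfsg.Agent.H879.ExtField (modOf exists_phi ell_ext exists_rep)

/-- `|SL₂(K)|` -/
theorem card_SL2 {K : Type*} [Field K] [Fintype K] {q : ℕ} (hq : Fintype.card K = q) :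
    Nat.card (Matrix.SpecialLinearGroup (Fin 2) K) = q * (q ^ 2 - 1) := by
  have h1 := Cfsg.Agent.S0242.result hq 2 (by norm_num)
  rw [Fin.prod_univ_two] at h1
  have h2 : 2 ≤ q := by rw [← hq]; exact Fintype.one_lt_card
  obtain ⟨t, rfl⟩ := Nat.exists_eq_add_of_le h2
  have e1 : (2 + t) - 1 = t + 1 := by omega
  have e2 : (2 + t) ^ 2 - 1 = (t + 1) * (t + 3) := by
    have : (2 + t) ^ 2 = (t + 1) * (t + 3) + 1 := by ring
    omega
  have e3 : (2 + t) ^ 2 - (2 + t) ^ ((0 : Fin 2) : ℕ) = (t + 1) * (t + 3) := by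
    rw [Fin.val_zero, pow_zero, e2]
  have e4 : (2 + t) ^ 2 - (2 + t) ^ ((1 : Fin 2) : ℕ) = (2 + t) * (t + 1) := by
    have : (2 + t) ^ 2 = (2 + t) * (t + 1) + (2 + t) := by ring
    rw [Fin.val_one, pow_one]
    omega
  rw [e1, e3, e4] at h1
  rw [e2]
  apply Nat.eq_of_mul_eq_mul_left (by omega : 0 < t + 1)
  rw [h1]
  ring

/-- The determinant of two vectors. -/
def dt {K : Type*} [CommRing K] (x y : Fin 2 → K) : K := x 0 * y 1 - x 1 * y 0

theorem dt_mulVec {K : Type*} [CommRing K] (A : Matrix (Fin 2) (Fin 2) K) (x y : Fin 2 → K) :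
    dt (A *ᵥ x) (A *ᵥ y) = A.det * dt x y := by
  unfold dt
  rw [Matrix.det_fin_two]
  simp only [Matrix.mulVec, dotProduct, Fin.sum_univ_two]
  ring

theorem dt_semi {F K : Type*} [Field F] [Field K] [Algebra F K] (A : GL (Fin 2) K) (σ : K ≃ₐ[F] K)
    (x y : Fin 2 → K) : dt (semi A σ x) (semi A σ y) = (A : Matrix (Fin 2) (Fin 2) K).det * σ (dt x y) := by
  unfold semi
  rw [dt_mulVec]
  congr 1
  unfold dt
  simp only [map_sub, map_mul]

/-- Matrices with prescribed determinants. -/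
theorem card_det {G K : Type*} [Field K] [Finite K] (c : G → K) (hc : ∀ g, c g ≠ 0) :
    Nat.card {t : G × GL (Fin 2) K // (t.2 : Matrix (Fin 2) (Fin 2) K).det = c t.1} =
      Nat.card G * Nat.card (Matrix.SpecialLinearGroup (Fin 2) K) := by
  rw [← Nat.card_prod]
  apply Nat.card_congr
  let D : G → GL (Fin 2) K := fun g => Matrix.GeneralLinearGroup.mkOfDetNeZero !![c g, 0; 0, 1] (by
    rw [Matrix.det_fin_two_of]; simpa using hc g)
  have hD : ∀ g, ((D g : GL (Fin 2) K) : Matrix (Fin 2) (Fin 2) K).det = c g := by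
    intro g
    show (!![c g, 0; 0, 1] : Matrix (Fin 2) (Fin 2) K).det = c g
    rw [Matrix.det_fin_two_of]; ring
  exact
    { toFun := fun t => (t.1.1, ⟨(((D t.1.1)⁻¹ * t.1.2 : GL (Fin 2) K) : Matrix (Fin 2) (Fin 2) K), by
        have h1 := congrArg Matrix.det (congrArg Units.val (mul_inv_cancel_left (D t.1.1) t.1.2))
        rw [Units.val_mul, Matrix.det_mul, hD, t.2] at h1
        exact mul_left_cancel₀ (hc t.1.1) (by rw [h1, mul_one])⟩)
      invFun := fun t => ⟨(t.1, D t.1 * (t.2 : GL (Fin 2) K)), by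
        show ((D t.1 * (t.2 : GL (Fin 2) K) : GL (Fin 2) K) : Matrix (Fin 2) (Fin 2) K).det = _
        rw [Units.val_mul, Matrix.det_mul, hD]
        have : ((t.2 : GL (Fin 2) K) : Matrix (Fin 2) (Fin 2) K).det = 1 := t.2.2
        rw [this, mul_one]⟩
      left_inv := fun t => by
        apply Subtype.ext
        refine Prod.ext rfl ?_
        apply Units.ext
        show ((D t.1.1 : GL (Fin 2) K) : Matrix (Fin 2) (Fin 2) K) *
          (((D t.1.1)⁻¹ * t.1.2 : GL (Fin 2) K) : Matrix (Fin 2) (Fin 2) K) = _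
        rw [← Units.val_mul, mul_inv_cancel_left]
      right_inv := fun t => by
        refine Prod.ext rfl ?_
        apply Subtype.ext
        show (((D t.1)⁻¹ * (D t.1 * (t.2 : GL (Fin 2) K)) : GL (Fin 2) K) : Matrix (Fin 2) (Fin 2) K) = _
        rw [inv_mul_cancel_left]
        rfl }

abbrev I4 : Type := Fin 2 ⊕ Fin 2

theorem card_I4 : Fintype.card I4 = 4 := by decide

variable {F : Type*} [Field F] [Fintype F]

theorem card_four {E : Type*} [Field E] [Algebra F E] [FiniteDimensional F E] (hfr : finrank F E = 2)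
    (ρ : E →ₐ[F] Matrix I4 I4 F) (hsa : ∀ k x y, sympForm 2 F (ρ k *ᵥ x) y = sympForm 2 F x (ρ k *ᵥ y))
    (halt : ∀ k x, sympForm 2 F (ρ k *ᵥ x) x = 0) :
    Nat.card ↥(subalgebraNormalizer ρ.range ⊓ spGL 2 F) = 2 * (Nat.card F ^ 2 * (Nat.card F ^ 4 - 1)) := by
  have hfin : Finite E := Module.finite_of_finite F
  let _ : Fintype E := Fintype.ofFinite E
  let instM : Module E (I4 → F) := modOf ρ
  have hsmul : ∀ (k : E) (v : I4 → F), k • v = ρ k *ᵥ v := fun _ _ => rfl
  have instT : IsScalarTower F E (I4 → F) := by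
    refine ⟨fun c k v => ?_⟩
    rw [hsmul, hsmul, map_smul, smul_mulVec]
  obtain ⟨ℓ, hℓ⟩ : ∃ ℓ : E →ₗ[F] F, ℓ ≠ 0 := exists_ne 0
  obtain ⟨φ, hφ, hφa⟩ := exists_phi (V := I4 → F) hℓ (sympForm 2 F)
    sympForm_add_left sympForm_add_right sympForm_smul_left
    (fun k x y => by rw [hsmul, hsmul, hsa]) (fun k x => by rw [hsmul, halt])
  have hskew : ∀ x y, φ x y = - φ y x := by
    intro x y
    have := hφa (x + y)
    simp only [map_add, LinearMap.add_apply, hφa, zero_add, add_zero] at this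
    exact eq_neg_of_add_eq_zero_right this
  -- a hyperbolic pair
  obtain ⟨u, w, huw⟩ : ∃ u w, φ u w = 1 := by
    obtain ⟨x, hx⟩ : ∃ x : I4 → F, x ≠ 0 := exists_ne 0
    obtain ⟨y, hy⟩ : ∃ y, φ x y ≠ 0 := by
      by_contra hcon
      push Not at hcon
      apply hx
      apply eq_zero_of_forall_sympForm_right
      intro w
      rw [← hφ, hcon, map_zero]
    refine ⟨x, (φ x y)⁻¹ • y, ?_⟩
    rw [map_smul, smul_eq_mul, inv_mul_cancel₀ hy]
  let β₀ : (Fin 2 → E) →ₗ[F] (I4 → F) :=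
    { toFun := fun x => x 0 • u + x 1 • w
      map_add' := fun x y => by
        simp only [Pi.add_apply, add_smul]
        abel
      map_smul' := fun c x => by
        simp only [Pi.smul_apply, smul_assoc, RingHom.id_apply, smul_add] }
  have hβ₀ : ∀ x, β₀ x = x 0 • u + x 1 • w := fun _ => rfl
  have hφβ : ∀ x y, φ (β₀ x) (β₀ y) = dt x y := by
    intro x y
    rw [hβ₀, hβ₀]
    simp only [map_add, LinearMap.add_apply, map_smul, LinearMap.smul_apply, smul_eq_mul, hφa, huw, hskew w u]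
    unfold dt
    ring
  have hinj : Function.Injective β₀ := by
    rw [← LinearMap.ker_eq_bot, LinearMap.ker_eq_bot']
    intro x hx
    have h1 := hφβ x ![0, 1]
    have h2 := hφβ x ![1, 0]
    rw [hx, map_zero, LinearMap.zero_apply] at h1 h2
    unfold dt at h1 h2
    simp at h1 h2
    ext i
    fin_cases i
    · exact h1.symm
    · exact h2
  let β : (Fin 2 → E) ≃ₗ[F] (I4 → F) := LinearEquiv.ofInjectiveOfFinrankEq β₀ hinj (by
    rw [Module.finrank_pi_fintype, Fin.sum_univ_two, hfr, Module.finrank_fintype_fun_eq_card, card_I4])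
  have hββ : ∀ x, β x = β₀ x := fun _ => rfl
  rw [card_norm ρ β (fun k x => ?_) (sympForm 2 F) (spGL 2 F) (fun g => Iff.rfl)]
  · -- the determinants
    have hc : ∀ σ : E ≃ₐ[F] E, ∃ c : E, ∀ z, ℓ (z * c) = ℓ (σ.symm z) := by
      intro σ
      obtain ⟨c, hc⟩ := exists_rep hℓ (ℓ ∘ₗ σ.symm.toLinearMap)
      exact ⟨c, fun z => (hc z).symm⟩
    choose c hc using hc
    have hc0 : ∀ σ, c σ ≠ 0 := by
      intro σ h0
      apply hℓ
      ext z
      have := hc σ (σ z)
      rw [h0, mul_zero, map_zero, AlgEquiv.symm_apply_apply] at this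
      rw [← this, LinearMap.zero_apply]
    have hiff : ∀ t : (E ≃ₐ[F] E) × GL (Fin 2) E,
        (∀ x y, sympForm 2 F (β (semi t.2 t.1 x)) (β (semi t.2 t.1 y)) = sympForm 2 F (β x) (β y)) ↔
          (t.2 : Matrix (Fin 2) (Fin 2) E).det = c t.1 := by
      rintro ⟨σ, A⟩
      have h1 : ∀ x y, sympForm 2 F (β (semi A σ x)) (β (semi A σ y)) =
          ℓ (σ (dt x y) * (A : Matrix (Fin 2) (Fin 2) E).det) := by
        intro x y
        rw [← hφ, hββ, hββ, hφβ, dt_semi, mul_comm]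
      have h2 : ∀ x y, sympForm 2 F (β x) (β y) = ℓ (dt x y) := by
        intro x y
        rw [← hφ, hββ, hββ, hφβ]
      constructor
      · intro h
        apply ell_ext hℓ
        intro k
        have h3 := h ![σ.symm k, 0] ![0, 1]
        have h4 : dt ![σ.symm k, 0] ![0, (1 : E)] = σ.symm k := by
          unfold dt
          simp
        rw [h1, h2, h4, AlgEquiv.apply_symm_apply] at h3
        rw [h3, ← hc]
      · intro h x y
        simp only at h
        rw [h1, h2, h, hc, AlgEquiv.symm_apply_apply]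
    rw [Nat.card_congr (Equiv.subtypeEquivRight hiff), card_det c hc0, card_SL2 (q := Fintype.card E) rfl,
      IsGalois.card_aut_eq_finrank, hfr, Module.card_eq_pow_finrank (K := F) (V := E), hfr, ← pow_mul,
      Nat.card_eq_fintype_card]
  · rw [hββ, hββ, ← hsmul, hβ₀, hβ₀, smul_add, smul_smul, smul_smul]
    rfl

/-- **The order of `Sp₂(q²).2`.** -/
theorem card_T4 {K : Subalgebra F (Matrix I4 I4 F)} (hK : IsFieldSubalgebra 2 K)
    (hsa : IsSelfAdjointFor (sympForm 2 F) K) (hkv : ∀ k ∈ K, ∀ v : I4 → F, (sympForm 2 F) (Matrix.mulVec k v) v = 0) :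
    Nat.card ↥(subalgebraNormalizer K ⊓ spGL 2 F) = 2 * (Nat.card F ^ 2 * (Nat.card F ^ 4 - 1)) := by
  obtain ⟨E, hE, hA, ρ, rfl, hfr⟩ := Cfsg.Agent.H954.FieldSub.exists_field hK
  have : FiniteDimensional F E := Module.finite_of_finrank_pos (by rw [hfr]; norm_num)
  exact card_four hfr ρ (fun k x y => hsa _ ⟨k, rfl⟩ x y) (fun k x => hkv _ ⟨k, rfl⟩ x)

end Cfsg.Agent.H930.SpOrd
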